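import Mathlib
set_option linter.all false

set_option autoImplicit false

namespace Cfsg.Agent.SmallSimple.Burnside

open Subgroup

variable {G : Type*} [Group G] [Finite G]

/-- A finite simple `p`-group has order `p`. -/
theorem card_eq_of_simple_isPGroup [IsSimpleGroup G] {p : ℕ} [hp : Fact p.Prime]
    (h : IsPGroup p G) : Nat.card G = p := by
  have : Nontrivial (center G) := h.center_nontrivial
  have htop : center G = ⊤ :=
    (Subgroup.Normal.eq_bot_or_eq_top inferInstance).resolve_left
      ((Subgroup.nontrivial_iff_ne_bot _).1 inferInstance)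
  let _ : CommGroup G := Group.commGroupOfCenterEqTop htop
  have hprime : (Nat.card G).Prime := IsSimpleGroup.prime_card
  obtain ⟨n, hn⟩ := h.exists_card_eq
  rw [hn] at hprime ⊢
  have := (Nat.Prime.eq_one_of_pow hprime)
  rw [this, pow_one]

/-- **Burnside**: in a finite simple group, `N(P) ≤ C(P)` for a Sylow `p`-subgroup with `p ∣ |G|`
forces `|G| = p`. -/
theorem card_eq_of_normalizer_le_centralizer [IsSimpleGroup G] {p : ℕ} [hp : Fact p.Prime]
    (hdvd : p ∣ Nat.card G) (P : Sylow p G)
    (hP : normalizer P ≤ centralizer (P : Set G)) : Nat.card G = p := by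
  have hc := MonoidHom.ker_transferSylow_isComplement' P hP
  rcases Subgroup.Normal.eq_bot_or_eq_top (H := (MonoidHom.transferSylow P hP).ker) inferInstance
    with h | h
  · rw [h] at hc
    have hPtop : (P : Subgroup G) = ⊤ := Subgroup.isComplement'_bot_left.1 hc
    apply card_eq_of_simple_isPGroup
    have := P.isPGroup'
    rw [hPtop] at this
    exact this.of_equiv Subgroup.topEquiv
  · rw [h] at hc
    have hPbot : (P : Subgroup G) = ⊥ := Subgroup.isComplement'_top_left.1 hc
    exact absurd hPbot (P.ne_bot_of_dvd_card hdvd)

/-- In a finite simple group, a cyclic Sylow subgroup for the smallest prime divisor forces the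
order to be prime. -/
theorem card_eq_of_isCyclic_minFac [IsSimpleGroup G] {p : ℕ} [hp : Fact p.Prime]
    (hmin : (Nat.card G).minFac = p) (P : Sylow p G) (hP : IsCyclic P) : Nat.card G = p :=
  card_eq_of_normalizer_le_centralizer (hmin ▸ Nat.minFac_dvd _) P
    (hP.normalizer_le_centralizer hmin)

end Cfsg.Agent.SmallSimple.Burnside
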