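import Mathlib
set_option linter.all false

set_option autoImplicit false

namespace Cfsg.Agent.SmallSimple.KleinFourAut

/-- Automorphisms act on the non-identity elements. -/
def autPerm (V : Type*) [Group V] : MulAut V →* Equiv.Perm {x : V // x ≠ 1} where
  toFun φ := φ.toEquiv.subtypeEquiv (fun x => by simp)
  map_one' := by ext x; simp
  map_mul' φ ψ := by ext x; simp

theorem autPerm_injective (V : Type*) [Group V] : Function.Injective (autPerm V) := by
  intro φ ψ h
  ext x
  by_cases hx : x = 1
  · simp [hx]
  · have := congrArg (fun σ => ((σ ⟨x, hx⟩ : {x : V // x ≠ 1}) : V)) h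
    simpa [autPerm] using this

/-- The order of `Aut(V)` divides `(|V| - 1)!`. -/
theorem card_mulAut_dvd (V : Type*) [Group V] [Finite V] :
    Nat.card (MulAut V) ∣ (Nat.card V - 1).factorial := by
  classical
  have h1 : Nat.card {x : V // x ≠ 1} = Nat.card V - 1 := by
    cases nonempty_fintype V
    simp [Nat.card_eq_fintype_card]
  have := Subgroup.card_dvd_of_injective _ (autPerm_injective V)
  rwa [Nat.card_perm, h1] at this

/-- A group of order `4` that is not cyclic is a Klein four-group. -/
theorem isKleinFour_of_not_isCyclic {V : Type*} [Group V] (h : Nat.card V = 4)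
    (hc : ¬ IsCyclic V) : IsKleinFour V := by
  have hfin : Finite V := Nat.finite_of_card_ne_zero (by omega)
  refine ⟨h, ?_⟩
  have h2 : ∀ x : V, x ^ 2 = 1 := by
    intro x
    have hx : orderOf x ∣ 2 ^ 2 := by
      have := orderOf_dvd_natCard x
      rwa [h] at this
    obtain ⟨k, hk, hk'⟩ := (Nat.dvd_prime_pow Nat.prime_two).1 hx
    have hk2 : k ≠ 2 := by
      rintro rfl
      exact hc (isCyclic_of_orderOf_eq_card x (by rw [hk', h]; rfl))
    have : orderOf x ∣ 2 := by
      rw [hk']
      exact (Nat.pow_dvd_pow 2 (show k ≤ 1 by omega))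
    exact orderOf_dvd_iff_pow_eq_one.1 this
  have hdvd : Monoid.exponent V ∣ 2 := Monoid.exponent_dvd_of_forall_pow_eq_one h2
  rcases (Nat.dvd_prime Nat.prime_two).1 hdvd with h' | h'
  · exfalso
    have := Monoid.exp_eq_one_iff.1 h'
    have := Nat.card_of_subsingleton (1 : V)
    omega
  · exact h'

end Cfsg.Agent.SmallSimple.KleinFourAut
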