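import Mathlib
import Cfsg.Agent.SmallSimple.Burnside
import Cfsg.Agent.SmallSimple.KleinFourAut
set_option linter.all false

set_option autoImplicit false

namespace Cfsg.Agent.SmallSimple.EvenOrder

variable {G : Type*} [Group G] [Finite G] [IsSimpleGroup G]

omit [Finite G] [IsSimpleGroup G] in
theorem card_ne_prime (hG : ¬ IsMulCommutative G) {p : ℕ} (hp : p.Prime) : Nat.card G ≠ p := by
  intro h
  have : Fact p.Prime := ⟨hp⟩
  have : IsCyclic G := isCyclic_of_prime_card (p := p) h
  exact hG (IsCyclic.isMulCommutative)

/-- In a non-abelian simple group a Sylow subgroup for the smallest prime divisor is not cyclic. -/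
theorem not_isCyclic_sylow_minFac (hG : ¬ IsMulCommutative G) {p : ℕ} [hp : Fact p.Prime]
    (hmin : (Nat.card G).minFac = p) (P : Sylow p G) : ¬ IsCyclic P := fun h =>
  card_ne_prime hG hp.out (SmallSimple.Burnside.card_eq_of_isCyclic_minFac hmin P h)

/-- In a non-abelian simple group of even order a Sylow `2`-subgroup is not cyclic. -/
theorem not_isCyclic_sylow_two (hG : ¬ IsMulCommutative G) (h2 : 2 ∣ Nat.card G)
    (T : Sylow 2 G) : ¬ IsCyclic T :=
  not_isCyclic_sylow_minFac hG ((Nat.minFac_eq_two_iff _).2 h2) T

/-- The square of the smallest prime divisor divides the order of a non-abelian simple group. -/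
theorem minFac_sq_dvd_card (hG : ¬ IsMulCommutative G) : (Nat.card G).minFac ^ 2 ∣ Nat.card G := by
  have hne : Nat.card G ≠ 1 := (Finite.one_lt_card (α := G)).ne'
  have hp : Fact (Nat.card G).minFac.Prime := ⟨Nat.minFac_prime hne⟩
  let P : Sylow (Nat.card G).minFac G := default
  obtain ⟨k, hk⟩ := P.isPGroup'.exists_card_eq
  have hcyc := not_isCyclic_sylow_minFac hG rfl P
  have hk2 : 2 ≤ k := by
    by_contra hlt
    push Not at hlt
    apply hcyc
    interval_cases k
    · have : Subsingleton P := (Nat.card_eq_one_iff_unique.1 (by simpa using hk)).1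
      infer_instance
    · exact isCyclic_of_prime_card (p := (Nat.card G).minFac) (by simpa using hk)
  exact (hk ▸ Nat.pow_dvd_pow _ hk2 : (Nat.card G).minFac ^ 2 ∣ Nat.card P).trans
    (Subgroup.card_subgroup_dvd_card _)

/-- A non-abelian simple group of even order has order divisible by `4`. -/
theorem four_dvd_card (hG : ¬ IsMulCommutative G) (h2 : 2 ∣ Nat.card G) : 4 ∣ Nat.card G := by
  have := minFac_sq_dvd_card hG
  rwa [(Nat.minFac_eq_two_iff _).2 h2] at this

/-- In a non-abelian simple group of even order not divisible by `8`, the Sylow `2`-subgroups have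
order `4`, are Klein four-groups and `[N(T) : C(T)] = 3`. -/
theorem klein_four_of_not_dvd_eight (hG : ¬ IsMulCommutative G) (h2 : 2 ∣ Nat.card G)
    (h8 : ¬ 8 ∣ Nat.card G) (T : Sylow 2 G) :
    IsKleinFour T ∧ (Subgroup.centralizer ((T : Subgroup G) : Set G)).relIndex
      (Subgroup.normalizer ((T : Subgroup G) : Set G)) = 3 := by
  have hne2 : Nat.card G ≠ 2 := card_ne_prime hG Nat.prime_two
  have hncyc : ¬ IsCyclic T := not_isCyclic_sylow_two hG h2 T
  have hcard : Nat.card T = 4 := by
    obtain ⟨k, hk⟩ := T.isPGroup'.exists_card_eq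
    have hk3 : k < 3 := by
      by_contra hge
      apply h8
      have h1 : 2 ^ 3 ∣ Nat.card T := hk ▸ Nat.pow_dvd_pow 2 (by omega)
      exact h1.trans (Subgroup.card_subgroup_dvd_card _)
    interval_cases k
    · exfalso
      apply hncyc
      have : Subsingleton T := (Nat.card_eq_one_iff_unique.1 (by simpa using hk)).1
      infer_instance
    · exfalso
      exact hncyc (isCyclic_of_prime_card (p := 2) (by simpa using hk))
    · simpa using hk
  have hK : IsKleinFour T := SmallSimple.KleinFourAut.isKleinFour_of_not_isCyclic hcard hncyc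
  refine ⟨hK, ?_⟩
  have hcomm : IsMulCommutative T := hK.isMulCommutative
  have key := Subgroup.card_dvd_of_injective _
    (QuotientGroup.kerLift_injective (T : Subgroup G).normalizerMonoidHom)
  rw [Subgroup.normalizerMonoidHom_ker, ← Subgroup.index, ← Subgroup.relIndex] at key
  have key6 : (Subgroup.centralizer ((T : Subgroup G) : Set G)).relIndex
      (Subgroup.normalizer ((T : Subgroup G) : Set G)) ∣ 6 := by
    refine key.trans ((SmallSimple.KleinFourAut.card_mulAut_dvd T).trans ?_)
    rw [hcard]
    decide
  have hodd : ¬ 2 ∣ (Subgroup.centralizer ((T : Subgroup G) : Set G)).relIndex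
      (Subgroup.normalizer ((T : Subgroup G) : Set G)) := by
    intro h
    have h1 := Subgroup.relIndex_dvd_of_le_left (Subgroup.normalizer ((T : Subgroup G) : Set G))
      (T : Subgroup G).le_centralizer
    have h2 := Subgroup.relIndex_dvd_index_of_le (T : Subgroup G).le_normalizer
    exact T.not_dvd_index (h.trans (h1.trans h2))
  have hne1 : (Subgroup.centralizer ((T : Subgroup G) : Set G)).relIndex
      (Subgroup.normalizer ((T : Subgroup G) : Set G)) ≠ 1 := by
    intro h
    exact hne2 (SmallSimple.Burnside.card_eq_of_normalizer_le_centralizer h2 T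
      (Subgroup.relIndex_eq_one.1 h))
  have hle : (Subgroup.centralizer ((T : Subgroup G) : Set G)).relIndex
      (Subgroup.normalizer ((T : Subgroup G) : Set G)) ≤ 6 := Nat.le_of_dvd (by norm_num) key6
  generalize (Subgroup.centralizer ((T : Subgroup G) : Set G)).relIndex
      (Subgroup.normalizer ((T : Subgroup G) : Set G)) = n at *
  interval_cases n <;> omega

/-- A non-abelian simple group of even order not divisible by `8` has order divisible by `3`,
hence by `12`. -/
theorem three_dvd_card (hG : ¬ IsMulCommutative G) (h2 : 2 ∣ Nat.card G)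
    (h8 : ¬ 8 ∣ Nat.card G) : 3 ∣ Nat.card G := by
  have h := (klein_four_of_not_dvd_eight hG h2 h8 default).2
  rw [← h]
  exact (Subgroup.relIndex_dvd_card _ _).trans (Subgroup.card_subgroup_dvd_card _)

theorem twelve_dvd_or_eight_dvd (hG : ¬ IsMulCommutative G) (h2 : 2 ∣ Nat.card G) :
    12 ∣ Nat.card G ∨ 8 ∣ Nat.card G := by
  by_cases h8 : 8 ∣ Nat.card G
  · exact Or.inr h8
  · left
    have h3 := three_dvd_card hG h2 h8
    have h4 := four_dvd_card hG h2
    omega

end Cfsg.Agent.SmallSimple.EvenOrder
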