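import Cfsg.Agent.SmallSimple.SylowPrime
set_option linter.all false

/-!
Counting fixed points on the set of Sylow `p`-subgroups when these have order `p`.
-/

set_option autoImplicit false

namespace Cfsg.Agent.SmallSimple.SylowPrimeCount

open Subgroup MulAction
open Cfsg.Agent.SmallSimple.SylowPrime

variable {G : Type*} [Group G]

/-- `[N(P) : C(P)]` divides `p - 1` when `P` has prime order `p`. -/
theorem relIndex_dvd_pred [Finite G] {p : ℕ} (hp : p.Prime) {P : Subgroup G} (hP : Nat.card P = p) :
    (centralizer (P : Set G)).relIndex (normalizer (P : Set G)) ∣ p - 1 := by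
  have := Fact.mk hp
  have hcyc : IsCyclic P := isCyclic_of_prime_card hP
  have key := card_dvd_of_injective _ (QuotientGroup.kerLift_injective P.normalizerMonoidHom)
  rw [normalizerMonoidHom_ker, ← index, ← relIndex] at key
  rwa [hcyc.card_mulAut, hP, Nat.totient_prime hp] at key

theorem card_normalizer_dvd [Finite G] {p : ℕ} (hp : p.Prime) {P : Subgroup G}
    (hP : Nat.card P = p) (hle : centralizer (P : Set G) ≤ normalizer (P : Set G)) :
    Nat.card (normalizer (P : Set G)) ∣ (p - 1) * Nat.card (centralizer (P : Set G)) := by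
  have h1 := relIndex_mul_relIndex (⊥ : Subgroup G) _ _ bot_le hle
  rw [relIndex_bot_left, relIndex_bot_left] at h1
  rw [← h1, mul_comm]
  exact Nat.mul_dvd_mul_right (relIndex_dvd_pred hp hP) _

theorem centralizer_le_normalizer' (P : Subgroup G) :
    centralizer (P : Set G) ≤ normalizer (P : Set G) := by
  intro x hx
  rw [mem_normalizer_iff]
  rw [mem_centralizer_iff] at hx
  intro h
  constructor
  · intro hh
    rw [← hx h hh]
    simpa using hh
  · intro hh
    have := hx _ hh
    have h2 : x * h * x⁻¹ = h := by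
      have h3 : x * (x * h * x⁻¹) = (x * h) := by
        rw [← this]; group
      have := mul_left_cancel h3
      exact this
    rwa [h2] at hh

/-- If `u` centralizes the Sylow subgroup `P` of order `p`, the number of Sylow `p`-subgroups
normalized by `u` is congruent to one modulo `p`. -/
theorem card_fixedBy_modEq_one [Finite G] {p : ℕ} [hp : Fact p.Prime] (P : Sylow p G) {u : G}
    (hu : u ∈ centralizer (P : Set G)) :
    Nat.card (fixedBy (Sylow p G) u) ≡ 1 [MOD p] := by
  let act : MulAction P (fixedBy (Sylow p G) u) :=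
    { smul := fun g Q => ⟨(g : G) • Q.1, by
        have h1 : u • Q.1 = Q.1 := Q.2
        have h2 : (g : G) * u = u * g := (mem_centralizer_iff.1 hu) g g.2
        show u • (g : G) • Q.1 = (g : G) • Q.1
        rw [← mul_smul, ← h2, mul_smul, h1]⟩
      one_smul := fun Q => by
        apply Subtype.ext
        show (1 : G) • Q.1 = Q.1
        rw [one_smul]
      mul_smul := fun g h Q => by
        apply Subtype.ext
        show ((g : G) * (h : G)) • Q.1 = (g : G) • (h : G) • Q.1
        rw [mul_smul] }
  have h1 := P.2.card_modEq_card_fixedPoints (fixedBy (Sylow p G) u)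
  have huP : u • P = P := by
    rw [Sylow.smul_eq_iff_mem_normalizer]
    exact centralizer_le_normalizer' (P : Subgroup G) hu
  have h2 : fixedPoints P (fixedBy (Sylow p G) u) = {⟨P, huP⟩} := by
    ext Q
    rw [Set.mem_singleton_iff]
    constructor
    · intro hQ
      have h3 : Q.1 ∈ fixedPoints (P : Subgroup G) (Sylow p G) := by
        intro g
        exact congrArg Subtype.val (hQ g)
      rw [P.2.sylow_mem_fixedPoints_iff] at h3
      exact Subtype.ext (Sylow.ext (P.3 Q.1.2 h3))
    · rintro rfl
      intro g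
      apply Subtype.ext
      show (g : G) • P = P
      rw [Sylow.smul_eq_iff_mem_normalizer]
      exact le_normalizer g.2
  rw [h2] at h1
  simpa using h1

/-- If `x` normalizes but does not centralize a Sylow `p`-subgroup of order `p`, then it
normalizes few Sylow `p`-subgroups. -/
theorem mul_card_fixedBy_le [Finite G] {p : ℕ} [hp : Fact p.Prime] (P : Sylow p G)
    (hP : Nat.card P = p) {x : G} (hxN : x ∈ normalizer (P : Set G))
    (hxC : x ∉ centralizer (P : Set G)) :
    p * Nat.card (fixedBy (Sylow p G) x) ≤ Nat.card (Sylow p G) + (p - 1) := by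
  have hxP : x • P = P := Sylow.smul_eq_iff_mem_normalizer.2 hxN
  -- the map (g, Q) ↦ g • Q on `P × (Fix x \ {P})`
  let F : (P × {Q : fixedBy (Sylow p G) x // Q ≠ ⟨P, hxP⟩}) → {Q : Sylow p G // Q ≠ P} :=
    fun gQ => ⟨(gQ.1 : G) • gQ.2.1.1, by
      intro h
      apply gQ.2.2
      apply Subtype.ext
      show gQ.2.1.1 = P
      have h2 : gQ.2.1.1 = (gQ.1 : G)⁻¹ • P := eq_inv_smul_iff.2 h
      rw [h2, Sylow.smul_eq_iff_mem_normalizer]
      exact inv_mem (le_normalizer gQ.1.2)⟩
  have hF : Function.Injective F := by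
    rintro ⟨g, ⟨⟨Q, hQ⟩, hQP⟩⟩ ⟨g', ⟨⟨Q', hQ'⟩, hQP'⟩⟩ h
    have h1 : (g : G) • Q = (g' : G) • Q' := congrArg Subtype.val h
    have h2 : Q' = ((g' : G)⁻¹ * g) • Q := by rw [mul_smul, h1, inv_smul_smul]
    have hmem : (g' : G)⁻¹ * g ∈ (P : Subgroup G) := mul_mem (inv_mem g'.2) g.2
    have h3 : ((g' : G)⁻¹ * g) • Q = Q := by
      apply smul_eq_of_fixed hp.out hP hxN hxC hmem hQ
      rw [← h2]
      exact hQ'
    have h4 : (g' : G)⁻¹ * g = 1 := by
      by_contra h5
      apply hQP
      apply Subtype.ext
      show Q = P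
      have h6 : (P : Subgroup G) ≤ normalizer (Q : Set G) := by
        intro w hw
        obtain ⟨k, rfl⟩ := mem_zpowers_iff.1 (mem_zpowers_of_card_prime hp.out hP hmem h5 hw)
        exact zpow_mem (Sylow.smul_eq_iff_mem_normalizer.1 h3) k
      have h7 : Q ∈ fixedPoints (P : Subgroup G) (Sylow p G) :=
        (sylow_mem_fixedPoints_iff (P : Subgroup G)).2 h6
      rw [P.2.sylow_mem_fixedPoints_iff] at h7
      exact Sylow.ext (P.3 Q.2 h7)
    have h8 : g = g' := by
      apply Subtype.ext
      have := congrArg ((g' : G) * ·) h4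
      simpa using this
    have h9 : Q = Q' := by rw [h2, h3]
    subst h8 h9
    rfl
  have h1 := Nat.card_le_card_of_injective F hF
  rw [Nat.card_prod] at h1
  have h2 : Nat.card {Q : fixedBy (Sylow p G) x // Q ≠ ⟨P, hxP⟩} + 1 = Nat.card (fixedBy (Sylow p G) x) := by
    classical
    rw [← Finite.card_option]
    exact Nat.card_congr (Equiv.optionSubtypeNe _)
  have h3 : Nat.card {Q : Sylow p G // Q ≠ P} + 1 = Nat.card (Sylow p G) := by
    classical
    rw [← Finite.card_option]
    exact Nat.card_congr (Equiv.optionSubtypeNe _)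
  have hp1 := hp.out.one_lt
  rw [← h2, ← h3, mul_add, mul_one]
  have h4 : Nat.card P = p := hP
  rw [h4] at h1
  omega

/-- Parity of the number of fixed points of an involution. -/
theorem card_fixedBy_modEq_two {X : Type*} [MulAction G X] [Finite X] {u : G} (hu : orderOf u = 2) :
    Nat.card X ≡ Nat.card (fixedBy X u) [MOD 2] := by
  have : Fact (Nat.Prime 2) := ⟨Nat.prime_two⟩
  have h1 : IsPGroup 2 (zpowers u) :=
    IsPGroup.of_card (n := 1) (by rw [Nat.card_zpowers, hu, pow_one])
  have h2 := h1.card_modEq_card_fixedPoints X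
  have h3 : fixedPoints (zpowers u) X = fixedBy X u := by
    ext a
    constructor
    · intro h
      exact h ⟨u, mem_zpowers u⟩
    · rintro h ⟨g, hg⟩
      obtain ⟨k, rfl⟩ := mem_zpowers_iff.1 hg
      have h4 : u ∈ stabilizer G a := h
      exact zpow_mem h4 k
  rwa [h3] at h2

/-- In a simple group with more than one Sylow `p`-subgroup, a nontrivial element does not
normalize all Sylow `p`-subgroups. -/
theorem exists_smul_ne [Finite G] [IsSimpleGroup G] {p : ℕ} [Fact p.Prime]
    (h : Nat.card (Sylow p G) ≠ 1) {u : G} (hu : u ≠ 1) : ∃ Q : Sylow p G, u • Q ≠ Q := by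
  by_contra hcon
  push Not at hcon
  have hker : (MulAction.toPermHom G (Sylow p G)).ker = ⊤ := by
    refine (Subgroup.Normal.eq_bot_or_eq_top inferInstance).resolve_left ?_
    intro hbot
    apply hu
    have : u ∈ (MulAction.toPermHom G (Sylow p G)).ker := by
      rw [MonoidHom.mem_ker]
      ext Q : 1
      exact hcon Q
    rw [hbot] at this
    exact Subgroup.mem_bot.1 this
  apply h
  rw [Nat.card_eq_one_iff_unique]
  refine ⟨⟨fun P Q => ?_⟩, inferInstance⟩
  obtain ⟨g, rfl⟩ := MulAction.exists_smul_eq G P Q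
  have hg : g ∈ (MulAction.toPermHom G (Sylow p G)).ker := by rw [hker]; exact Subgroup.mem_top g
  rw [MonoidHom.mem_ker] at hg
  have := congrArg (fun f : Equiv.Perm (Sylow p G) => f P) hg
  exact this.symm

theorem card_fixedBy_lt [Finite G] [IsSimpleGroup G] {p : ℕ} [Fact p.Prime]
    (h : Nat.card (Sylow p G) ≠ 1) {u : G} (hu : u ≠ 1) :
    Nat.card (fixedBy (Sylow p G) u) < Nat.card (Sylow p G) := by
  obtain ⟨Q, hQ⟩ := exists_smul_ne h hu
  refine lt_of_le_of_ne (Finite.card_subtype_le _) ?_
  intro heq
  have h1 : (fixedBy (Sylow p G) u) = Set.univ := by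
    apply Set.eq_of_subset_of_ncard_le (Set.subset_univ _) _ (Set.toFinite _)
    rw [Set.ncard_univ]
    exact heq.ge
  apply hQ
  have : Q ∈ (fixedBy (Sylow p G) u) := h1 ▸ Set.mem_univ Q
  exact this

/-- If `u` centralizes `N(P)` and normalizes many Sylow `p`-subgroups, then
`|C(u)| = |N(P)| * |Fix u|`. -/
theorem card_centralizer_eq [Finite G] {p : ℕ} [hp : Fact p.Prime] (P : Sylow p G)
    (hP : Nat.card P = p) {u : G} (hu : normalizer (P : Set G) ≤ centralizer {u})
    (hbig : Nat.card (Sylow p G) + (p - 1) < p * Nat.card (fixedBy (Sylow p G) u)) :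
    Nat.card (centralizer {u}) =
      Nat.card (normalizer (P : Set G)) * Nat.card (fixedBy (Sylow p G) u) := by
  have hPu : (P : Subgroup G) ≤ centralizer {u} := le_normalizer.trans hu
  have horb : orbit (centralizer {u}) P = fixedBy (Sylow p G) u := by
    ext Q
    constructor
    · rintro ⟨⟨g, hg⟩, rfl⟩
      show u • g • P = g • P
      have h1 : u * g = g * u := by
        have := mem_centralizer_iff.1 hg u rfl
        exact this
      rw [← mul_smul, h1, mul_smul]
      congr 1
      rw [Sylow.smul_eq_iff_mem_normalizer]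
      apply centralizer_le_normalizer' (P : Subgroup G)
      rw [mem_centralizer_iff]
      intro h hh
      have := mem_centralizer_iff.1 (hPu hh) u rfl
      exact this.symm
    · intro hQ
      have hQN : u ∈ normalizer (Q : Set G) := Sylow.smul_eq_iff_mem_normalizer.1 hQ
      have hQcard : Nat.card Q = p := (Nat.card_congr (Sylow.equiv Q P).toEquiv).trans hP
      have hQC : u ∈ centralizer (Q : Set G) := by
        by_contra hcon
        have := mul_card_fixedBy_le Q hQcard hQN hcon
        omega
      have hQu : (Q : Subgroup G) ≤ centralizer {u} := by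
        intro w hw
        rw [mem_centralizer_singleton_iff]
        exact mem_centralizer_iff.1 hQC w hw
      obtain ⟨h, hh⟩ := exists_smul_eq (centralizer {u}) (P.subtype hPu) (Q.subtype hQu)
      rw [Sylow.smul_subtype] at hh
      refine ⟨h, ?_⟩
      exact Sylow.subtype_injective hh
  have h1 : Nat.card (orbit (centralizer {u}) P) * Nat.card (stabilizer (centralizer {u}) P) =
      Nat.card (centralizer {u}) := by
    rw [← Nat.card_prod]
    exact Nat.card_congr (orbitProdStabilizerEquivGroup (centralizer {u}) P)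
  have h2 : Nat.card (stabilizer (centralizer {u}) P) = Nat.card (normalizer (P : Set G)) := by
    have h3 : stabilizer (centralizer {u}) P = (normalizer (P : Set G)).subgroupOf (centralizer {u}) := by
      ext ⟨g, hg⟩
      rw [mem_stabilizer_iff, mem_subgroupOf]
      exact Sylow.smul_eq_iff_mem_normalizer
    rw [h3]
    exact Nat.card_congr (subgroupOfEquivOfLe hu).toEquiv
  rw [← h1, h2, horb, mul_comm]

/-- A nontrivial normal subgroup of a finite `p`-group meets the centre. -/
theorem exists_mem_center_of_normal [Finite G] {p : ℕ} [hp : Fact p.Prime] (hG : IsPGroup p G)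
    (N : Subgroup G) [hN : N.Normal] (hN1 : N ≠ ⊥) : ∃ z ∈ N, z ∈ center G ∧ z ≠ 1 := by
  have hdvd : p ∣ Nat.card N := by
    have h1 : Nontrivial N := (Subgroup.nontrivial_iff_ne_bot N).2 hN1
    obtain ⟨n, hn0, hn⟩ := (hG.to_subgroup N).nontrivial_iff_card.1 h1
    rw [hn]
    exact dvd_pow_self p hn0.ne'
  let act : MulAction G N := MulAction.compHom N (MulAut.conjNormal (H := N))
  have hone : (1 : N) ∈ fixedPoints G N := by
    intro g
    show (MulAut.conjNormal g) (1 : N) = 1
    exact map_one _
  obtain ⟨z, hz, hz1⟩ := hG.exists_fixed_point_of_prime_dvd_card_of_fixed_point N hdvd hone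
  refine ⟨z, z.2, ?_, ?_⟩
  · rw [mem_center_iff]
    intro g
    have h2 : MulAut.conjNormal g z = z := hz g
    have h3 := congrArg Subtype.val h2
    rw [MulAut.conjNormal_apply] at h3
    calc g * z = (g * z * g⁻¹) * g := by group
      _ = z * g := by rw [h3]
  · intro h
    apply hz1
    exact Subtype.ext h.symm

end Cfsg.Agent.SmallSimple.SylowPrimeCount
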