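import Mathlib
import Cfsg.Agent.SmallSimple.Burnside
set_option linter.all false

set_option autoImplicit false

namespace Cfsg.Agent.SmallSimple.SylowCount

open Subgroup Cfsg.Agent.SmallSimple.Burnside

variable {G : Type*} [Group G] [Finite G]

/-- In a finite simple group of order divisible by `p` and different from `p`, there is more than
one Sylow `p`-subgroup. -/
theorem card_sylow_ne_one [IsSimpleGroup G] {p : ℕ} [hp : Fact p.Prime]
    (hdvd : p ∣ Nat.card G) (hne : Nat.card G ≠ p) : Nat.card (Sylow p G) ≠ 1 := by
  intro h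
  have hs : Subsingleton (Sylow p G) := (Nat.card_eq_one_iff_unique.1 h).1
  obtain ⟨P⟩ : Nonempty (Sylow p G) := inferInstance
  have hn : (P : Subgroup G).Normal := P.normal_of_subsingleton
  rcases hn.eq_bot_or_eq_top with hb | ht
  · exact P.ne_bot_of_dvd_card hdvd hb
  · apply hne
    apply card_eq_of_simple_isPGroup
    have := P.isPGroup'
    rw [ht] at this
    exact this.of_equiv Subgroup.topEquiv

/-- A simple group with a proper subgroup `H` has order dividing `|G : H|!`. -/
theorem card_dvd_factorial_index [IsSimpleGroup G] (H : Subgroup G) (hH : H ≠ ⊤) :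
    Nat.card G ∣ (H.index).factorial := by
  have hker : (MulAction.toPermHom G (G ⧸ H)).ker = ⊥ := by
    rcases Subgroup.Normal.eq_bot_or_eq_top (H := (MulAction.toPermHom G (G ⧸ H)).ker)
      inferInstance with h | h
    · exact h
    · exfalso
      apply hH
      rw [← Subgroup.normalCore_eq_ker] at h
      exact top_le_iff.1 (h ▸ Subgroup.normalCore_le H)
  have hinj : Function.Injective (MulAction.toPermHom G (G ⧸ H)) :=
    (MonoidHom.ker_eq_bot_iff _).1 hker
  have := Subgroup.card_dvd_of_injective _ hinj
  rwa [Nat.card_perm] at this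

/-- A simple group of order divisible by `p` and different from `p` has order dividing
`n_p!`, where `n_p` is the number of Sylow `p`-subgroups. -/
theorem card_dvd_factorial_card_sylow [IsSimpleGroup G] {p : ℕ} [hp : Fact p.Prime]
    (hdvd : p ∣ Nat.card G) (hne : Nat.card G ≠ p) :
    Nat.card G ∣ (Nat.card (Sylow p G)).factorial := by
  obtain ⟨P⟩ : Nonempty (Sylow p G) := inferInstance
  rw [P.card_eq_index_normalizer]
  apply card_dvd_factorial_index
  intro h
  apply card_sylow_ne_one hdvd hne
  rw [P.card_eq_index_normalizer, h, Subgroup.index_top]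

/-- In a simple group of order divisible by `p` and different from `p`, an abelian Sylow
`p`-subgroup is not its own normalizer: `n_p ≠ |G : P|`. -/
theorem card_sylow_ne_index_of_comm [IsSimpleGroup G] {p : ℕ} [hp : Fact p.Prime]
    (hdvd : p ∣ Nat.card G) (hne : Nat.card G ≠ p) (P : Sylow p G)
    (hcomm : ∀ x ∈ P, ∀ y ∈ P, x * y = y * x) :
    Nat.card (Sylow p G) ≠ (P : Subgroup G).index := by
  intro h
  apply hne
  apply card_eq_of_normalizer_le_centralizer hdvd P
  have h1 : (P : Subgroup G) = normalizer (P : Set G) := by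
    rw [P.card_eq_index_normalizer] at h
    refine Subgroup.eq_of_le_of_card_ge le_normalizer ?_
    have h2 := (P : Subgroup G).card_mul_index
    have h3 := (normalizer (P : Set G)).card_mul_index
    rw [h] at h3
    have h4 : 0 < (P : Subgroup G).index := Nat.pos_of_ne_zero Subgroup.index_ne_zero_of_finite
    exact le_of_eq (Nat.eq_of_mul_eq_mul_right h4 (h3.trans h2.symm))
  rw [← h1]
  intro x hx
  rw [Subgroup.mem_centralizer_iff]
  intro y hy
  exact hcomm y hy x hx

/-- The same with `P` of order `p`. -/
theorem card_sylow_mul_ne_card [IsSimpleGroup G] {p : ℕ} [hp : Fact p.Prime]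
    (hdvd : p ∣ Nat.card G) (hne : Nat.card G ≠ p) (hsq : ¬ p ^ 2 ∣ Nat.card G) :
    Nat.card (Sylow p G) * p ≠ Nat.card G := by
  obtain ⟨P⟩ : Nonempty (Sylow p G) := inferInstance
  have hcardP : Nat.card P = p := by
    rw [P.card_eq_multiplicity]
    have h1 : (Nat.card G).factorization p < 2 := by
      by_contra hcon
      exact hsq ((hp.out.pow_dvd_iff_le_factorization Nat.card_pos.ne').2 (not_lt.1 hcon))
    have h2 : 0 < (Nat.card G).factorization p :=
      hp.out.factorization_pos_of_dvd Nat.card_pos.ne' hdvd
    have h3 : (Nat.card G).factorization p = 1 := by omega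
    rw [h3, pow_one]
  have hcyc : IsCyclic P := isCyclic_of_prime_card hcardP
  intro h
  refine card_sylow_ne_index_of_comm hdvd hne P ?_ ?_
  · intro x hx y hy
    have := hcyc.isMulCommutative.is_comm.comm (⟨x, hx⟩ : P) ⟨y, hy⟩
    exact congrArg Subtype.val this
  · have h2 := (P : Subgroup G).card_mul_index
    have h3 : Nat.card P * (P : Subgroup G).index = Nat.card P * Nat.card (Sylow p G) := by
      rw [hcardP] at h2 ⊢
      rw [h2, ← h, mul_comm]
    exact (Nat.eq_of_mul_eq_mul_left (by rw [hcardP]; exact hp.out.pos) h3).symm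

end Cfsg.Agent.SmallSimple.SylowCount
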