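import Mathlib
import Cfsg.Agent.SmallSimple.SylowCount
set_option linter.all false

-- part: SmallSimple/SylowPSq
section
set_option autoImplicit false

namespace Cfsg.Agent.SmallSimple.SylowPSq

open Subgroup Cfsg.Agent.SmallSimple.Burnside Cfsg.Agent.SmallSimple.SylowCount

/-- If `p < s` are primes and `s ∣ p ^ 2 - 1` then `p = 2`, `s = 3`. -/
theorem arith {p s : ℕ} (hp : p.Prime) (hs : s.Prime) (hlt : p < s) (h : s ∣ p ^ 2 - 1) :
    p = 2 ∧ s = 3 := by
  have h1 : p ^ 2 - 1 = (p + 1) * (p - 1) := by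
    have := Nat.sq_sub_sq p 1
    simpa using this
  rw [h1] at h
  have hp2 := hp.two_le
  rcases (Nat.Prime.dvd_mul hs).1 h with h | h
  · have h2 : s = p + 1 := le_antisymm (Nat.le_of_dvd (by omega) h) (by omega)
    rcases hp.eq_two_or_odd' with h3 | h3
    · omega
    · rcases hs.eq_two_or_odd' with h4 | h4
      · omega
      · exfalso
        obtain ⟨a, ha⟩ := h3
        obtain ⟨b, hb⟩ := h4
        omega
  · have := Nat.le_of_dvd (by omega) h
    omega

/-- An automorphism of prime order `s > p` of a group of order `p ^ 2`: then `p = 2`, `s = 3`. -/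
theorem aut_psq {P : Type*} [Group P] [Finite P] {p s : ℕ} [hp : Fact p.Prime] [hs : Fact s.Prime]
    (hlt : p < s) (hcard : Nat.card P = p ^ 2) (g : MulAut P) (hg : orderOf g = s) :
    p = 2 ∧ s = 3 := by
  have hS : IsPGroup s (Subgroup.zpowers g) := by
    apply IsPGroup.of_card (n := 1)
    rw [Nat.card_zpowers, hg, pow_one]
  have key := hS.card_modEq_card_fixedPoints P
  rw [hcard] at key
  have hF : Nat.card (MulAction.fixedPoints (Subgroup.zpowers g) P) =
      Nat.card (FixedPoints.subgroup (Subgroup.zpowers g) P) := rfl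
  rw [hF] at key
  have hdvd : Nat.card (FixedPoints.subgroup (Subgroup.zpowers g) P) ∣ p ^ 2 := by
    rw [← hcard]
    exact Subgroup.card_subgroup_dvd_card _
  have hp2 := hp.out.two_le
  obtain ⟨k, hk, hkk⟩ := (Nat.dvd_prime_pow hp.out).1 hdvd
  rw [hkk] at key
  have hk3 : k = 0 ∨ k = 1 ∨ k = 2 := by omega
  rcases hk3 with rfl | rfl | rfl
  · rw [pow_zero] at key
    have h1 : 1 ≡ p ^ 2 [MOD s] := key.symm
    have h2 := (Nat.modEq_iff_dvd' (Nat.one_le_pow _ _ (by omega))).1 h1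
    exact arith hp.out hs.out hlt h2
  · exfalso
    rw [pow_one] at key
    have h1 : p ≡ p ^ 2 [MOD s] := key.symm
    have h2 := (Nat.modEq_iff_dvd' (Nat.le_self_pow (by norm_num) _)).1 h1
    have h3 : p ^ 2 - p = p * (p - 1) := by
      rw [Nat.mul_sub, pow_two, mul_one]
    rw [h3] at h2
    rcases (Nat.Prime.dvd_mul hs.out).1 h2 with h | h
    · have := Nat.le_of_dvd (by omega) h; omega
    · have := Nat.le_of_dvd (by omega) h; omega
  · exfalso
    have htop : FixedPoints.subgroup (Subgroup.zpowers g) P = ⊤ := by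
      apply Subgroup.eq_top_of_card_eq
      rw [hkk, hcard]
    have hg1 : g = 1 := by
      ext x
      have hx : x ∈ FixedPoints.subgroup (Subgroup.zpowers g) P := htop ▸ Subgroup.mem_top x
      have := hx ⟨g, Subgroup.mem_zpowers g⟩
      exact this
    rw [hg1, orderOf_one] at hg
    exact hs.out.one_lt.ne hg

variable {G : Type*} [Group G] [Finite G]

/-- In a finite simple group whose Sylow `p`-subgroup for the smallest prime divisor `p` has order
`p ^ 2`, one has `p = 2` and `3 ∣ |G|`. -/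
theorem two_of_card_sylow_sq [IsSimpleGroup G] {p : ℕ} [hp : Fact p.Prime]
    (hmin : (Nat.card G).minFac = p) (P : Sylow p G) (hcard : Nat.card P = p ^ 2)
    (hne : Nat.card G ≠ p) : p = 2 ∧ 3 ∣ Nat.card G := by
  have hcomm : IsMulCommutative P := IsPGroup.isMulCommutative_of_card_eq_prime_sq hcard
  have hdvd : p ∣ Nat.card G := hmin ▸ Nat.minFac_dvd _
  have hnot : ¬ normalizer (P : Set G) ≤ centralizer (P : Set G) := fun h =>
    hne (card_eq_of_normalizer_le_centralizer hdvd P h)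
  -- the automizer is nontrivial
  have hker := (P : Subgroup G).normalizerMonoidHom_ker
  set f := (P : Subgroup G).normalizerMonoidHom with hf
  have hcardrange : Nat.card f.range = (centralizer (P : Set G)).relIndex (normalizer (P : Set G)) := by
    rw [Subgroup.relIndex, ← Subgroup.index_ker, hker]
    rfl
  have hne1 : Nat.card f.range ≠ 1 := by
    rw [hcardrange]
    intro h
    exact hnot (Subgroup.relIndex_eq_one.1 h)
  obtain ⟨s, hs, hsdvd⟩ := Nat.exists_prime_and_dvd hne1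
  have : Fact s.Prime := ⟨hs⟩
  have hdvdidx : Nat.card f.range ∣ (P : Subgroup G).index := by
    rw [hcardrange]
    have h1 : (P : Subgroup G) ≤ centralizer (P : Set G) := by
      intro x hx
      rw [Subgroup.mem_centralizer_iff]
      intro y hy
      have := hcomm.is_comm.comm (⟨y, hy⟩ : P) ⟨x, hx⟩
      exact congrArg Subtype.val this
    exact (Subgroup.relIndex_dvd_of_le_left _ h1).trans
      (Subgroup.relIndex_dvd_index_of_le Subgroup.le_normalizer)
  have hsidx : s ∣ (P : Subgroup G).index := hsdvd.trans hdvdidx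
  have hsG : s ∣ Nat.card G := hsidx.trans (Subgroup.index_dvd_card _)
  have hsp : p < s := by
    have h1 : p ≤ s := hmin ▸ Nat.minFac_le_of_dvd hs.two_le hsG
    have h2 : p ≠ s := by
      rintro rfl
      exact P.not_dvd_index hsidx
    omega
  obtain ⟨g, hg⟩ := exists_prime_orderOf_dvd_card' s hsdvd
  have hg' : orderOf (g : MulAut (P : Subgroup G)) = s := by
    rw [← hg]; exact Subgroup.orderOf_coe g
  have := aut_psq hsp hcard (g : MulAut (P : Subgroup G)) hg'
  exact ⟨this.1, this.2 ▸ hsG⟩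

end Cfsg.Agent.SmallSimple.SylowPSq
end

-- part: SmallSimple/PSqQR
section
set_option autoImplicit false

namespace Cfsg.Agent.SmallSimple.PSqQR

open Subgroup Cfsg.Agent.SmallSimple.Burnside Cfsg.Agent.SmallSimple.SylowCount
  Cfsg.Agent.SmallSimple.SylowPSq

variable {G : Type*} [Group G] [Finite G]

/-- Order of a Sylow subgroup from a factorization `|G| = m * p ^ k` with `p ∤ m`. -/
theorem card_sylow_of_card_eq {p m k : ℕ} [hp : Fact p.Prime] (hG : Nat.card G = m * p ^ k)
    (hm : ¬ p ∣ m) (P : Sylow p G) : Nat.card P = p ^ k := by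
  have hm0 : m ≠ 0 := fun h => hm (h ▸ dvd_zero p)
  rw [P.card_eq_multiplicity, hG, Nat.factorization_mul hm0 (pow_ne_zero _ hp.out.ne_zero)]
  simp [Nat.factorization_eq_zero_of_not_dvd hm, hp.out.factorization_self]

/-- Index of a Sylow subgroup from a factorization `|G| = m * p ^ k` with `p ∤ m`. -/
theorem index_sylow_of_card_eq {p m k : ℕ} [hp : Fact p.Prime] (hG : Nat.card G = m * p ^ k)
    (hm : ¬ p ∣ m) (P : Sylow p G) : (P : Subgroup G).index = m := by
  have h := (P : Subgroup G).card_mul_index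
  have h2 := card_sylow_of_card_eq hG hm P
  rw [hG, h2, mul_comm] at h
  exact Nat.eq_of_mul_eq_mul_right (pow_pos hp.out.pos _) h

/-- The number of Sylow `p`-subgroups divides `m` if `|G| = m * p ^ k` with `p ∤ m`. -/
theorem card_sylow_dvd_of_card_eq {p m k : ℕ} [hp : Fact p.Prime] (hG : Nat.card G = m * p ^ k)
    (hm : ¬ p ∣ m) : Nat.card (Sylow p G) ∣ m := by
  obtain ⟨P⟩ : Nonempty (Sylow p G) := inferInstance
  rw [← index_sylow_of_card_eq hG hm P]
  exact P.card_dvd_index

/-- A simple group of order `12 r`, `r ≥ 5` prime, has order `60`. -/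
theorem card_twelve_mul [IsSimpleGroup G] {r : ℕ} (hr : r.Prime) (h2 : r ≠ 2) (h3 : r ≠ 3)
    (hG : Nat.card G = 12 * r) : Nat.card G = 60 := by
  have hfr : Fact r.Prime := ⟨hr⟩
  have hr2 := hr.two_le
  have h4 : r ≠ 4 := by rintro rfl; exact absurd hr (by norm_num)
  have h12 : ¬ r ∣ 12 := by
    intro h
    have : r ∣ 2 * 2 * 3 := h
    rcases (Nat.Prime.dvd_mul hr).1 this with h | h
    · rcases (Nat.Prime.dvd_mul hr).1 h with h | h
      · exact h2 ((Nat.prime_dvd_prime_iff_eq hr Nat.prime_two).1 h)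
      · exact h2 ((Nat.prime_dvd_prime_iff_eq hr Nat.prime_two).1 h)
    · exact h3 ((Nat.prime_dvd_prime_iff_eq hr Nat.prime_three).1 h)
  have hdvd : r ∣ Nat.card G := hG ▸ Dvd.intro_left 12 rfl
  have hne : Nat.card G ≠ r := by omega
  have hn12 : Nat.card (Sylow r G) ∣ 12 := card_sylow_dvd_of_card_eq (k := 1) (by rw [hG, pow_one]) h12
  have hn1 := card_sylow_ne_one hdvd hne
  have hsq : ¬ r ^ 2 ∣ Nat.card G := by
    intro h
    rw [hG, pow_two] at h
    exact h12 (Nat.dvd_of_mul_dvd_mul_right hr.pos h)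
  have hns := card_sylow_mul_ne_card hdvd hne hsq
  have hmod := card_sylow_modEq_one r G
  rw [hG] at hns
  set n := Nat.card (Sylow r G) with hn
  have hn12' : n ≠ 12 := fun h => hns (by rw [h])
  have hnpos : 0 < n := Nat.card_pos
  have hnle : n ≤ 12 := Nat.le_of_dvd (by norm_num) hn12
  have hrn : r ∣ n - 1 := (Nat.modEq_iff_dvd' hnpos).1 hmod.symm
  have hrle : r ≤ n - 1 := Nat.le_of_dvd (by omega) hrn
  have hn6 : n = 6 := by
    interval_cases n <;> omega
  rw [hn6] at hrn
  have h5 : r ∣ 5 := hrn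
  have hr5 := (Nat.prime_dvd_prime_iff_eq hr (by norm_num)).1 h5
  rw [hG, hr5]

/-- Distinct primes. -/
theorem card_eq_sixty_of_distinct [IsSimpleGroup G] {p q r : ℕ} (hp : p.Prime) (hq : q.Prime)
    (hr : r.Prime) (hpq : p ≠ q) (hpr : p ≠ r) (hqr : q ≠ r) (hG : Nat.card G = p ^ 2 * q * r) :
    Nat.card G = 60 := by
  have hfp : Fact p.Prime := ⟨hp⟩
  have hfq : Fact q.Prime := ⟨hq⟩
  have hfr : Fact r.Prime := ⟨hr⟩
  have hpos : 1 ≤ p ^ 2 := Nat.one_le_pow _ _ hp.pos
  have hp2 := hp.two_le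
  have hq2 := hq.two_le
  have hr2 := hr.two_le
  have hp4 : 4 ≤ p ^ 2 := by nlinarith
  have hlq : q < Nat.card G := by
    rw [hG]
    nlinarith [Nat.mul_le_mul hp4 hq2, Nat.mul_le_mul (Nat.mul_le_mul hp4 (le_refl q)) hr2]
  have hlr : r < Nat.card G := by
    rw [hG]
    nlinarith [Nat.mul_le_mul hp4 hq2, Nat.mul_le_mul (Nat.mul_le_mul hp4 hq2) (le_refl r)]
  have hlp : p < Nat.card G := by
    rw [hG]
    nlinarith [Nat.mul_le_mul (Nat.mul_le_mul (le_refl (p^2)) hq2) hr2]
  have hne1 : Nat.card G ≠ 1 := by omega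
  have hlprime := Nat.minFac_prime hne1
  have hldvd := Nat.minFac_dvd (Nat.card G)
  -- q ∤ p^2 r, r ∤ p^2 q, p ∤ q r
  have hqn : ¬ q ∣ p ^ 2 * r := by
    intro h
    rcases (Nat.Prime.dvd_mul hq).1 h with h | h
    · exact hpq ((Nat.prime_dvd_prime_iff_eq hq hp).1 (hq.dvd_of_dvd_pow h)).symm
    · exact hqr ((Nat.prime_dvd_prime_iff_eq hq hr).1 h)
  have hrn : ¬ r ∣ p ^ 2 * q := by
    intro h
    rcases (Nat.Prime.dvd_mul hr).1 h with h | h
    · exact hpr ((Nat.prime_dvd_prime_iff_eq hr hp).1 (hr.dvd_of_dvd_pow h)).symm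
    · exact hqr ((Nat.prime_dvd_prime_iff_eq hr hq).1 h).symm
  have hpn : ¬ p ∣ q * r := by
    intro h
    rcases (Nat.Prime.dvd_mul hp).1 h with h | h
    · exact hpq ((Nat.prime_dvd_prime_iff_eq hp hq).1 h)
    · exact hpr ((Nat.prime_dvd_prime_iff_eq hp hr).1 h)
  have hl : (Nat.card G).minFac = p ∨ (Nat.card G).minFac = q ∨ (Nat.card G).minFac = r := by
    have h1 : (Nat.card G).minFac ∣ p ^ 2 * q * r := hG ▸ hldvd
    rcases (Nat.Prime.dvd_mul hlprime).1 h1 with h | h
    · rcases (Nat.Prime.dvd_mul hlprime).1 h with h | h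
      · exact Or.inl ((Nat.prime_dvd_prime_iff_eq hlprime hp).1 (hlprime.dvd_of_dvd_pow h))
      · exact Or.inr (Or.inl ((Nat.prime_dvd_prime_iff_eq hlprime hq).1 h))
    · exact Or.inr (Or.inr ((Nat.prime_dvd_prime_iff_eq hlprime hr).1 h))
  rcases hl with hl | hl | hl
  · obtain ⟨P⟩ : Nonempty (Sylow p G) := inferInstance
    have hcP := card_sylow_of_card_eq (m := q * r) (k := 2) (by rw [hG]; ring) hpn P
    obtain ⟨hp2', h3⟩ := two_of_card_sylow_sq hl P hcP (by omega)
    subst hp2'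
    have h3' : 3 ∣ 2 ^ 2 * q * r := hG ▸ h3
    rcases (Nat.Prime.dvd_mul Nat.prime_three).1 h3' with h | h
    · rcases (Nat.Prime.dvd_mul Nat.prime_three).1 h with h | h
      · exact absurd h (by norm_num)
      · have h3q := (Nat.prime_dvd_prime_iff_eq Nat.prime_three hq).1 h
        subst h3q
        exact card_twelve_mul hr (Ne.symm hpr) (Ne.symm hqr) (by rw [hG]; ring)
    · have h3r := (Nat.prime_dvd_prime_iff_eq Nat.prime_three hr).1 h
      subst h3r
      exact card_twelve_mul hq (Ne.symm hpq) hqr (by rw [hG]; ring)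
  · exfalso
    obtain ⟨Q⟩ : Nonempty (Sylow q G) := inferInstance
    have hcQ := card_sylow_of_card_eq (m := p ^ 2 * r) (k := 1) (by rw [hG]; ring) hqn Q
    have := card_eq_of_isCyclic_minFac hl Q (isCyclic_of_prime_card (hcQ.trans (pow_one q)))
    omega
  · exfalso
    obtain ⟨R⟩ : Nonempty (Sylow r G) := inferInstance
    have hcR := card_sylow_of_card_eq (m := p ^ 2 * q) (k := 1) (by rw [hG]; ring) hrn R
    have := card_eq_of_isCyclic_minFac hl R (isCyclic_of_prime_card (hcR.trans (pow_one r)))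
    omega

/-- There is no simple group of order `p ^ 2 * q ^ 2` with `p < q`. -/
theorem no_simple_psq_qsq [IsSimpleGroup G] {p q : ℕ} (hp : p.Prime) (hq : q.Prime) (hpq : p < q)
    (hG : Nat.card G = p ^ 2 * q ^ 2) : False := by
  have hfp : Fact p.Prime := ⟨hp⟩
  have hfq : Fact q.Prime := ⟨hq⟩
  have hp2 := hp.two_le
  have hq2 := hq.two_le
  have hlq : q < Nat.card G := by
    rw [hG]; nlinarith [Nat.mul_le_mul hp2 hp2, Nat.mul_le_mul hq2 (le_refl q), Nat.one_le_pow 2 p hp.pos, Nat.one_le_pow 2 q hq.pos,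
      Nat.mul_le_mul (Nat.one_le_pow 2 p hp.pos) (le_refl (q^2))]
  have hqn : ¬ q ∣ p ^ 2 := by
    intro h
    have := (Nat.prime_dvd_prime_iff_eq hq hp).1 (hq.dvd_of_dvd_pow h)
    omega
  have hdvd : q ∣ Nat.card G := by rw [hG]; exact Dvd.dvd.mul_left (dvd_pow_self q (by norm_num)) _
  have hnd := card_sylow_dvd_of_card_eq hG hqn
  have hn1 := card_sylow_ne_one hdvd (by omega)
  have hmod := card_sylow_modEq_one q G
  have hfac := card_dvd_factorial_card_sylow hdvd (by omega : Nat.card G ≠ q)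
  obtain ⟨k, hk, hkk⟩ := (Nat.dvd_prime_pow hp).1 hnd
  rw [hkk] at hn1 hmod hfac
  have hk3 : k = 0 ∨ k = 1 ∨ k = 2 := by omega
  rcases hk3 with rfl | rfl | rfl
  · exact hn1 (pow_zero p)
  · rw [pow_one, Nat.ModEq, Nat.mod_eq_of_lt hpq, Nat.mod_eq_of_lt hq.one_lt] at hmod
    exact hp.one_lt.ne' hmod
  · have h1 := (Nat.modEq_iff_dvd' (Nat.one_le_pow _ _ hp.pos)).1 hmod.symm
    obtain ⟨rfl, rfl⟩ := arith hp hq hpq h1
    rw [hG] at hfac
    revert hfac
    decide

/-- There is no simple group of order `p ^ 3 * r` with `p ≠ r`. -/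
theorem no_simple_pcube_r [IsSimpleGroup G] {p r : ℕ} (hp : p.Prime) (hr : r.Prime) (hpr : p ≠ r)
    (hG : Nat.card G = p ^ 3 * r) : False := by
  have hfp : Fact p.Prime := ⟨hp⟩
  have hfr : Fact r.Prime := ⟨hr⟩
  have hp2 := hp.two_le
  have hr2 := hr.two_le
  have hp8 : 8 ≤ p ^ 3 := by
    calc 8 = 2 ^ 3 := by norm_num
      _ ≤ p ^ 3 := Nat.pow_le_pow_left hp2 3
  have hlr : r < Nat.card G := by
    rw [hG]; nlinarith
  have hpp3 : p < p ^ 3 := by
    calc p = p ^ 1 := (pow_one p).symm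
      _ < p ^ 3 := Nat.pow_lt_pow_right hp.one_lt (by norm_num)
  have hlp : p < Nat.card G := by
    rw [hG]
    nlinarith
  have hrn : ¬ r ∣ p ^ 3 := by
    intro h
    exact hpr ((Nat.prime_dvd_prime_iff_eq hr hp).1 (hr.dvd_of_dvd_pow h)).symm
  have hpn : ¬ p ∣ r := by
    intro h
    exact hpr ((Nat.prime_dvd_prime_iff_eq hp hr).1 h)
  have hdr : r ∣ Nat.card G := hG ▸ Dvd.intro_left _ rfl
  have hdp : p ∣ Nat.card G := by
    rw [hG]; exact Dvd.dvd.mul_right (dvd_pow_self p (by norm_num)) _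
  -- number of Sylow p-subgroups is r
  have hnp := card_sylow_dvd_of_card_eq (p := p) (m := r) (k := 3) (by rw [hG]; ring) hpn
  have hnp1 := card_sylow_ne_one hdp (by omega)
  have hnpr : Nat.card (Sylow p G) = r := ((Nat.dvd_prime hr).1 hnp).resolve_left hnp1
  have hmodp := card_sylow_modEq_one p G
  rw [hnpr] at hmodp
  have h1 := (Nat.modEq_iff_dvd' hr.pos).1 hmodp.symm
  have hlt : p < r := by
    have := Nat.le_of_dvd (by omega) h1
    omega
  have hfac := card_dvd_factorial_card_sylow hdp (by omega : Nat.card G ≠ p)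
  rw [hnpr] at hfac
  -- number of Sylow r-subgroups
  have hnd := card_sylow_dvd_of_card_eq (p := r) (m := p ^ 3) (k := 1) (by rw [hG]; ring) hrn
  have hn1 := card_sylow_ne_one hdr (by omega)
  have hmod := card_sylow_modEq_one r G
  have hsq : ¬ r ^ 2 ∣ Nat.card G := by
    intro h
    rw [hG, pow_two] at h
    exact hrn (Nat.dvd_of_mul_dvd_mul_right hr.pos h)
  have hns := card_sylow_mul_ne_card hdr (by omega) hsq
  obtain ⟨k, hk, hkk⟩ := (Nat.dvd_prime_pow hp).1 hnd
  rw [hkk] at hn1 hmod hns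
  have hk3 : k = 0 ∨ k = 1 ∨ k = 2 ∨ k = 3 := by omega
  rcases hk3 with rfl | rfl | rfl | rfl
  · exact hn1 (pow_zero p)
  · rw [pow_one, Nat.ModEq, Nat.mod_eq_of_lt hlt, Nat.mod_eq_of_lt hr.one_lt] at hmod
    exact hp.one_lt.ne' hmod
  · have h1 := (Nat.modEq_iff_dvd' (Nat.one_le_pow _ _ hp.pos)).1 hmod.symm
    obtain ⟨rfl, rfl⟩ := arith hp hr hlt h1
    rw [hG] at hfac
    revert hfac
    decide
  · exact hns hG.symm

end Cfsg.Agent.SmallSimple.PSqQR
end
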