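import Mathlib
import Cfsg.Agent.SmallSimple.PSqQR
import Cfsg.Agent.Transfer.ElemAbAut
set_option linter.all false

/-!
Convenience forms of Burnside's transfer theorem in finite simple groups.
-/

set_option autoImplicit false

namespace Cfsg.Agent.SmallSimple.BurnsideNC

open Subgroup

variable {G : Type*} [Group G] [Finite G]

/-- (a) In a simple group (not of order `p`), `N(P)` does not centralise the Sylow subgroup `P`. -/
theorem not_normalizer_le_centralizer [IsSimpleGroup G] {p : ℕ} [hp : Fact p.Prime]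
    (hdvd : p ∣ Nat.card G) (hne : Nat.card G ≠ p) (P : Sylow p G) :
    ¬ normalizer (P : Set G) ≤ centralizer (P : Set G) := fun h =>
  hne (Burnside.card_eq_of_normalizer_le_centralizer hdvd P h)

/-- `|N(P) : C(P)| ≠ 1`. -/
theorem relIndex_ne_one [IsSimpleGroup G] {p : ℕ} [hp : Fact p.Prime]
    (hdvd : p ∣ Nat.card G) (hne : Nat.card G ≠ p) (P : Sylow p G) :
    (centralizer (P : Set G)).relIndex (normalizer (P : Set G)) ≠ 1 := fun h =>
  not_normalizer_le_centralizer hdvd hne P (relIndex_eq_one.1 h)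

omit [Finite G] in
/-- The centralizer is contained in the normalizer. -/
theorem centralizer_le_normalizer (H : Subgroup G) :
    centralizer (H : Set G) ≤ normalizer (H : Set G) := by
  intro x hx
  rw [Subgroup.mem_normalizer_iff]
  rw [Subgroup.mem_centralizer_iff] at hx
  intro h
  constructor
  · intro hh
    have := hx h hh
    have h2 : x * h * x⁻¹ = h := by rw [← this]; group
    exact h2.symm ▸ hh
  · intro hh
    have := hx _ hh
    have h2 : x * h * x⁻¹ = h := by
      have h3 : x * (x * h * x⁻¹) = x * h := by rw [← this]; group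
      exact mul_left_cancel h3
    have h4 : x * h * x⁻¹ ∈ (H : Set G) := hh
    rwa [h2] at h4

omit [Finite G] in
/-- `|N(H)| = |C(H)| * |N(H) : C(H)|`. -/
theorem card_normalizer_eq (H : Subgroup G) :
    Nat.card (normalizer (H : Set G)) =
      Nat.card (centralizer (H : Set G)) *
        (centralizer (H : Set G)).relIndex (normalizer (H : Set G)) := by
  rw [← Subgroup.relIndex_bot_left, ← Subgroup.relIndex_bot_left]
  exact (Subgroup.relIndex_mul_relIndex _ _ _ bot_le (centralizer_le_normalizer H)).symm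

/-- `n_p * |N(P)| = |G|`. -/
theorem card_sylow_mul_card_normalizer {p : ℕ} [hp : Fact p.Prime] (P : Sylow p G) :
    Nat.card (Sylow p G) * Nat.card (normalizer (P : Set G)) = Nat.card G := by
  rw [P.card_eq_index_normalizer, mul_comm]
  exact (normalizer (P : Set G)).card_mul_index

omit [Finite G] in
/-- `|N(H) : C(H)|` divides the order of `Aut H`. -/
theorem relIndex_dvd_card_mulAut (H : Subgroup G) :
    (centralizer (H : Set G)).relIndex (normalizer (H : Set G)) ∣ Nat.card (MulAut H) := by
  have key := Subgroup.card_dvd_of_injective _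
    (QuotientGroup.kerLift_injective H.normalizerMonoidHom)
  rwa [Subgroup.normalizerMonoidHom_ker, ← Subgroup.index, ← Subgroup.relIndex] at key

omit [Finite G] in
/-- For an abelian Sylow subgroup `P`, `|N(P) : C(P)|` divides `|G : P|`. -/
theorem relIndex_dvd_index {p : ℕ} (P : Sylow p G)
    (hcomm : IsMulCommutative P) :
    (centralizer (P : Set G)).relIndex (normalizer (P : Set G)) ∣ (P : Subgroup G).index := by
  have h1 : (P : Subgroup G) ≤ centralizer (P : Set G) := by
    intro x hx
    rw [Subgroup.mem_centralizer_iff]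
    intro y hy
    exact congrArg Subtype.val (hcomm.is_comm.comm (⟨y, hy⟩ : P) ⟨x, hx⟩)
  exact (Subgroup.relIndex_dvd_of_le_left _ h1).trans
      (Subgroup.relIndex_dvd_index_of_le Subgroup.le_normalizer)

/-- For an abelian Sylow `p`-subgroup `P`, `|N(P) : C(P)|` is prime to `p`. -/
theorem coprime_relIndex {p : ℕ} [hp : Fact p.Prime] (P : Sylow p G)
    (hcomm : IsMulCommutative P) :
    p.Coprime ((centralizer (P : Set G)).relIndex (normalizer (P : Set G))) := by
  rw [Nat.Prime.coprime_iff_not_dvd hp.out]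
  intro h
  exact P.not_dvd_index (h.trans (relIndex_dvd_index P hcomm))

/-- If `|P| = p` then `|N(P) : C(P)|` divides `p - 1`. -/
theorem relIndex_dvd_of_card_eq_prime {p : ℕ} [hp : Fact p.Prime] (P : Sylow p G)
    (hP : Nat.card P = p) :
    (centralizer (P : Set G)).relIndex (normalizer (P : Set G)) ∣ p - 1 := by
  have hc : IsCyclic P := isCyclic_of_prime_card hP
  have h := relIndex_dvd_card_mulAut (P : Subgroup G)
  have h2 := hc.card_mulAut
  rw [hP, Nat.totient_prime hp.out] at h2
  exact h2 ▸ h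

/-- (b) In a simple group (not of order `p`) with a Sylow `p`-subgroup of order `p`, the number
`e = |N(P) : C(P)|` divides `p - 1`, is not `1`, `|N(P)| = |C(P)| * e`, `n_p * |N(P)| = |G|`
and `p` divides `|C(P)|`. -/
theorem exists_automizer_of_card_eq_prime [IsSimpleGroup G] {p : ℕ} [hp : Fact p.Prime]
    (hne : Nat.card G ≠ p) (P : Sylow p G) (hP : Nat.card P = p) :
    ∃ e : ℕ, e ∣ p - 1 ∧ e ≠ 1 ∧ e = (centralizer (P : Set G)).relIndex (normalizer (P : Set G)) ∧
      Nat.card (normalizer (P : Set G)) = Nat.card (centralizer (P : Set G)) * e ∧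
      Nat.card (Sylow p G) * Nat.card (normalizer (P : Set G)) = Nat.card G ∧
      p ∣ Nat.card (centralizer (P : Set G)) := by
  have hdvd : p ∣ Nat.card G := by
    have := (P : Subgroup G).card_subgroup_dvd_card
    rwa [hP] at this
  refine ⟨_, relIndex_dvd_of_card_eq_prime P hP, relIndex_ne_one hdvd hne P, rfl,
    card_normalizer_eq _, card_sylow_mul_card_normalizer P, ?_⟩
  have hc : IsCyclic P := isCyclic_of_prime_card hP
  have h1 : (P : Subgroup G) ≤ centralizer (P : Set G) := by
    intro x hx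
    rw [Subgroup.mem_centralizer_iff]
    intro y hy
    exact congrArg Subtype.val (hc.isMulCommutative.is_comm.comm (⟨y, hy⟩ : P) ⟨x, hx⟩)
  have := Subgroup.card_dvd_of_le h1
  rwa [hP] at this

/-- The order of the automorphism group of a group of order `p ^ 2` divides
`(p ^ 2 - 1) * (p ^ 2 - p)`. -/
theorem card_mulAut_dvd_of_card_eq_sq {P : Type*} [Group P] [Finite P] {p : ℕ}
    [hp : Fact p.Prime] (hP : Nat.card P = p ^ 2) :
    Nat.card (MulAut P) ∣ (p ^ 2 - 1) * (p ^ 2 - p) := by
  have hp2 := hp.out.two_le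
  have hcomm : IsMulCommutative P := IsPGroup.isMulCommutative_of_card_eq_prime_sq hP
  by_cases hc : IsCyclic P
  · rw [hc.card_mulAut, hP, Nat.totient_prime_pow hp.out (by norm_num)]
    have : p ^ (2 - 1) * (p - 1) = p ^ 2 - p := by
      rw [Nat.mul_sub]
      simp [pow_two]
    rw [this]
    exact Dvd.intro_left _ rfl
  · have hexp : ∀ x : P, x ^ p = 1 := by
      intro x
      have h1 : orderOf x ∣ p ^ 2 := hP ▸ orderOf_dvd_natCard x
      obtain ⟨k, hk, hkk⟩ := (Nat.dvd_prime_pow hp.out).1 h1
      have hk2 : k ≠ 2 := by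
        rintro rfl
        exact hc (isCyclic_of_orderOf_eq_card x (by rw [hkk, hP]))
      rw [← orderOf_dvd_iff_pow_eq_one, hkk]
      calc p ^ k ∣ p ^ 1 := Nat.pow_dvd_pow p (by omega)
        _ = p := pow_one p
    have h := Cfsg.Agent.Transfer.ElemAbAut.card_mulAut (T := P) p 2
      (fun x y => hcomm.is_comm.comm x y) hexp hP
    rw [h]
    simp [Fin.prod_univ_two]

/-- (c) If `|P| = p ^ 2`, then `|N(P) : C(P)|` divides `(p ^ 2 - 1) * (p - 1)`. -/
theorem relIndex_dvd_of_card_eq_sq {p : ℕ} [hp : Fact p.Prime] (P : Sylow p G)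
    (hP : Nat.card P = p ^ 2) :
    (centralizer (P : Set G)).relIndex (normalizer (P : Set G)) ∣ (p ^ 2 - 1) * (p - 1) := by
  have hcomm : IsMulCommutative P := IsPGroup.isMulCommutative_of_card_eq_prime_sq hP
  have h1 := (relIndex_dvd_card_mulAut (P : Subgroup G)).trans (card_mulAut_dvd_of_card_eq_sq hP)
  have h2 : p ^ 2 - p = (p - 1) * p := by
    rw [Nat.sub_mul, one_mul, pow_two]
  rw [h2, ← mul_assoc] at h1
  exact (coprime_relIndex P hcomm).symm.dvd_of_dvd_mul_right h1

/-- (d) In a simple group (not of order `p`) with Sylow `p`-subgroups of order `p`, the numbers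
`p - 1` and `|N(P)| / p` are not coprime: if `n_p * p * m = |G|` then `gcd (p - 1) m ≠ 1`. -/
theorem gcd_ne_one_of_card_eq_prime [IsSimpleGroup G] {p m : ℕ} [hp : Fact p.Prime]
    (hne : Nat.card G ≠ p) (P : Sylow p G) (hP : Nat.card P = p)
    (hm : Nat.card (Sylow p G) * (p * m) = Nat.card G) : Nat.gcd (p - 1) m ≠ 1 := by
  intro hg
  obtain ⟨e, he1, he2, he3, he4, he5, he6⟩ := exists_automizer_of_card_eq_prime hne P hP
  have hpos : 0 < Nat.card (Sylow p G) := Nat.card_pos
  have h1 : Nat.card (normalizer (P : Set G)) = p * m :=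
    Nat.eq_of_mul_eq_mul_left hpos (he5.trans hm.symm)
  obtain ⟨c, hc⟩ := he6
  rw [h1, hc, mul_assoc] at he4
  have h2 : m = c * e := Nat.eq_of_mul_eq_mul_left hp.out.pos he4
  have h3 : e ∣ m := h2 ▸ Dvd.intro_left c rfl
  exact he2 (Nat.eq_one_of_dvd_coprimes hg he1 h3)

end Cfsg.Agent.SmallSimple.BurnsideNC
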