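import Mathlib
set_option linter.all false

/-!
Parity and fixed point counting lemmas for actions of finite simple groups.

* `unitsInt_hom_eq_one`: every homomorphism from a simple group with more than 2 elements to `ℤˣ`
  is trivial.
* `card_modEq_four`: an involution (or `1`) of such a group acting on a finite set `X` satisfies
  `|X| ≡ |Fix t| [MOD 4]`.
* `commHom_eq_one`: every homomorphism from a noncommutative simple group to a commutative group is
  trivial.
* `card_mul_card_fixed_le`: if `t` normalizes `P` and centralizes no nonidentity element of `P`, and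
  `P` acts freely on the points in question, then `|P| * |Fix t| ≤ |X|`.
* `mem_commutator_of_unique_fixed`: transfer of an involution fixing one coset only.
-/

set_option autoImplicit false

namespace Cfsg.Agent.SmallSimple.Parity

open MulAction

/-- Every homomorphism from a simple group with more than two elements to `ℤˣ` is trivial. -/
theorem unitsInt_hom_eq_one {G : Type*} [Group G] [IsSimpleGroup G] (h : 2 < Nat.card G)
    (f : G →* ℤˣ) (g : G) : f g = 1 := by
  rcases (inferInstance : f.ker.Normal).eq_bot_or_eq_top with hk | hk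
  · exfalso
    have hinj : Function.Injective f := (MonoidHom.ker_eq_bot_iff f).mp hk
    have h1 : Nat.card G ≤ Nat.card ℤˣ := Nat.card_le_card_of_injective f hinj
    have h2 : Nat.card ℤˣ = 2 := by
      rw [Nat.card_eq_fintype_card]; exact Fintype.card_units_int
    omega
  · have : g ∈ f.ker := hk ▸ Subgroup.mem_top g
    exact this

/-- Every homomorphism from a noncommutative simple group to a commutative group is trivial. -/
theorem commHom_eq_one {G : Type*} [Group G] [IsSimpleGroup G]
    (hG : ¬ ∀ a b : G, a * b = b * a) {A : Type*} [CommGroup A] (f : G →* A) (g : G) :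
    f g = 1 := by
  rcases (inferInstance : f.ker.Normal).eq_bot_or_eq_top with hk | hk
  · exfalso
    apply hG
    intro a b
    apply (MonoidHom.ker_eq_bot_iff f).mp hk
    rw [map_mul, map_mul, mul_comm]
  · have : g ∈ f.ker := hk ▸ Subgroup.mem_top g
    exact this

/-- The sign of an involutive permutation is `1` iff the number of moved points is divisible
by 4. -/
theorem card_modEq_four_of_sign {X : Type*} [Fintype X] [DecidableEq X] (σ : Equiv.Perm X)
    (h2 : σ ^ 2 = 1) (hs : Equiv.Perm.sign σ = 1) :
    ∃ k, Nat.card X = Nat.card {x : X // σ x = x} + 4 * k := by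
  have h := Equiv.Perm.sign_of_pow_two_eq_one h2
  rw [hs] at h
  have hev : Even ((Fintype.card X - Fintype.card (Function.fixedPoints σ)) / 2) := by
    by_contra ho
    rw [Nat.not_even_iff_odd] at ho
    rw [ho.neg_one_pow] at h
    exact absurd h (by decide)
  have hle : Fintype.card (Function.fixedPoints σ) ≤ Fintype.card X := by
    exact Fintype.card_subtype_le _
  have hpar : 2 ∣ Fintype.card X - Fintype.card (Function.fixedPoints σ) := by
    have h3 := Equiv.Perm.card_fixedPoints σ
    have h4 := Equiv.Perm.two_dvd_card_support h2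
    have h5 := Equiv.Perm.sum_cycleType_le σ
    rw [← Equiv.Perm.sum_cycleType] at h4
    rw [h3, Nat.sub_sub_self h5]
    exact h4
  have hc : Nat.card {x : X // σ x = x} = Fintype.card (Function.fixedPoints σ) := by
    rw [Nat.card_eq_fintype_card]
    exact Fintype.card_congr (Equiv.refl _)
  rw [hc, Nat.card_eq_fintype_card]
  obtain ⟨k, hk⟩ := hev
  refine ⟨k, ?_⟩
  omega

/-- Parity: in a simple group with more than two elements an element `t` with `t ^ 2 = 1` moves a
number of points divisible by 4. -/
theorem card_modEq_four {G X : Type*} [Group G] [IsSimpleGroup G] (h : 2 < Nat.card G)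
    [MulAction G X] [Finite X] (t : G) (ht : t ^ 2 = 1) :
    ∃ k, Nat.card X = Nat.card {x : X // t • x = x} + 4 * k := by
  classical
  have := Fintype.ofFinite X
  have h1 := unitsInt_hom_eq_one h (Equiv.Perm.sign.comp (MulAction.toPermHom G X)) t
  have h2 : (MulAction.toPermHom G X t) ^ 2 = 1 := by rw [← map_pow, ht, map_one]
  exact card_modEq_four_of_sign _ h2 h1

/-- If `t` normalizes `P` and centralizes no nonidentity element of `P`, then on the points with
trivial stabilizer in `P` the number of fixed points of `t` is at most (number of points)/|P|. -/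
theorem card_mul_card_fixed_le {G X : Type*} [Group G] [MulAction G X] [Finite X]
    (P : Subgroup G) (t : G) (htP : ∀ p ∈ P, t * p * t⁻¹ ∈ P)
    (htC : ∀ p ∈ P, t * p = p * t → p = 1) :
    Nat.card P * Nat.card {x : X // t • x = x ∧ ∀ p ∈ P, p • x = x → p = 1} ≤
      Nat.card {x : X // ∀ p ∈ P, p • x = x → p = 1} := by
  rw [← Nat.card_prod]
  refine Nat.card_le_card_of_injective
    (fun y : P × {x : X // t • x = x ∧ ∀ p ∈ P, p • x = x → p = 1} =>
      (⟨(y.1 : G) • (y.2 : X), ?_⟩ : {x : X // ∀ p ∈ P, p • x = x → p = 1})) ?_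
  · intro p hp hpx
    have h1 := y.2.2.2 ((y.1 : G)⁻¹ * p * y.1)
      (P.mul_mem (P.mul_mem (P.inv_mem y.1.2) hp) y.1.2) (by
        rw [mul_smul, mul_smul, hpx, inv_smul_smul])
    have h2 : p = (y.1 : G) * ((y.1 : G)⁻¹ * p * y.1) * (y.1 : G)⁻¹ := by group
    rw [h2, h1]; group
  · rintro ⟨⟨p, hp⟩, ⟨x, hx1, hx2⟩⟩ ⟨⟨q, hq⟩, ⟨y, hy1, hy2⟩⟩ hxy
    simp only [Subtype.mk.injEq] at hxy
    have hxy' : (q⁻¹ * p) • x = y := by rw [mul_smul, hxy, inv_smul_smul]
    set r := q⁻¹ * p with hr
    have hrP : r ∈ P := P.mul_mem (P.inv_mem hq) hp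
    have h3 : (t * r * t⁻¹) • x = r • x := by
      have : t⁻¹ • x = x := by rw [inv_smul_eq_iff, hx1]
      rw [mul_smul, mul_smul, this, hxy', hy1]
    have h4 : (r⁻¹ * (t * r * t⁻¹)) • x = x := by
      rw [mul_smul, h3, inv_smul_smul]
    have h5 := hx2 _ (P.mul_mem (P.inv_mem hrP) (htP r hrP)) h4
    have h6 : t * r = r * t := by
      have : t * r * t⁻¹ = r := by
        rw [inv_mul_eq_one] at h5
        exact h5.symm
      exact mul_inv_eq_iff_eq_mul.mp this
    have h7 : r = 1 := htC r hrP h6
    have h8 : p = q := by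
      rw [hr, inv_mul_eq_one] at h7
      exact h7.symm
    subst h8
    have h9 : x = y := by
      rw [h7, one_smul] at hxy'
      exact hxy'
    subst h9
    rfl

/-- If `t ^ 2 = 1`, `t ∈ S` and the only coset of `S` fixed by `t` is `S` itself, then the transfer
of `t` into an abelian quotient of `S` is the image of `t`. -/
theorem transfer_eq_of_unique_fixed {G : Type*} [Group G] (S : Subgroup G) [S.FiniteIndex]
    {A : Type*} [CommGroup A] (φ : S →* A) (t : G) (ht2 : t ^ 2 = 1) (htS : t ∈ S)
    (huniq : ∀ g : G, g⁻¹ * t * g ∈ S → g ∈ S) :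
    MonoidHom.transfer φ t = φ ⟨t, htS⟩ := by
  classical
  have hfin : Finite (G ⧸ S) := S.finite_quotient_of_finiteIndex
  have := Fintype.ofFinite (Quotient (orbitRel (Subgroup.zpowers t) (G ⧸ S)))
  rw [MonoidHom.transfer_eq_prod_quotient_orbitRel_zpowers_quot]
  set q0 : Quotient (orbitRel (Subgroup.zpowers t) (G ⧸ S)) :=
    Quotient.mk _ ((1 : G) : G ⧸ S) with hq0
  have hfix1 : ∀ x : G ⧸ S, t • x = x → x = ((1 : G) : G ⧸ S) := by
    intro x
    induction x using QuotientGroup.induction_on with
    | H g =>
      intro hx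
      have h1 : ((t * g : G) : G ⧸ S) = (g : G ⧸ S) := hx
      have h2 : g⁻¹ * (t * g) ∈ S := QuotientGroup.eq.mp h1.symm
      rw [← mul_assoc] at h2
      have h3 := huniq g h2
      rw [QuotientGroup.eq]
      simpa using h3
  have hmin : ∀ x : G ⧸ S, Function.minimalPeriod (t • ·) x = 1 ∨
      Function.minimalPeriod (t • ·) x = 2 := by
    intro x
    have h1 : Function.IsPeriodicPt (t • ·) 2 x := by
      show (t • ·)^[2] x = x
      simp only [Function.iterate_succ, Function.iterate_zero, Function.comp, id]
      rw [← mul_smul, ← sq, ht2, one_smul]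
    have h2 : Function.minimalPeriod (t • ·) x ∣ 2 := h1.minimalPeriod_dvd
    exact (Nat.dvd_prime Nat.prime_two).mp h2
  have hfix1' : t • ((1 : G) : G ⧸ S) = ((1 : G) : G ⧸ S) := by
    show ((t * 1 : G) : G ⧸ S) = ((1 : G) : G ⧸ S)
    rw [QuotientGroup.eq]
    simpa using htS
  rw [Fintype.prod_eq_single q0]
  · -- the factor at the fixed coset
    have hout : q0.out = ((1 : G) : G ⧸ S) := by
      have h1 : Quotient.mk _ q0.out = q0 := Quotient.out_eq q0
      rw [hq0] at h1
      have h2 := Quotient.exact h1
      have h3 : q0.out ∈ orbit (Subgroup.zpowers t) ((1 : G) : G ⧸ S) := h2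
      obtain ⟨⟨z, hz⟩, hz2⟩ := h3
      have h4 : z ∈ S := by
        have : Subgroup.zpowers t ≤ S := by
          rw [Subgroup.zpowers_le]; exact htS
        exact this hz
      rw [← hz2]
      show ((z * 1 : G) : G ⧸ S) = ((1 : G) : G ⧸ S)
      rw [QuotientGroup.eq]
      simpa using h4
    have hper : Function.minimalPeriod (t • ·) q0.out = 1 := by
      rw [Function.minimalPeriod_eq_one_iff_isFixedPt]
      show t • q0.out = q0.out
      rw [hout]
      exact hfix1'
    have hs : q0.out.out ∈ S := by
      have h1 : ((q0.out.out : G) : G ⧸ S) = ((1 : G) : G ⧸ S) := by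
        rw [QuotientGroup.out_eq', hout]
      rw [QuotientGroup.eq] at h1
      simpa using h1
    have key : (⟨q0.out.out⁻¹ * t ^ Function.minimalPeriod (t • ·) q0.out * q0.out.out,
        QuotientGroup.out_conj_pow_minimalPeriod_mem S t q0.out⟩ : S) =
        (⟨q0.out.out, hs⟩ : S)⁻¹ * ⟨t, htS⟩ * ⟨q0.out.out, hs⟩ := by
      apply Subtype.ext
      simp only [Subgroup.coe_mul, Subgroup.coe_inv]
      rw [hper, pow_one]
    rw [key, map_mul, map_mul, map_inv]
    rw [mul_comm, ← mul_assoc, mul_inv_cancel, one_mul]
  · intro q hq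
    have hper : Function.minimalPeriod (t • ·) q.out = 2 := by
      rcases hmin q.out with h | h
      · exfalso
        apply hq
        have h1 : t • q.out = q.out := by
          rw [Function.minimalPeriod_eq_one_iff_isFixedPt] at h
          exact h
        have h2 := hfix1 _ h1
        rw [← Quotient.out_eq q, h2]
      · exact h
    have key : (⟨q.out.out⁻¹ * t ^ Function.minimalPeriod (t • ·) q.out * q.out.out,
        QuotientGroup.out_conj_pow_minimalPeriod_mem S t q.out⟩ : S) = 1 := by
      apply Subtype.ext
      simp only [Subgroup.coe_one]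
      rw [hper, ht2]
      group
    rw [key, map_one]

/-- In a noncommutative simple group, an element `t` of a subgroup `S` of finite index with
`t ^ 2 = 1` which fixes only the trivial coset of `S` lies in the derived subgroup of `S`. -/
theorem mem_commutator_of_unique_fixed {G : Type*} [Group G] [IsSimpleGroup G]
    (hG : ¬ ∀ a b : G, a * b = b * a) (S : Subgroup G) [S.FiniteIndex] (t : G)
    (ht2 : t ^ 2 = 1) (htS : t ∈ S) (huniq : ∀ g : G, g⁻¹ * t * g ∈ S → g ∈ S) :
    (⟨t, htS⟩ : S) ∈ commutator S := by
  have h1 := transfer_eq_of_unique_fixed S (Abelianization.of (G := S)) t ht2 htS huniq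
  rw [commHom_eq_one hG] at h1
  rw [← Abelianization.ker_of]
  exact h1.symm

end Cfsg.Agent.SmallSimple.Parity
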