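import Mathlib
set_option linter.all false

/-!
Sylow counting inside subgroups, in terms of `relIndex`.

For `P` a Sylow `p`-subgroup of `G` contained in `H`, the number of Sylow `p`-subgroups of `H`
is `(normalizer P).relIndex H`.
-/

set_option autoImplicit false

namespace Cfsg.Agent.SmallSimple.RelSylow

open Subgroup MulAction

variable {G : Type*} [Group G]

/-- The number of Sylow subgroups of `H ≥ P` is `|H : N_H(P)|`. -/
theorem card_sylow_eq_relIndex [Finite G] {p : ℕ} [hp : Fact p.Prime] (P : Sylow p G)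
    (H : Subgroup G) (hPH : (P : Subgroup G) ≤ H) :
    Nat.card (Sylow p H) = (normalizer ((P : Subgroup G) : Set G)).relIndex H := by
  rw [(P.subtype hPH).card_eq_index_normalizer, Subgroup.relIndex,
    Subgroup.subgroupOf_normalizer_eq hPH]
  rfl

/-- `|H : N_H(P)| ≡ 1 mod p`. -/
theorem relIndex_modEq_one [Finite G] {p : ℕ} [hp : Fact p.Prime] (P : Sylow p G)
    (H : Subgroup G) (hPH : (P : Subgroup G) ≤ H) :
    (normalizer ((P : Subgroup G) : Set G)).relIndex H ≡ 1 [MOD p] := by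
  rw [← card_sylow_eq_relIndex P H hPH]
  exact card_sylow_modEq_one p H

/-- `|H : H ∩ N| * |H ∩ N| = |H|`. -/
theorem relIndex_mul_card_inf (N H : Subgroup G) :
    N.relIndex H * Nat.card (H ⊓ N : Subgroup G) = Nat.card H := by
  have h1 := Subgroup.relIndex_mul_relIndex (⊥ : Subgroup G) (N ⊓ H) H bot_le inf_le_right
  rw [Subgroup.inf_relIndex_right, Subgroup.relIndex_bot_left, Subgroup.relIndex_bot_left] at h1
  rw [← h1, mul_comm, inf_comm]

/-- The orbit of the trivial coset of `N` under `D` has `|D : D ∩ N|` elements. -/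
theorem ncard_orbit_coset (N D : Subgroup G) :
    (orbit D ((1 : G) : G ⧸ N)).ncard = N.relIndex D := by
  have hst : stabilizer D ((1 : G) : G ⧸ N) = N.subgroupOf D := by
    ext x
    rw [mem_stabilizer_iff, Subgroup.mem_subgroupOf]
    change (((x.1 * 1 : G)) : G ⧸ N) = _ ↔ _
    rw [QuotientGroup.eq]
    simp
  rw [← Nat.card_coe_set_eq, Nat.card_congr (orbitEquivQuotientStabilizer D ((1 : G) : G ⧸ N)),
    hst]
  rfl

/-- If `D ≤ H` and `|D : D ∩ N| = |H : H ∩ N|` then `H = D (H ∩ N)`. -/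
theorem exists_mul_of_relIndex_eq [Finite G] (N D H : Subgroup G) (hDH : D ≤ H)
    (h : N.relIndex D = N.relIndex H) :
    ∀ x ∈ H, ∃ d ∈ D, ∃ n ∈ N, x = d * n := by
  have hsub : orbit D ((1 : G) : G ⧸ N) ⊆ orbit H ((1 : G) : G ⧸ N) := by
    rintro _ ⟨d, rfl⟩
    exact ⟨⟨d.1, hDH d.2⟩, rfl⟩
  have heq : orbit D ((1 : G) : G ⧸ N) = orbit H ((1 : G) : G ⧸ N) := by
    apply Set.eq_of_subset_of_ncard_le hsub
    rw [ncard_orbit_coset, ncard_orbit_coset, h]
  intro x hx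
  have h1 : (x : G ⧸ N) ∈ orbit H ((1 : G) : G ⧸ N) := by
    refine ⟨⟨x, hx⟩, ?_⟩
    change ((x * 1 : G) : G ⧸ N) = _
    rw [mul_one]
  rw [← heq] at h1
  obtain ⟨d, hd⟩ := h1
  change ((d.1 * 1 : G) : G ⧸ N) = _ at hd
  rw [mul_one, QuotientGroup.eq] at hd
  exact ⟨d.1, d.2, d.1⁻¹ * x, hd, by group⟩

/-- If `D ≤ H` have the same number of Sylow `p`-subgroups (`P ≤ D`), then every `H`-conjugate of
`P` lies in `D`. -/
theorem conj_mem_of_relIndex_eq [Finite G] (P D H : Subgroup G) (hPD : P ≤ D) (hDH : D ≤ H)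
    (h : (normalizer (P : Set G)).relIndex D = (normalizer (P : Set G)).relIndex H)
    {x : G} (hx : x ∈ H) {y : G} (hy : y ∈ P) : x * y * x⁻¹ ∈ D := by
  obtain ⟨d, hd, n, hn, rfl⟩ := exists_mul_of_relIndex_eq _ D H hDH h x hx
  have h1 : n * y * n⁻¹ ∈ P := (mem_normalizer_iff.1 hn y).1 hy
  have h2 : d * n * y * (d * n)⁻¹ = d * (n * y * n⁻¹) * d⁻¹ := by group
  rw [h2]
  exact D.mul_mem (D.mul_mem hd (hPD h1)) (D.inv_mem hd)

/-- `|H : H ∩ K| ≤ |G : K|`. -/
theorem relIndex_le_index [Finite G] (K H : Subgroup G) : K.relIndex H ≤ K.index := by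
  rw [← Subgroup.relIndex_top_right K]
  exact Subgroup.relIndex_le_of_le_right le_top (by
    rw [Subgroup.relIndex_top_right]; exact Subgroup.index_ne_zero_of_finite)

theorem relIndex_mono_right [Finite G] (N D H : Subgroup G) (hDH : D ≤ H) :
    N.relIndex D ≤ N.relIndex H :=
  Subgroup.relIndex_le_of_le_right hDH (by
    have : Finite H := inferInstance
    exact Subgroup.index_ne_zero_of_finite)

/-- An element `y` with `y ^ p = 1` of a subgroup `H ≥ P` with `|P| = p` a Sylow subgroup is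
`H`-conjugate into `P`. -/
theorem exists_conj_of_pow_eq_one [Finite G] {p : ℕ} [hp : Fact p.Prime] (P : Sylow p G)
    (H : Subgroup G) (hPH : (P : Subgroup G) ≤ H) {y : G} (hy : y ∈ H) (hyp : y ^ p = 1) :
    ∃ x ∈ H, ∃ z ∈ (P : Subgroup G), y = x * z * x⁻¹ := by
  have hQ : IsPGroup p (zpowers (⟨y, hy⟩ : H)) := by
    rintro ⟨g, hg⟩
    obtain ⟨k, rfl⟩ := Subgroup.mem_zpowers_iff.1 hg
    refine ⟨1, ?_⟩
    apply Subtype.ext
    change ((⟨y, hy⟩ : H) ^ k) ^ (p ^ 1) = 1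
    have h1 : (⟨y, hy⟩ : H) ^ p = 1 := Subtype.ext hyp
    rw [pow_one, ← zpow_natCast, ← zpow_mul, mul_comm, zpow_mul, zpow_natCast, h1, one_zpow]
  obtain ⟨Q, hQ'⟩ := hQ.exists_le_sylow
  obtain ⟨x, hx⟩ := MulAction.exists_smul_eq H (P.subtype hPH) Q
  have h1 : (⟨y, hy⟩ : H) ∈ Q := hQ' (mem_zpowers _)
  rw [← hx] at h1
  have h2 : x⁻¹ * (⟨y, hy⟩ : H) * x ∈ (P.subtype hPH : Subgroup H) := by
    have h3 : (⟨y, hy⟩ : H) ∈ ((x • P.subtype hPH : Sylow p H) : Subgroup H) := h1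
    rw [Sylow.coe_subgroup_smul] at h3
    obtain ⟨z, hz, hz'⟩ := h3
    have h4 : x * z * x⁻¹ = (⟨y, hy⟩ : H) := hz'
    have h5 : x⁻¹ * (⟨y, hy⟩ : H) * x = z := by rw [← h4]; group
    rw [h5]; exact hz
  refine ⟨x.1, x.2, x.1⁻¹ * y * x.1, ?_, by group⟩
  exact Subgroup.mem_subgroupOf.1 h2

end Cfsg.Agent.SmallSimple.RelSylow
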