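import Mathlib
import Cfsg.Agent.SmallSimple.Burnside
import Cfsg.Agent.Lib.Dihedral
set_option linter.all false

set_option autoImplicit false

namespace Cfsg.Agent.SmallSimple.Simple168

open Subgroup MulAction

/-! ### General lemmas -/

section General

variable {G : Type*} [Group G]

/-- Size of a conjugacy class times order of the centralizer is the group order. -/
theorem card_isConj_mul_card_centralizer (x : G) :
    Nat.card {g : G // IsConj x g} * Nat.card (centralizer ({x} : Set G)) = Nat.card G := by
  have h1 : Nat.card {g : G // IsConj x g} = Nat.card (orbit (ConjAct G) x) := by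
    refine Nat.card_congr (Equiv.subtypeEquivRight fun g => ?_)
    rw [ConjAct.mem_orbit_conjAct, isConj_comm]
  rw [h1, nat_card_centralizer_nat_card_stabilizer, ← Nat.card_prod]
  exact Nat.card_congr (orbitProdStabilizerEquivGroup (ConjAct G) x)

theorem orderOf_eq_of_mem_card_prime (p : ℕ) [hp : Fact p.Prime] (P : Subgroup G)
    (hP : Nat.card P = p) {y : G} (hy : y ∈ P) (hy1 : y ≠ 1) : orderOf y = p := by
  have h1 : orderOf y ∣ p := by
    have := orderOf_dvd_natCard (⟨y, hy⟩ : P)
    rw [hP] at this
    rwa [← Subgroup.orderOf_coe] at this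
  rcases (Nat.dvd_prime hp.out).1 h1 with h | h
  · exact absurd (orderOf_eq_one_iff.1 h) hy1
  · exact h

variable [Finite G]

/-- The number of elements of order `p` if all Sylow `p`-subgroups have order `p`. -/
theorem card_orderOf_eq_prime (p : ℕ) [hp : Fact p.Prime]
    (hP : ∀ P : Sylow p G, Nat.card (P : Subgroup G) = p) :
    Nat.card {x : G // orderOf x = p} = Nat.card (Sylow p G) * (p - 1) := by
  classical
  have hz : ∀ x : {x : G // orderOf x = p}, ∃ P : Sylow p G, (P : Subgroup G) = zpowers x.1 := by
    intro x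
    have h1 : IsPGroup p (zpowers x.1) := by
      apply IsPGroup.of_card (n := 1)
      rw [Nat.card_zpowers, x.2, pow_one]
    obtain ⟨P, hPx⟩ := h1.exists_le_sylow
    refine ⟨P, ?_⟩
    symm
    apply Subgroup.eq_of_le_of_card_ge hPx
    rw [Nat.card_zpowers, x.2]
    exact (hP P).le
  choose f hf using hz
  let e : {x : G // orderOf x = p} ≃ Σ P : Sylow p G, {y : (P : Subgroup G) // y ≠ 1} :=
    { toFun := fun x => ⟨f x, ⟨⟨x.1, by
        rw [hf]; exact mem_zpowers _⟩, by
        intro h
        have h2 : x.1 = 1 := congrArg Subtype.val h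
        have := x.2
        rw [h2, orderOf_one] at this
        exact hp.out.one_lt.ne this⟩⟩
      invFun := fun s => ⟨s.2.1.1, orderOf_eq_of_mem_card_prime p _ (hP s.1) s.2.1.2
        (fun h => s.2.2 (Subtype.ext h))⟩
      left_inv := fun x => rfl
      right_inv := by
        rintro ⟨P, ⟨y, hy⟩, hy1⟩
        have hord : orderOf y = p := orderOf_eq_of_mem_card_prime p _ (hP P) hy
          (fun h => hy1 (Subtype.ext h))
        have hfP : f ⟨y, hord⟩ = P := by
          apply Sylow.ext
          rw [hf]
          apply Subgroup.eq_of_le_of_card_ge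
          · rw [zpowers_le]; exact hy
          · rw [Nat.card_zpowers, hord]; exact (hP P).le
        refine Sigma.ext hfP ?_
        subst hfP
        rfl }
  have : Fintype (Sylow p G) := Fintype.ofFinite _
  rw [Nat.card_congr e, Nat.card_sigma]
  have hc : ∀ P : Sylow p G, Nat.card {y : (P : Subgroup G) // y ≠ 1} = p - 1 := by
    intro P
    have : Fintype (P : Subgroup G) := Fintype.ofFinite _
    rw [Nat.card_eq_fintype_card, Fintype.card_subtype_compl, Fintype.card_subtype_eq,
      ← Nat.card_eq_fintype_card, hP]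
  simp [hc, Nat.card_eq_fintype_card]

theorem card_sylow_of_eq {G : Type*} [Group G] [Finite G] (p k m : ℕ) [hp : Fact p.Prime]
    (h : Nat.card G = p ^ k * m) (hm : ¬ p ∣ m) (P : Sylow p G) :
    Nat.card (P : Subgroup G) = p ^ k := by
  rw [P.card_eq_multiplicity, h]
  have hm0 : m ≠ 0 := by rintro rfl; exact hm (dvd_zero _)
  rw [Nat.factorization_mul (pow_ne_zero _ hp.out.ne_zero) hm0]
  simp [Nat.factorization_eq_zero_of_not_dvd hm, hp.out.factorization_self]

/-- If `H` acts transitively enough: `N(Q)` of index `m`, ... the core lemma. If `Q ≤ K` and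
`K ⊔ N(Q)` covers `G` (in the strong sense `G = K * N(Q)`), then `Q` lies in the core of `K`. -/
theorem le_normalCore_of_mul_eq {G : Type*} [Group G] (Q K : Subgroup G) (hQK : Q ≤ K)
    (hmul : ∀ g : G, ∃ k ∈ K, ∃ n ∈ normalizer (Q : Set G), g = k * n) : Q ≤ K.normalCore := by
  intro q hq g
  obtain ⟨k, hk, n, hn, rfl⟩ := hmul g
  have h1 : n * q * n⁻¹ ∈ Q := (mem_normalizer_iff.1 hn q).1 hq
  have h2 : k * n * q * (k * n)⁻¹ = k * (n * q * n⁻¹) * k⁻¹ := by group
  rw [h2]
  exact K.mul_mem (K.mul_mem hk (hQK h1)) (K.inv_mem hk)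

/-- Product formula: if `|H| * |K| ≥ |G| * |H ⊓ K|` then `G = H K`. -/
theorem exists_mul_of_card (H K : Subgroup G)
    (h : Nat.card G * Nat.card (H ⊓ K : Subgroup G) ≤ Nat.card H * Nat.card K) :
    ∀ g : G, ∃ k ∈ H, ∃ n ∈ K, g = k * n := by
  classical
  -- orbit of `H` on `G ⧸ K`
  have hst : Nat.card (stabilizer H ((1 : G) : G ⧸ K)) = Nat.card (H ⊓ K : Subgroup G) := by
    refine Nat.card_congr
      { toFun := fun x => ⟨x.1.1, x.1.2, ?_⟩
        invFun := fun x => ⟨⟨x.1, x.2.1⟩, ?_⟩
        left_inv := fun x => rfl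
        right_inv := fun x => rfl }
    · have := x.2
      rw [mem_stabilizer_iff] at this
      change (((x.1.1 * 1 : G)) : G ⧸ K) = _ at this
      rw [QuotientGroup.eq] at this
      simpa using K.inv_mem this
    · rw [mem_stabilizer_iff]
      change (((x.1 * 1 : G)) : G ⧸ K) = _
      rw [QuotientGroup.eq]
      simpa using x.2.2
  have h1 := Nat.card_congr (orbitProdStabilizerEquivGroup H ((1 : G) : G ⧸ K))
  rw [Nat.card_prod, hst] at h1
  have h2 : Nat.card (orbit H ((1 : G) : G ⧸ K)) = Nat.card (G ⧸ K) := by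
    apply le_antisymm
    · exact Finite.card_subtype_le _
    · have hpos : 0 < Nat.card (H ⊓ K : Subgroup G) := Nat.card_pos
      have hposK : 0 < Nat.card K := Nat.card_pos
      have h3 : Nat.card (G ⧸ K) * Nat.card K = Nat.card G := (card_eq_card_quotient_mul_card_subgroup K).symm
      rw [← h1, ← h3] at h
      have h4 : Nat.card (G ⧸ K) * (Nat.card K * Nat.card (H ⊓ K : Subgroup G)) ≤
          Nat.card (orbit H ((1 : G) : G ⧸ K)) * (Nat.card K * Nat.card (H ⊓ K : Subgroup G)) := by
        linarith
      exact Nat.le_of_mul_le_mul_right h4 (Nat.mul_pos hposK hpos)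
  have h5 : orbit H ((1 : G) : G ⧸ K) = Set.univ := by
    apply Set.eq_of_subset_of_ncard_le (Set.subset_univ _)
    rw [Set.ncard_univ, ← h2, Nat.card_coe_set_eq]
  intro g
  have h6 : ((g : G) : G ⧸ K) ∈ orbit H ((1 : G) : G ⧸ K) := by rw [h5]; trivial
  obtain ⟨k, hk⟩ := h6
  have hk2 : ((k.1 * 1 : G) : G ⧸ K) = g := hk
  rw [QuotientGroup.eq] at hk2
  refine ⟨k.1, k.2, k.1⁻¹ * g, ?_, ?_⟩
  · simpa using hk2
  · group

end General

/-! ### Simple groups of order 168 -/

section Main

variable {G : Type*} [Group G] [Finite G] [IsSimpleGroup G]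

theorem card_sylow_ne_one (h : Nat.card G = 168) (p : ℕ) [hp : Fact p.Prime]
    (hd : p ∣ 168) : Nat.card (Sylow p G) ≠ 1 := by
  intro h1
  have P : Sylow p G := default
  have : Subsingleton (Sylow p G) := (Nat.card_eq_one_iff_unique.1 h1).1
  have hn : (P : Subgroup G).Normal := P.normal_of_subsingleton
  rcases hn.eq_bot_or_eq_top with h2 | h2
  · exact P.ne_bot_of_dvd_card (h ▸ hd) h2
  · have h3 : IsPGroup p G := by
      have := P.isPGroup'
      rw [h2] at this
      exact this.of_equiv Subgroup.topEquiv
    have h4 := Burnside.card_eq_of_simple_isPGroup h3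
    rw [h] at h4
    rw [← h4] at hp
    exact absurd hp.out (by norm_num)

theorem dvd_factorial (h : Nat.card G = 168) (p : ℕ) [hp : Fact p.Prime]
    (hd : p ∣ 168) : 168 ∣ (Nat.card (Sylow p G)).factorial := by
  classical
  have hinj : Function.Injective (toPermHom G (Sylow p G)) := by
    rw [← MonoidHom.ker_eq_bot_iff]
    rcases (inferInstance : (toPermHom G (Sylow p G)).ker.Normal).eq_bot_or_eq_top with h1 | h1
    · exact h1
    · exfalso
      apply card_sylow_ne_one h p hd
      rw [Nat.card_eq_one_iff_unique]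
      refine ⟨⟨fun P Q => ?_⟩, ⟨default⟩⟩
      obtain ⟨g, hg⟩ := MulAction.exists_smul_eq G P Q
      have h2 : g ∈ (toPermHom G (Sylow p G)).ker := h1 ▸ mem_top g
      rw [MonoidHom.mem_ker] at h2
      have h3 := congrArg (fun e : Equiv.Perm (Sylow p G) => e P) h2
      change g • P = P at h3
      rw [← hg, h3]
  have h1 := Subgroup.card_dvd_of_injective _ hinj
  rw [h] at h1
  have : Fintype (Sylow p G) := Fintype.ofFinite _
  rwa [Nat.card_eq_fintype_card, Fintype.card_perm, ← Nat.card_eq_fintype_card] at h1

instance fact_prime_seven : Fact (Nat.Prime 7) := ⟨by norm_num⟩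

theorem card_of_sylow_seven {G : Type*} [Group G] [Finite G] (h : Nat.card G = 168)
    (P : Sylow 7 G) : Nat.card (P : Subgroup G) = 7 :=
  card_sylow_of_eq 7 1 24 (by rw [h]; norm_num) (by norm_num) P

theorem card_of_sylow_three {G : Type*} [Group G] [Finite G] (h : Nat.card G = 168)
    (P : Sylow 3 G) : Nat.card (P : Subgroup G) = 3 :=
  card_sylow_of_eq 3 1 56 (by rw [h]; norm_num) (by norm_num) P

theorem card_of_sylow_two {G : Type*} [Group G] [Finite G] (h : Nat.card G = 168)
    (P : Sylow 2 G) : Nat.card (P : Subgroup G) = 8 :=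
  card_sylow_of_eq 2 3 21 (by rw [h]; norm_num) (by norm_num) P

/-- There are 8 Sylow 7-subgroups. -/
theorem card_sylow_seven (h : Nat.card G = 168) : Nat.card (Sylow 7 G) = 8 := by
  have P : Sylow 7 G := default
  have h1 : Nat.card (Sylow 7 G) ∣ 24 := by
    have h2 := P.card_dvd_index
    have h3 := (P : Subgroup G).card_mul_index
    rw [card_of_sylow_seven h, h] at h3
    have h4 : (P : Subgroup G).index = 24 := by omega
    rwa [h4] at h2
  have h2 := card_sylow_modEq_one 7 G
  have h3 := card_sylow_ne_one h 7 (by norm_num)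
  have h4 : Nat.card (Sylow 7 G) ≤ 24 := Nat.le_of_dvd (by norm_num) h1
  generalize Nat.card (Sylow 7 G) = n at *
  unfold Nat.ModEq at h2
  interval_cases n <;> omega

theorem card_normalizer_seven (h : Nat.card G = 168) (P : Sylow 7 G) :
    Nat.card (normalizer ((P : Subgroup G) : Set G)) = 21 := by
  have h1 : Nat.card (Sylow 7 G) = (normalizer ((P : Subgroup G) : Set G)).index :=
    P.card_eq_index_normalizer
  rw [card_sylow_seven h] at h1
  have h2 := (normalizer ((P : Subgroup G) : Set G)).card_mul_index
  rw [← h1, h] at h2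
  omega

theorem not_normalizer_le_centralizer (h : Nat.card G = 168) (p : ℕ) [hp : Fact p.Prime]
    (hd : p ∣ 168) (P : Sylow p G) :
    ¬ normalizer ((P : Subgroup G) : Set G) ≤ centralizer ((P : Subgroup G) : Set G) := by
  intro h1
  have h2 := Burnside.card_eq_of_normalizer_le_centralizer (h ▸ hd) P h1
  rw [h] at h2
  rw [← h2] at hp
  exact absurd hp.out (by norm_num)

theorem card_centralizer_sylow_prime (h : Nat.card G = 168) (p e : ℕ) [hp : Fact p.Prime]
    (hd : p ∣ 168) (P : Sylow p G) (hP : Nat.card (P : Subgroup G) = p)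
    (he : e.Prime) (hN : Nat.card (normalizer ((P : Subgroup G) : Set G)) = p * e) :
    Nat.card (centralizer ((P : Subgroup G) : Set G)) = p := by
  have hcyc : IsCyclic (P : Subgroup G) := isCyclic_of_prime_card hP
  have hPC : (P : Subgroup G) ≤ centralizer ((P : Subgroup G) : Set G) := by
    intro x hx
    rw [mem_centralizer_iff]
    intro y hy
    let _ := hcyc.commGroup
    have h3 := mul_comm (⟨y, hy⟩ : (P : Subgroup G)) ⟨x, hx⟩
    exact congrArg Subtype.val h3
  have hCN : centralizer ((P : Subgroup G) : Set G) ≤ normalizer ((P : Subgroup G) : Set G) :=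
    centralizer_le_normalizer _
  have h1 : p ∣ Nat.card (centralizer ((P : Subgroup G) : Set G)) := by
    conv_lhs => rw [← hP]
    exact card_dvd_of_le hPC
  have h2 : Nat.card (centralizer ((P : Subgroup G) : Set G)) ∣ p * e := by
    rw [← hN]; exact card_dvd_of_le hCN
  obtain ⟨d, hd'⟩ := h1
  rw [hd'] at h2
  have h3 : d ∣ e := Nat.dvd_of_mul_dvd_mul_left hp.out.pos h2
  rcases (Nat.dvd_prime he).1 h3 with h4 | h4
  · rw [hd', h4, mul_one]
  · exfalso
    apply not_normalizer_le_centralizer h p hd P
    have := Subgroup.eq_of_le_of_card_ge hCN (by rw [hN, hd', h4])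
    exact this.ge

/-- The number of Sylow 3-subgroups is 28. -/
theorem card_sylow_three (h : Nat.card G = 168) : Nat.card (Sylow 3 G) = 28 := by
  have P : Sylow 7 G := default
  -- a Sylow 3-subgroup inside `N(P)`
  obtain ⟨Q, hQN⟩ : ∃ Q : Sylow 3 G, (Q : Subgroup G) ≤ normalizer ((P : Subgroup G) : Set G) := by
    have h1 : 3 ^ 1 ∣ Nat.card (normalizer ((P : Subgroup G) : Set G)) := by
      rw [card_normalizer_seven h]; norm_num
    obtain ⟨K, hK⟩ := Sylow.exists_subgroup_card_pow_prime 3 h1
    let K' : Subgroup G := K.map (normalizer ((P : Subgroup G) : Set G)).subtype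
    have hK' : Nat.card K' = 3 := by
      rw [Subgroup.card_map_of_injective (Subgroup.subtype_injective _), hK]; norm_num
    have hK3 : IsPGroup 3 K' := IsPGroup.of_card (n := 1) (by rw [hK']; norm_num)
    obtain ⟨Q, hQ⟩ := hK3.exists_le_sylow
    have hQe : K' = (Q : Subgroup G) :=
      Subgroup.eq_of_le_of_card_ge hQ (by rw [hK', card_of_sylow_three h])
    refine ⟨Q, ?_⟩
    rw [← hQe]
    exact Subgroup.map_subtype_le _
  have hidx : Nat.card (Sylow 3 G) = (normalizer ((Q : Subgroup G) : Set G)).index :=
    Q.card_eq_index_normalizer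
  have h1 : Nat.card (Sylow 3 G) ∣ 56 := by
    have h2 := Q.card_dvd_index
    have h3 := (Q : Subgroup G).card_mul_index
    rw [card_of_sylow_three h, h] at h3
    have h4 : (Q : Subgroup G).index = 56 := by omega
    rwa [h4] at h2
  have h2 := card_sylow_modEq_one 3 G
  have h3 := card_sylow_ne_one h 3 (by norm_num)
  have h4 : Nat.card (Sylow 3 G) ≤ 56 := Nat.le_of_dvd (by norm_num) h1
  have h5 := dvd_factorial h 3 (by norm_num)
  have h6 : Nat.card (Sylow 3 G) ≠ 4 := by
    intro h6; rw [h6] at h5; revert h5; decide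
  have h7 : Nat.card (Sylow 3 G) ≠ 7 := by
    intro h7
    have h8 := (normalizer ((Q : Subgroup G) : Set G)).card_mul_index
    rw [← hidx, h7, h] at h8
    have hNQ : Nat.card (normalizer ((Q : Subgroup G) : Set G)) = 24 := by omega
    have hinf : Nat.card (normalizer ((P : Subgroup G) : Set G) ⊓
        normalizer ((Q : Subgroup G) : Set G) : Subgroup G) ∣ 3 := by
      have e1 : Nat.card (normalizer ((P : Subgroup G) : Set G) ⊓
        normalizer ((Q : Subgroup G) : Set G) : Subgroup G) ∣ 21 := by
        rw [← card_normalizer_seven h P]; exact card_dvd_of_le inf_le_left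
      have e2 : Nat.card (normalizer ((P : Subgroup G) : Set G) ⊓
        normalizer ((Q : Subgroup G) : Set G) : Subgroup G) ∣ 24 := by
        rw [← hNQ]; exact card_dvd_of_le inf_le_right
      have e3 := Nat.dvd_gcd e1 e2
      simpa using e3
    have hle := Nat.le_of_dvd (by norm_num) hinf
    have hmul := exists_mul_of_card (normalizer ((P : Subgroup G) : Set G))
      (normalizer ((Q : Subgroup G) : Set G)) (by
        rw [card_normalizer_seven h P, hNQ, h]; omega)
    have hcore := le_normalCore_of_mul_eq (Q : Subgroup G) _ hQN hmul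
    rcases (inferInstance : (normalizer ((P : Subgroup G) : Set G)).normalCore.Normal
      ).eq_bot_or_eq_top with h9 | h9
    · rw [h9] at hcore
      exact Q.ne_bot_of_dvd_card (by rw [h]; norm_num) (le_bot_iff.1 hcore)
    · have h10 : normalizer ((P : Subgroup G) : Set G) = ⊤ :=
        top_le_iff.1 (h9 ▸ Subgroup.normalCore_le _)
      have h11 := card_normalizer_seven h P
      rw [h10, Subgroup.card_top, h] at h11
      omega
  generalize Nat.card (Sylow 3 G) = n at *
  unfold Nat.ModEq at h2
  interval_cases n <;> omega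

theorem card_normalizer_three (h : Nat.card G = 168) (P : Sylow 3 G) :
    Nat.card (normalizer ((P : Subgroup G) : Set G)) = 6 := by
  have h1 : Nat.card (Sylow 3 G) = (normalizer ((P : Subgroup G) : Set G)).index :=
    P.card_eq_index_normalizer
  rw [card_sylow_three h] at h1
  have h2 := (normalizer ((P : Subgroup G) : Set G)).card_mul_index
  rw [← h1, h] at h2
  omega

theorem card_centralizer_sylow_seven (h : Nat.card G = 168) (P : Sylow 7 G) :
    Nat.card (centralizer ((P : Subgroup G) : Set G)) = 7 :=
  card_centralizer_sylow_prime h 7 3 (by norm_num) P (card_of_sylow_seven h P) (by norm_num)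
    (card_normalizer_seven h P)

theorem card_centralizer_sylow_three (h : Nat.card G = 168) (P : Sylow 3 G) :
    Nat.card (centralizer ((P : Subgroup G) : Set G)) = 3 :=
  card_centralizer_sylow_prime h 3 2 (by norm_num) P (card_of_sylow_three h P) (by norm_num)
    (card_normalizer_three h P)

theorem exists_sylow_zpowers {G : Type*} [Group G] [Finite G] (p : ℕ) [Fact p.Prime]
    (hP : ∀ P : Sylow p G, Nat.card (P : Subgroup G) = p) (x : G) (hx : orderOf x = p) :
    ∃ P : Sylow p G, (P : Subgroup G) = zpowers x := by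
  have h1 : IsPGroup p (zpowers x) := by
    apply IsPGroup.of_card (n := 1)
    rw [Nat.card_zpowers, hx, pow_one]
  obtain ⟨P, hPx⟩ := h1.exists_le_sylow
  refine ⟨P, ?_⟩
  symm
  apply Subgroup.eq_of_le_of_card_ge hPx
  rw [Nat.card_zpowers, hx]
  exact (hP P).le

theorem centralizer_zpowers_eq {G : Type*} [Group G] (x : G) :
    centralizer ((zpowers x : Subgroup G) : Set G) = centralizer ({x} : Set G) := by
  apply le_antisymm
  · exact centralizer_le (by simp)
  · intro g hg
    rw [mem_centralizer_singleton_iff] at hg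
    rw [mem_centralizer_iff]
    rintro _ ⟨k, rfl⟩
    have h1 : Commute x g := by
      first
        | exact hg
        | exact hg.symm
    exact (h1.zpow_left k).eq

/-- The centralizer of an element of order 7 has order 7. -/
theorem card_centralizer_seven (h : Nat.card G = 168) (x : G) (hx : orderOf x = 7) :
    Nat.card (centralizer ({x} : Set G)) = 7 := by
  obtain ⟨P, hP⟩ := exists_sylow_zpowers 7 (card_of_sylow_seven h) x hx
  rw [← centralizer_zpowers_eq, ← hP]
  exact card_centralizer_sylow_seven h P

/-- The centralizer of an element of order 3 has order 3. -/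
theorem card_centralizer_three (h : Nat.card G = 168) (x : G) (hx : orderOf x = 3) :
    Nat.card (centralizer ({x} : Set G)) = 3 := by
  obtain ⟨P, hP⟩ := exists_sylow_zpowers 3 (card_of_sylow_three h) x hx
  rw [← centralizer_zpowers_eq, ← hP]
  exact card_centralizer_sylow_three h P

theorem not_dvd_card_centralizer (h : Nat.card G = 168) (x : G) (hx : 2 ∣ orderOf x)
    (p : ℕ) [hp : Fact p.Prime] (hp2 : p ≠ 2)
    (hc : ∀ y : G, orderOf y = p → Nat.card (centralizer ({y} : Set G)) = p) :
    ¬ p ∣ Nat.card (centralizer ({x} : Set G)) := by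
  intro hd
  obtain ⟨y, hy⟩ := exists_prime_orderOf_dvd_card' (G := centralizer ({x} : Set G)) p hd
  have hy' : orderOf (y : G) = p := by rw [Subgroup.orderOf_coe]; exact hy
  have h1 := y.2
  rw [mem_centralizer_singleton_iff] at h1
  have h2 : x ∈ centralizer ({(y : G)} : Set G) := by
    rw [mem_centralizer_singleton_iff]
    exact h1.symm
  have h3 : orderOf x ∣ p := by
    have := orderOf_dvd_natCard (⟨x, h2⟩ : centralizer ({(y : G)} : Set G))
    rw [hc _ hy'] at this
    rwa [← Subgroup.orderOf_coe] at this
  have h4 := hx.trans h3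
  exact hp2 ((Nat.prime_dvd_prime_iff_eq Nat.prime_two hp.out).1 h4).symm

/-- The centralizer of an element of even order has order dividing 8. -/
theorem card_centralizer_dvd_eight (h : Nat.card G = 168) (x : G) (hx : 2 ∣ orderOf x) :
    Nat.card (centralizer ({x} : Set G)) ∣ 8 := by
  have h3 := not_dvd_card_centralizer h x hx 3 (by norm_num) (card_centralizer_three h)
  have h7 := not_dvd_card_centralizer h x hx 7 (by norm_num) (card_centralizer_seven h)
  have hd : Nat.card (centralizer ({x} : Set G)) ∣ 8 * 21 := by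
    have := card_subgroup_dvd_card (centralizer ({x} : Set G))
    rw [h] at this
    exact this
  apply Nat.Coprime.dvd_of_dvd_mul_right _ hd
  have e : (21 : ℕ) = 3 * 7 := by norm_num
  rw [e]
  apply Nat.Coprime.mul_right
  · exact ((Nat.Prime.coprime_iff_not_dvd (by norm_num)).2 h3).symm
  · exact ((Nat.Prime.coprime_iff_not_dvd (by norm_num)).2 h7).symm

/-- There are 21 Sylow 2-subgroups. -/
theorem card_sylow_two (h : Nat.card G = 168) : Nat.card (Sylow 2 G) = 21 := by
  classical
  have S : Sylow 2 G := default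
  have hidx : Nat.card (Sylow 2 G) = (normalizer ((S : Subgroup G) : Set G)).index :=
    S.card_eq_index_normalizer
  have h1 : Nat.card (Sylow 2 G) ∣ 21 := by
    have h2 := S.card_dvd_index
    have h3 := (S : Subgroup G).card_mul_index
    rw [card_of_sylow_two h, h] at h3
    have h4 : (S : Subgroup G).index = 21 := by omega
    rwa [h4] at h2
  have h3 := card_sylow_ne_one h 2 (by norm_num)
  have h4 : Nat.card (Sylow 2 G) ≤ 21 := Nat.le_of_dvd (by norm_num) h1
  have h5 := dvd_factorial h 2 (by norm_num)
  have h6 : Nat.card (Sylow 2 G) ≠ 3 := by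
    intro h6; rw [h6] at h5; revert h5; decide
  have h7 : Nat.card (Sylow 2 G) ≠ 7 := by
    intro h7
    have h8 := (normalizer ((S : Subgroup G) : Set G)).card_mul_index
    rw [← hidx, h7, h] at h8
    have hNS : Nat.card (normalizer ((S : Subgroup G) : Set G)) = 24 := by omega
    obtain ⟨y', hy'⟩ := exists_prime_orderOf_dvd_card'
      (G := normalizer ((S : Subgroup G) : Set G)) 3 (by rw [hNS]; norm_num)
    obtain ⟨y, hyN⟩ := y'
    have hy : orderOf y = 3 := by
      rw [← hy', ← Subgroup.orderOf_coe]
    have hcube : y ^ 3 = 1 := by rw [← hy]; exact pow_orderOf_eq_one y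
    let f : Function.End (S : Subgroup G) := fun s => ⟨y * s.1 * y⁻¹,
      (mem_normalizer_iff.1 hyN s.1).1 s.2⟩
    have hf : f ^ 3 ^ 1 = 1 := by
      funext s
      apply Subtype.ext
      show y * (y * (y * s.1 * y⁻¹) * y⁻¹) * y⁻¹ = s.1
      have e : y * (y * (y * s.1 * y⁻¹) * y⁻¹) * y⁻¹ = (y * y * y) * s.1 * (y * y * y)⁻¹ := by
        simp only [mul_inv_rev, mul_assoc]
      have e' : y * y * y = 1 := by rw [← hcube, pow_succ, pow_two]
      rw [e, e']; simp
    have : Fintype (S : Subgroup G) := Fintype.ofFinite _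
    have hmod := Equiv.Perm.card_fixedPoints_modEq (p := 3) (n := 1) hf
    rw [← Nat.card_eq_fintype_card, card_of_sylow_two h] at hmod
    have hge : 1 < Fintype.card (Function.fixedPoints f) := by
      unfold Nat.ModEq at hmod
      omega
    rw [Fintype.one_lt_card_iff_nontrivial] at hge
    obtain ⟨⟨s, hs⟩, hs1⟩ := exists_ne (⟨1, by
      show f 1 = 1
      apply Subtype.ext
      show y * 1 * y⁻¹ = 1
      group⟩ : Function.fixedPoints f)
    have hs2 : y * s.1 * y⁻¹ = s.1 := congrArg Subtype.val hs
    have hs3 : s.1 ≠ 1 := by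
      intro h9
      apply hs1
      apply Subtype.ext
      exact Subtype.ext h9
    have h9 : s.1 ∈ centralizer ({y} : Set G) := by
      rw [mem_centralizer_singleton_iff]
      have : y * s.1 = s.1 * y := by
        conv_rhs => rw [← hs2]
        group
      first
        | exact this
        | exact this.symm
    have h10 : orderOf s.1 ∣ 3 := by
      have := orderOf_dvd_natCard (⟨s.1, h9⟩ : centralizer ({y} : Set G))
      rw [card_centralizer_three h y hy] at this
      rwa [← Subgroup.orderOf_coe] at this
    have h11 : orderOf s.1 ∣ 8 := by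
      have := orderOf_dvd_natCard s
      rw [card_of_sylow_two h] at this
      rwa [← Subgroup.orderOf_coe] at this
    have h12 := Nat.dvd_gcd h10 h11
    have h13 : orderOf s.1 = 1 := Nat.dvd_one.1 (by simpa using h12)
    exact hs3 (orderOf_eq_one_iff.1 h13)
  generalize Nat.card (Sylow 2 G) = n at *
  interval_cases n <;> omega

/-- Sylow 2-subgroups are self-normalizing. -/
theorem normalizer_sylow_two (h : Nat.card G = 168) (T : Sylow 2 G) :
    normalizer ((T : Subgroup G) : Set G) = T := by
  have h1 : Nat.card (Sylow 2 G) = (normalizer ((T : Subgroup G) : Set G)).index :=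
    T.card_eq_index_normalizer
  rw [card_sylow_two h] at h1
  have h2 := (normalizer ((T : Subgroup G) : Set G)).card_mul_index
  rw [← h1, h] at h2
  symm
  apply Subgroup.eq_of_le_of_card_ge le_normalizer
  rw [card_of_sylow_two h]
  omega

/-- Sylow 2-subgroups are non-abelian. -/
theorem sylow_two_not_comm (h : Nat.card G = 168) (T : Sylow 2 G) :
    ¬ ∀ x ∈ (T : Subgroup G), ∀ y ∈ (T : Subgroup G), x * y = y * x := by
  intro h1
  apply not_normalizer_le_centralizer h 2 (by norm_num) T
  rw [normalizer_sylow_two h]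
  intro x hx
  rw [mem_centralizer_iff]
  intro y hy
  exact h1 y hy x hx

end Main

end Cfsg.Agent.SmallSimple.Simple168
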