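import Mathlib
import Mathlib.Topology.Compactification.OnePoint.Basic
import Mathlib.GroupTheory.Transfer
import Mathlib.GroupTheory.Perm.Cycle.Type
import Mathlib.NumberTheory.LegendreSymbol.QuadraticChar.Basic
import Mathlib.Combinatorics.Enumerative.DoubleCounting
import Mathlib.Tactic.LinearCombination
set_option linter.all false

-- part: SmallSimple/PSL2Moebius
section
set_option autoImplicit false

namespace Cfsg.Agent.SmallSimple.PSL2Moebius

open Matrix OnePoint

section Abstract

variable {F : Type*} [Field F] [DecidableEq F]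

/-- the action homomorphism of SL(2,F) on the projective line -/
noncomputable def moebius (F : Type*) [Field F] [DecidableEq F] :
    SpecialLinearGroup (Fin 2) F →* Equiv.Perm (OnePoint F) :=
  (MulAction.toPermHom (GL (Fin 2) F) (OnePoint F)).comp Matrix.SpecialLinearGroup.toGL

theorem moebius_infty (g : SpecialLinearGroup (Fin 2) F) :
    moebius F g ∞ = if g 1 0 = 0 then ∞ else ((g 0 0 / g 1 0 : F) : OnePoint F) := by
  change (Matrix.SpecialLinearGroup.toGL g) • (∞ : OnePoint F) = _
  rw [smul_infty_eq_ite]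
  rfl

theorem moebius_coe (g : SpecialLinearGroup (Fin 2) F) (k : F) :
    moebius F g k = if g 1 0 * k + g 1 1 = 0 then ∞
      else (((g 0 0 * k + g 0 1) / (g 1 0 * k + g 1 1) : F) : OnePoint F) := by
  change (Matrix.SpecialLinearGroup.toGL g) • (k : OnePoint F) = _
  rw [smul_some_eq_ite]
  rfl

theorem ker_moebius : (moebius F).ker = Subgroup.center (SpecialLinearGroup (Fin 2) F) := by
  ext g
  rw [MonoidHom.mem_ker, Matrix.SpecialLinearGroup.mem_center_iff]
  constructor
  · intro h
    have h1 : moebius F g ∞ = ∞ := by rw [h]; rfl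
    have h2 : moebius F g (0 : F) = (0 : F) := by rw [h]; rfl
    have h3 : moebius F g (1 : F) = (1 : F) := by rw [h]; rfl
    rw [moebius_infty] at h1
    rw [moebius_coe] at h2 h3
    have hdet := g.2
    rw [Matrix.det_fin_two] at hdet
    have h10 : g 1 0 = 0 := by
      by_contra hne
      rw [if_neg hne] at h1
      exact coe_ne_infty _ h1
    have h10' : g.1 1 0 = 0 := h10
    rw [h10'] at hdet
    have h11 : g 1 1 ≠ 0 := by
      intro h0
      have h0' : g.1 1 1 = 0 := h0
      rw [h0'] at hdet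
      simp at hdet
    rw [h10] at h2 h3
    rw [if_neg (by simpa using h11)] at h2 h3
    rw [coe_eq_coe] at h2 h3
    have h01 : g 0 1 = 0 := by
      have := h2
      rw [div_eq_iff (by simpa using h11)] at this
      simpa using this
    have h00 : g 0 0 = g 1 1 := by
      have := h3
      rw [div_eq_iff (by simpa using h11), h01] at this
      simpa using this
    refine ⟨g 0 0, ?_, ?_⟩
    · have : g.1 0 0 = g.1 1 1 := h00
      rw [Fintype.card_fin, sq]
      change g.1 0 0 * g.1 0 0 = 1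
      nth_rewrite 2 [this]
      simpa using hdet
    · ext i j
      fin_cases i <;> fin_cases j
      · simp
      · simpa using h01.symm
      · simpa using h10.symm
      · simpa using h00
  · rintro ⟨r, hr, hg⟩
    have hr0 : r ≠ 0 := by
      rintro rfl
      simp at hr
    have e00 : g 0 0 = r := by rw [← hg]; simp
    have e01 : g 0 1 = 0 := by rw [← hg]; simp
    have e10 : g 1 0 = 0 := by rw [← hg]; simp
    have e11 : g 1 1 = r := by rw [← hg]; simp
    ext x
    induction x using OnePoint.rec with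
    | infty => rw [moebius_infty, if_pos e10]; rfl
    | coe k =>
      rw [moebius_coe, e00, e01, e10, e11]
      simp [hr0]

/-- PSL(2,F) is the group induced by SL(2,F) on the projective line. -/
noncomputable def pslEquivRange : Matrix.ProjectiveSpecialLinearGroup (Fin 2) F ≃* (moebius F).range :=
  (QuotientGroup.quotientMulEquivOfEq (ker_moebius (F := F)).symm).trans
    (QuotientGroup.quotientKerEquivRange (moebius F))

theorem mem_range_moebius_of_fix {g : Equiv.Perm (OnePoint F)} (hg : g ∞ = ∞) :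
    g ∈ (moebius F).range ↔ ∃ a b : F, a ≠ 0 ∧ ∀ x : F, g x = ((a ^ 2 * x + b : F) : OnePoint F) := by
  constructor
  · rintro ⟨m, rfl⟩
    rw [moebius_infty] at hg
    have h10 : m 1 0 = 0 := by
      by_contra hne
      rw [if_neg hne] at hg
      exact coe_ne_infty _ hg
    have hdet := m.2
    rw [Matrix.det_fin_two] at hdet
    have h10' : m.1 1 0 = 0 := h10
    rw [h10', mul_zero, sub_zero] at hdet
    change m 0 0 * m 1 1 = 1 at hdet
    have h11 : m 1 1 ≠ 0 := right_ne_zero_of_mul_eq_one hdet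
    have h00 : m 0 0 ≠ 0 := left_ne_zero_of_mul_eq_one hdet
    refine ⟨m 0 0, m 0 1 * m 0 0, h00, fun x => ?_⟩
    rw [moebius_coe, h10, if_neg (by simpa using h11), coe_eq_coe]
    rw [div_eq_iff (by simpa using h11)]
    linear_combination (-(m 0 0) * x - m 0 1) * hdet
  · rintro ⟨a, b, ha, h⟩
    have hd : Matrix.det !![a, b / a; 0, a⁻¹] = 1 := by
      rw [Matrix.det_fin_two_of, mul_inv_cancel₀ ha]; ring
    let M : SpecialLinearGroup (Fin 2) F := ⟨!![a, b / a; 0, a⁻¹], hd⟩
    refine ⟨M, ?_⟩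
    ext x
    induction x using OnePoint.rec with
    | infty =>
      rw [moebius_infty, hg, if_pos]
      rfl
    | coe k =>
      rw [moebius_coe, h k]
      change (if (0 : F) * k + a⁻¹ = 0 then (∞ : OnePoint F) else
        (((a * k + b / a) / ((0 : F) * k + a⁻¹) : F) : OnePoint F)) = _
      rw [if_neg (by simpa using ha), coe_eq_coe]
      field_simp
      ring

theorem swap_mem_range {c : F} (hc : c ≠ 0) (hsq : IsSquare (-c)) {t : Equiv.Perm (OnePoint F)}
    (h0 : t (0 : F) = ∞) (hinf : t ∞ = (0 : F))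
    (hx : ∀ x : F, x ≠ 0 → t x = ((c / x : F) : OnePoint F)) : t ∈ (moebius F).range := by
  obtain ⟨s, hs⟩ := hsq
  have hs0 : s ≠ 0 := by
    rintro rfl
    apply hc
    simpa using hs
  have hd : Matrix.det !![0, c / s; s⁻¹, 0] = 1 := by
    rw [Matrix.det_fin_two_of]
    field_simp
    linear_combination hs
  let M : SpecialLinearGroup (Fin 2) F := ⟨!![0, c / s; s⁻¹, 0], hd⟩
  refine ⟨M, ?_⟩
  ext x
  induction x using OnePoint.rec with
  | infty =>
    rw [moebius_infty, hinf]
    change (if s⁻¹ = 0 then (∞ : OnePoint F) else ((0 / s⁻¹ : F) : OnePoint F)) = _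
    rw [if_neg (by simpa using hs0)]
    simp
  | coe k =>
    rw [moebius_coe]
    change (if s⁻¹ * k + 0 = 0 then (∞ : OnePoint F) else
        (((0 * k + c / s) / (s⁻¹ * k + 0) : F) : OnePoint F)) = _
    by_cases hk : k = 0
    · subst hk
      rw [if_pos (by simp), h0]
    · rw [if_neg (by simpa using ⟨hs0, hk⟩), hx k hk, coe_eq_coe, zero_mul, zero_add, add_zero]
      field_simp

/-- Comparison of a group of permutations of the projective line with PSL(2,F). -/
theorem eq_range_moebius_of_swap (A : Subgroup (Equiv.Perm (OnePoint F)))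
    (hN : ∀ g : Equiv.Perm (OnePoint F), g ∞ = ∞ →
      (g ∈ A ↔ ∃ a b : F, a ≠ 0 ∧ ∀ x : F, g x = ((a ^ 2 * x + b : F) : OnePoint F)))
    {t : Equiv.Perm (OnePoint F)} (htA : t ∈ A) (htB : t ∈ (moebius F).range) (ht : t ∞ ≠ ∞) :
    A = (moebius F).range := by
  -- stabilisers agree
  have hst : ∀ g : Equiv.Perm (OnePoint F), g ∞ = ∞ → (g ∈ A ↔ g ∈ (moebius F).range) := by
    intro g hg
    rw [hN g hg, mem_range_moebius_of_fix hg]
  -- translations
  have htr : ∀ k : F, ∃ u : Equiv.Perm (OnePoint F), u ∈ A ∧ u ∈ (moebius F).range ∧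
      ∀ x : F, u x = ((x + k : F) : OnePoint F) := by
    intro k
    let M : SpecialLinearGroup (Fin 2) F := ⟨!![1, k; 0, 1], by rw [Matrix.det_fin_two_of]; simp⟩
    have h1 : moebius F M ∞ = ∞ := by
      rw [moebius_infty, if_pos]; rfl
    have h2 : ∀ x : F, moebius F M x = ((x + k : F) : OnePoint F) := by
      intro x
      rw [moebius_coe]
      change (if (0 : F) * x + 1 = 0 then (∞ : OnePoint F) else
          (((1 * x + k) / ((0 : F) * x + 1) : F) : OnePoint F)) = _
      rw [if_neg (by simp), coe_eq_coe]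
      simp
    exact ⟨moebius F M, (hst _ h1).2 ⟨M, rfl⟩, ⟨M, rfl⟩, h2⟩
  obtain ⟨k0, hk0⟩ : ∃ k0 : F, t ∞ = (k0 : OnePoint F) := by
    obtain ⟨k0, hk0⟩ := OnePoint.ne_infty_iff_exists.1 ht
    exact ⟨k0, hk0.symm⟩
  have htrans : ∀ y : OnePoint F, ∃ c : Equiv.Perm (OnePoint F), c ∈ A ∧ c ∈ (moebius F).range ∧
      c ∞ = y := by
    intro y
    induction y using OnePoint.rec with
    | infty => exact ⟨1, one_mem _, one_mem _, rfl⟩
    | coe k =>
      obtain ⟨u, huA, huB, hu⟩ := htr (k - k0)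
      refine ⟨u * t, mul_mem huA htA, mul_mem huB htB, ?_⟩
      rw [Equiv.Perm.mul_apply, hk0, hu]
      simp
  ext g
  obtain ⟨c, hcA, hcB, hc⟩ := htrans (g ∞)
  have hfix : (c⁻¹ * g) ∞ = ∞ := by
    rw [Equiv.Perm.mul_apply, ← hc]
    simp
  constructor
  · intro hg
    have := (hst _ hfix).1 (mul_mem (inv_mem hcA) hg)
    simpa using mul_mem hcB this
  · intro hg
    have := (hst _ hfix).2 (mul_mem (inv_mem hcB) hg)
    simpa using mul_mem hcA this

/-- the shape of an involution swapping `0` and `∞` and inverting the diagonal squares -/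
theorem swap_shape_nonsquare [Fintype F] (h1 : ¬ IsSquare (-1 : F)) {τ : F → F}
    (hτ0 : ∀ x, x ≠ 0 → τ x ≠ 0) (hττ : ∀ x, x ≠ 0 → τ (τ x) = x)
    (hinv : ∀ a x : F, a ≠ 0 → x ≠ 0 → τ (a ^ 2 * x) = (a⁻¹) ^ 2 * τ x)
    (hfix : ∀ x, x ≠ 0 → τ x ≠ x) :
    ∃ c : F, c ≠ 0 ∧ IsSquare (-c) ∧ ∀ x, x ≠ 0 → τ x = c / x := by
  have hmul : ∀ a b : F, ¬ IsSquare a → ¬ IsSquare b → IsSquare (a * b) := by
    intro a b ha hb
    have ha0 : a ≠ 0 := by rintro rfl; exact ha (IsSquare.zero)
    have hb0 : b ≠ 0 := by rintro rfl; exact hb (IsSquare.zero)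
    rw [← quadraticChar_one_iff_isSquare (mul_ne_zero ha0 hb0), map_mul,
      quadraticChar_neg_one_iff_not_isSquare.2 ha, quadraticChar_neg_one_iff_not_isSquare.2 hb]
    norm_num
  have hsq : ∀ x, x ≠ 0 → IsSquare x → τ x = τ 1 / x := by
    rintro x hx ⟨s, rfl⟩
    have hs : s ≠ 0 := by rintro rfl; exact hx (by simp)
    have := hinv s 1 hs one_ne_zero
    rw [mul_one] at this
    rw [← sq, this]
    field_simp
  have hc0 : τ 1 ≠ 0 := hτ0 1 one_ne_zero
  have hcns : ¬ IsSquare (τ 1) := by
    rintro ⟨s, hs⟩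
    have hs0 : s ≠ 0 := by rintro rfl; exact hc0 (by simpa using hs)
    by_cases h : IsSquare s
    · apply hfix s hs0
      rw [hsq s hs0 h, hs]
      field_simp
    · have h' : IsSquare (-s) := by
        have := hmul (-1) s h1 h
        simpa using this
      apply hfix (-s) (neg_ne_zero.2 hs0)
      rw [hsq (-s) (neg_ne_zero.2 hs0) h', hs]
      field_simp
  refine ⟨τ 1, hc0, by simpa using hmul (-1) (τ 1) h1 hcns, ?_⟩
  intro x hx
  by_cases h : IsSquare x
  · exact hsq x hx h
  · have h2 : IsSquare (τ 1 / x) := by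
      have h3 := hmul (τ 1) x hcns h
      have : τ 1 / x = (τ 1 * x) * (x⁻¹ * x⁻¹) := by field_simp
      rw [this]
      exact h3.mul ⟨x⁻¹, rfl⟩
    have h3 : τ 1 / x ≠ 0 := div_ne_zero hc0 hx
    have h4 := hsq _ h3 h2
    have h5 : τ 1 / (τ 1 / x) = x := by field_simp
    rw [h5] at h4
    have h6 := hττ _ h3
    rw [h4] at h6
    exact h6

theorem exists_nonsquare_add_one_isSquare [Fintype F] (h2 : (2 : F) ≠ 0) (h1 : IsSquare (-1 : F)) :
    ∃ y : F, ¬ IsSquare y ∧ IsSquare (y + 1) ∧ y + 1 ≠ 0 := by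
  obtain ⟨n, hn⟩ : ∃ n : F, ¬ IsSquare n :=
    FiniteField.exists_nonsquare (by
      intro hchar
      apply h2
      have := CharP.cast_eq_zero F (ringChar F)
      rw [hchar] at this
      exact_mod_cast this)
  by_contra hcon
  push Not at hcon
  have key : ∀ y : F, ¬ IsSquare y → ∀ a : F, ¬ IsSquare (y + a ^ 2) := by
    intro y hy a hya
    by_cases ha : a = 0
    · subst ha
      exact hy (by simpa using hya)
    · have h3 : ¬ IsSquare (y / a ^ 2) := by
        rintro ⟨s, hs⟩
        apply hy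
        refine ⟨s * a, ?_⟩
        rw [div_eq_iff (pow_ne_zero 2 ha)] at hs
        rw [hs]; ring
      have h4 : IsSquare (y / a ^ 2 + 1) := by
        obtain ⟨s, hs⟩ := hya
        refine ⟨s / a, ?_⟩
        field_simp
        rw [hs]; ring
      have h5 := hcon _ h3 h4
      apply hy
      obtain ⟨i, hi⟩ := h1
      refine ⟨i * a, ?_⟩
      have h6 : y = - a ^ 2 := by
        field_simp at h5
        linear_combination h5
      rw [h6]
      linear_combination a ^ 2 * hi
  obtain ⟨a, b, hab⟩ : ∃ a b : F, a ^ 2 + b ^ 2 = - n := by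
    obtain ⟨a, b, hab⟩ := FiniteField.exists_root_sum_quadratic (R := F)
      (f := Polynomial.X ^ 2) (g := Polynomial.X ^ 2 + Polynomial.C n)
      (by simp) (by
        rw [Polynomial.degree_add_C]
        · simp
        · simp) (by
        have := FiniteField.odd_card_of_char_ne_two (F := F) (by
          intro hchar
          apply h2
          have := CharP.cast_eq_zero F (ringChar F)
          rw [hchar] at this
          exact_mod_cast this)
        omega)
    refine ⟨a, b, ?_⟩
    simp at hab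
    linear_combination hab
  have h7 := key _ (key n hn a) b
  apply h7
  have : n + a ^ 2 + b ^ 2 = 0 := by linear_combination hab
  rw [this]
  exact IsSquare.zero

/-- affine maps with square multiplier as permutations -/
theorem exists_affine {a : F} (ha : a ≠ 0) (b : F) :
    ∃ g : Equiv.Perm (OnePoint F), g ∞ = ∞ ∧ ∀ x : F, g x = ((a ^ 2 * x + b : F) : OnePoint F) := by
  have hd : Matrix.det !![a, b / a; 0, a⁻¹] = 1 := by
    rw [Matrix.det_fin_two_of, mul_inv_cancel₀ ha]; ring
  let M : SpecialLinearGroup (Fin 2) F := ⟨!![a, b / a; 0, a⁻¹], hd⟩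
  refine ⟨moebius F M, ?_, ?_⟩
  · rw [moebius_infty, if_pos]
    rfl
  · intro k
    rw [moebius_coe]
    change (if (0 : F) * k + a⁻¹ = 0 then (∞ : OnePoint F) else
      (((a * k + b / a) / ((0 : F) * k + a⁻¹) : F) : OnePoint F)) = _
    rw [if_neg (by simpa using ha), coe_eq_coe]
    field_simp
    ring

theorem shape_square_one [Fintype F] (h2 : (2 : F) ≠ 0) (h1 : IsSquare (-1 : F))
    (A : Subgroup (Equiv.Perm (OnePoint F)))
    (hN : ∀ g : Equiv.Perm (OnePoint F), g ∞ = ∞ →
      (g ∈ A ↔ ∃ a b : F, a ≠ 0 ∧ ∀ x : F, g x = ((a ^ 2 * x + b : F) : OnePoint F)))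
    {t : Equiv.Perm (OnePoint F)} (htA : t ∈ A) (ht0 : t (0 : F) = ∞) (htinf : t ∞ = (0 : F))
    {τ : F → F} (hτ : ∀ x : F, x ≠ 0 → t x = (τ x : OnePoint F)) (hτ0 : ∀ x, x ≠ 0 → τ x ≠ 0)
    (hττ : ∀ x, x ≠ 0 → τ (τ x) = x)
    (hinv : ∀ a x : F, a ≠ 0 → x ≠ 0 → τ (a ^ 2 * x) = (a⁻¹) ^ 2 * τ x)
    (hone : τ 1 = 1) : ∀ x, x ≠ 0 → τ x = 1 / x := by
  have hmul : ∀ a b : F, ¬ IsSquare a → ¬ IsSquare b → IsSquare (a * b) := by
    intro a b ha hb
    have ha0 : a ≠ 0 := by rintro rfl; exact ha (IsSquare.zero)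
    have hb0 : b ≠ 0 := by rintro rfl; exact hb (IsSquare.zero)
    rw [← quadraticChar_one_iff_isSquare (mul_ne_zero ha0 hb0), map_mul,
      quadraticChar_neg_one_iff_not_isSquare.2 ha, quadraticChar_neg_one_iff_not_isSquare.2 hb]
    norm_num
  have hsq : ∀ x, x ≠ 0 → IsSquare x → τ x = 1 / x := by
    rintro x hx ⟨s, rfl⟩
    have hs : s ≠ 0 := by rintro rfl; exact hx (by simp)
    have := hinv s 1 hs one_ne_zero
    rw [mul_one] at this
    rw [← sq, this, hone]
    field_simp
  obtain ⟨y, hy, hy1, hy1'⟩ := exists_nonsquare_add_one_isSquare h2 h1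
  have hy0 : y ≠ 0 := by rintro rfl; exact hy IsSquare.zero
  -- `τ y` is a nonsquare
  have hd : ¬ IsSquare (τ y) := by
    intro h
    have h3 := hsq _ (hτ0 y hy0) h
    rw [hττ y hy0] at h3
    apply hy
    rw [h3]
    obtain ⟨s, hs⟩ := h
    exact ⟨1 / s, by rw [hs]; ring⟩
  set e := y * τ y with he
  have he0 : e ≠ 0 := mul_ne_zero hy0 (hτ0 y hy0)
  have hnsq : ∀ x, x ≠ 0 → ¬ IsSquare x → τ x = e / x := by
    intro x hx hxn
    have h3 : IsSquare (x / y) := by
      have h4 := hmul x y hxn hy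
      have : x / y = (x * y) * (y⁻¹ * y⁻¹) := by field_simp
      rw [this]
      exact h4.mul ⟨y⁻¹, rfl⟩
    obtain ⟨s, hs⟩ := h3
    have hs0 : s ≠ 0 := by
      rintro rfl
      rw [div_eq_iff hy0] at hs
      exact hx (by simpa using hs)
    have hxs : x = s ^ 2 * y := by
      rw [div_eq_iff hy0] at hs
      rw [hs]; ring
    have h5 := hinv s y hs0 hy0
    rw [← hxs] at h5
    rw [h5, he, hxs]
    field_simp
  -- the relation
  obtain ⟨u, huinf, hu⟩ := exists_affine (F := F) one_ne_zero 1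
  have huA : u ∈ A := (hN u huinf).2 ⟨1, 1, one_ne_zero, hu⟩
  have hu' : ∀ x : F, u x = ((x + 1 : F) : OnePoint F) := by
    intro x; rw [hu]; simp
  have huinv : ∀ x : F, u⁻¹ x = ((x - 1 : F) : OnePoint F) := by
    intro x
    rw [Equiv.Perm.inv_eq_iff_eq, hu']
    simp
  have huinf' : u⁻¹ ∞ = ∞ := by rw [Equiv.Perm.inv_eq_iff_eq, huinf]
  have hm1 : t (-1 : F) = ((-1 : F) : OnePoint F) := by
    rw [hτ _ (neg_ne_zero.2 one_ne_zero), hsq _ (neg_ne_zero.2 one_ne_zero) h1]
    norm_num
  have hone' : t (1 : F) = ((1 : F) : OnePoint F) := by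
    rw [hτ _ one_ne_zero, hone]
  set w : Equiv.Perm (OnePoint F) := t * u⁻¹ * t * u * t * u with hw
  have hwA : w ∈ A :=
    mul_mem (mul_mem (mul_mem (mul_mem (mul_mem htA (inv_mem huA)) htA) huA) htA) huA
  have hwinf : w ∞ = ∞ := by
    simp only [hw, Equiv.Perm.mul_apply]
    rw [huinf, htinf, hu', zero_add, hone', huinv, sub_self, ht0]
  obtain ⟨a, b, ha, hab⟩ := (hN w hwinf).1 hwA
  have hw1 : w (-1 : F) = ((-1 : F) : OnePoint F) := by
    simp only [hw, Equiv.Perm.mul_apply]
    rw [hu', neg_add_cancel, ht0, huinf, htinf, huinv, zero_sub, hm1]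
  have hw2 : w (-2 : F) = ((0 : F) : OnePoint F) := by
    simp only [hw, Equiv.Perm.mul_apply]
    rw [hu', show (-2 + 1 : F) = -1 by norm_num, hm1, hu', neg_add_cancel, ht0, huinf', htinf]
  rw [hab, coe_eq_coe] at hw1 hw2
  have ha2 : a ^ 2 = -1 := by linear_combination hw1 - hw2
  have hb : b = -2 := by linear_combination hw1 + ha2
  have hwy : w ((y - 1 : F) : OnePoint F) = ((-(y + 1) : F) : OnePoint F) := by
    rw [hab, coe_eq_coe, ha2, hb]; ring
  set z : F := e / y + 1 with hz
  have h3 : t (u⁻¹ (t (z : F))) = ((-(y + 1) : F) : OnePoint F) := by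
    rw [← hwy]
    simp only [hw, Equiv.Perm.mul_apply]
    rw [hu', sub_add_cancel, hτ y hy0, hnsq y hy0 hy, hu']
  have h4 : u⁻¹ (t (z : F)) = ((- (1 / (y + 1)) : F) : OnePoint F) := by
    apply t.injective
    rw [h3]
    have h5 : IsSquare (-(1 / (y + 1))) := by
      have : -(1 / (y + 1)) = (-1) * ((y + 1) * ((y + 1)⁻¹ * (y + 1)⁻¹)) := by field_simp
      rw [this]
      exact h1.mul (hy1.mul ⟨_, rfl⟩)
    have h6 : -(1 / (y + 1)) ≠ 0 := neg_ne_zero.2 (one_div_ne_zero hy1')
    rw [hτ _ h6, hsq _ h6 h5, coe_eq_coe]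
    field_simp
  have h5 : t (z : F) = ((y / (y + 1) : F) : OnePoint F) := by
    rw [Equiv.Perm.inv_eq_iff_eq, hu'] at h4
    rw [h4, coe_eq_coe]
    field_simp
    ring
  have hz0 : z ≠ 0 := by
    intro h0
    rw [h0, ht0] at h5
    exact (coe_ne_infty _ h5.symm).elim
  rw [hτ z hz0, coe_eq_coe] at h5
  have he1 : e = 1 := by
    have hzz : z * y = e + y := by rw [hz]; field_simp
    by_cases h6 : IsSquare z
    · rw [hsq z hz0 h6, div_eq_div_iff hz0 hy1'] at h5
      linear_combination (-1 : F) * h5 - hzz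
    · rw [hnsq z hz0 h6, div_eq_div_iff hz0 hy1'] at h5
      have h7 : (e - 1) * y = 0 := by linear_combination h5 + hzz
      rcases mul_eq_zero.1 h7 with h8 | h8
      · linear_combination h8
      · exact (hy0 h8).elim
  intro x hx
  by_cases h6 : IsSquare x
  · exact hsq x hx h6
  · rw [hnsq x hx h6, he1]

/-- A group of permutations of the projective line whose point stabiliser consists of the affine
maps with square multiplier, and with a suitable involution swapping `0` and `∞`, is PSL(2,F). -/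
theorem range_eq_of_inverting_swap [Fintype F] (h2 : (2 : F) ≠ 0)
    (A : Subgroup (Equiv.Perm (OnePoint F)))
    (hN : ∀ g : Equiv.Perm (OnePoint F), g ∞ = ∞ →
      (g ∈ A ↔ ∃ a b : F, a ≠ 0 ∧ ∀ x : F, g x = ((a ^ 2 * x + b : F) : OnePoint F)))
    {t : Equiv.Perm (OnePoint F)} (htA : t ∈ A) (ht0 : t (0 : F) = ∞) (htinf : t ∞ = (0 : F))
    (htt : t * t = 1)
    (hinv : ∀ a x y : F, a ≠ 0 → x ≠ 0 → t x = (y : OnePoint F) →
      t ((a ^ 2 * x : F) : OnePoint F) = (((a⁻¹) ^ 2 * y : F) : OnePoint F))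
    (hfix1 : IsSquare (-1 : F) → ∀ s ∈ A, s (0 : F) = ∞ → s ∞ = (0 : F) →
      ∃ x : F, s x = (x : OnePoint F))
    (hfix2 : ¬ IsSquare (-1 : F) → ∀ x : F, t x ≠ (x : OnePoint F)) :
    A = (moebius F).range := by
  have hex : ∀ x : F, x ≠ 0 → ∃ y : F, y ≠ 0 ∧ t x = (y : OnePoint F) := by
    intro x hx
    have h3 : t x ≠ ∞ := by
      intro h
      rw [← ht0] at h
      have := t.injective h
      rw [coe_eq_coe] at this
      exact hx this
    obtain ⟨y, hy⟩ := OnePoint.ne_infty_iff_exists.1 h3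
    refine ⟨y, ?_, hy.symm⟩
    rintro rfl
    rw [← htinf] at hy
    have := t.injective hy
    exact coe_ne_infty _ this.symm
  choose! τ hτ0 hτ using hex
  have hττ : ∀ x, x ≠ 0 → τ (τ x) = x := by
    intro x hx
    have h3 : (t * t) x = (x : OnePoint F) := by rw [htt]; rfl
    rw [Equiv.Perm.mul_apply, hτ x hx, hτ _ (hτ0 x hx), coe_eq_coe] at h3
    exact h3
  have hinv' : ∀ a x : F, a ≠ 0 → x ≠ 0 → τ (a ^ 2 * x) = (a⁻¹) ^ 2 * τ x := by
    intro a x ha hx
    have h3 := hinv a x (τ x) ha hx (hτ x hx)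
    rw [hτ _ (mul_ne_zero (pow_ne_zero 2 ha) hx), coe_eq_coe] at h3
    exact h3
  have htne : t ∞ ≠ ∞ := by rw [htinf]; exact coe_ne_infty _
  by_cases h1 : IsSquare (-1 : F)
  · -- `τ 1` is a square
    have hmul : ∀ a b : F, ¬ IsSquare a → ¬ IsSquare b → IsSquare (a * b) := by
      intro a b ha hb
      have ha0 : a ≠ 0 := by rintro rfl; exact ha (IsSquare.zero)
      have hb0 : b ≠ 0 := by rintro rfl; exact hb (IsSquare.zero)
      rw [← quadraticChar_one_iff_isSquare (mul_ne_zero ha0 hb0), map_mul,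
        quadraticChar_neg_one_iff_not_isSquare.2 ha, quadraticChar_neg_one_iff_not_isSquare.2 hb]
      norm_num
    have hsq : ∀ x, x ≠ 0 → IsSquare x → τ x = τ 1 / x := by
      rintro x hx ⟨s, rfl⟩
      have hs : s ≠ 0 := by rintro rfl; exact hx (by simp)
      have := hinv' s 1 hs one_ne_zero
      rw [mul_one] at this
      rw [← sq, this]
      field_simp
    have hc0 : τ 1 ≠ 0 := hτ0 1 one_ne_zero
    have hcs : IsSquare (τ 1) := by
      by_contra hcns
      obtain ⟨x, hx⟩ := hfix1 h1 t htA ht0 htinf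
      have hx0 : x ≠ 0 := by
        rintro rfl
        rw [ht0] at hx
        exact coe_ne_infty _ hx.symm
      rw [hτ x hx0, coe_eq_coe] at hx
      by_cases h : IsSquare x
      · rw [hsq x hx0 h, div_eq_iff hx0] at hx
        exact hcns ⟨x, hx⟩
      · have h2 : IsSquare (τ 1 / x) := by
          have h3 := hmul (τ 1) x hcns h
          have : τ 1 / x = (τ 1 * x) * (x⁻¹ * x⁻¹) := by field_simp
          rw [this]
          exact h3.mul ⟨x⁻¹, rfl⟩
        have h3 : τ 1 / x ≠ 0 := div_ne_zero hc0 hx0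
        have h4 := hsq _ h3 h2
        have h5 : τ 1 / (τ 1 / x) = x := by field_simp
        rw [h5] at h4
        have h6 := hττ _ h3
        rw [h4, hx, eq_div_iff hx0] at h6
        exact hcns ⟨x, h6.symm⟩
    obtain ⟨s, hs⟩ := hcs
    have hs0 : s ≠ 0 := by rintro rfl; exact hc0 (by simpa using hs)
    obtain ⟨d, hdinf, hd⟩ := exists_affine (F := F) (inv_ne_zero hs0) 0
    have hdA : d ∈ A := (hN d hdinf).2 ⟨_, _, inv_ne_zero hs0, hd⟩
    have hd' : ∀ x : F, d x = (((s⁻¹) ^ 2 * x : F) : OnePoint F) := by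
      intro x; rw [hd, add_zero]
    have hmain := shape_square_one h2 h1 A hN (t := d * t) (mul_mem hdA htA)
      (by rw [Equiv.Perm.mul_apply, ht0, hdinf])
      (by rw [Equiv.Perm.mul_apply, htinf, hd', mul_zero])
      (τ := fun x => (s⁻¹) ^ 2 * τ x)
      (by intro x hx; rw [Equiv.Perm.mul_apply, hτ x hx, hd'])
      (by intro x hx; exact mul_ne_zero (pow_ne_zero 2 (inv_ne_zero hs0)) (hτ0 x hx))
      (by
        intro x hx
        rw [hinv' _ _ (inv_ne_zero hs0) (hτ0 x hx), hττ x hx]
        field_simp)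
      (by
        intro a x ha hx
        rw [hinv' a x ha hx]
        ring)
      (by rw [hs]; field_simp)
    have hall : ∀ x : F, x ≠ 0 → t x = ((s ^ 2 / x : F) : OnePoint F) := by
      intro x hx
      rw [hτ x hx, coe_eq_coe]
      have h3 := hmain x hx
      field_simp at h3
      field_simp
      linear_combination h3
    have htB : t ∈ (moebius F).range := by
      refine swap_mem_range (c := s ^ 2) (pow_ne_zero 2 hs0) ?_ ht0 htinf hall
      have : -s ^ 2 = (-1) * (s * s) := by ring
      rw [this]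
      exact h1.mul ⟨s, rfl⟩
    exact eq_range_moebius_of_swap A hN htA htB htne
  · obtain ⟨c, hc0, hcs, hc⟩ := swap_shape_nonsquare h1 hτ0 hττ hinv' (by
      intro x hx h
      apply hfix2 h1 x
      rw [hτ x hx, h])
    have htB : t ∈ (moebius F).range :=
      swap_mem_range hc0 hcs ht0 htinf (fun x hx => by rw [hτ x hx, hc x hx])
    exact eq_range_moebius_of_swap A hN htA htB htne

end Abstract

end Cfsg.Agent.SmallSimple.PSL2Moebius
end

-- part: SmallSimple/PSL2Coord
section
set_option autoImplicit false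

namespace Cfsg.Agent.SmallSimple.PSL2Coord

open Matrix OnePoint

/-- powers of an element of order `p` indexed by a field with `p` elements -/
theorem exists_param {p : ℕ} [Fact p.Prime] {G : Type*} [Group G] {σ : G} (hσ : orderOf σ = p)
    {F : Type*} [Field F] [Fintype F] (hF : Fintype.card F = p) :
    ∃ u : F → G, (∀ n : ℕ, u (n : F) = σ ^ n) ∧ (∀ x y, u (x + y) = u x * u y) ∧
      Function.Injective u := by
  let φ : ZMod p ≃+* F := ZMod.ringEquivOfPrime F Fact.out hF
  have hcast : ∀ n : ℕ, φ.symm (n : F) = (n : ZMod p) := fun n => map_natCast φ.symm n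
  have h1 : ∀ n : ℕ, σ ^ (φ.symm (n : F)).val = σ ^ n := by
    intro n
    rw [hcast, ZMod.val_natCast, ← hσ, pow_mod_orderOf]
  have hsurj : ∀ x : F, ∃ n : ℕ, (n : F) = x := by
    intro x
    refine ⟨(φ.symm x).val, ?_⟩
    apply φ.symm.injective
    rw [hcast, ZMod.natCast_zmod_val]
  refine ⟨fun k => σ ^ (φ.symm k).val, h1, ?_, ?_⟩
  · intro x y
    obtain ⟨n, rfl⟩ := hsurj x
    obtain ⟨m, rfl⟩ := hsurj y
    simp only
    rw [h1, h1, ← Nat.cast_add, h1, pow_add]
  · intro x y hxy
    simp only at hxy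
    rw [pow_inj_mod, hσ, Nat.mod_eq_of_lt (ZMod.val_lt _), Nat.mod_eq_of_lt (ZMod.val_lt _)] at hxy
    exact φ.symm.injective (ZMod.val_injective p hxy)

theorem exists_coord {p : ℕ} [Fact p.Prime] (hp : p ≠ 2) {G X : Type*} [Group G] [Finite G]
    [MulAction G X] [FaithfulSMul G X] [MulAction.IsPretransitive G X]
    (hX : Nat.card X = p + 1) (hG : Nat.card G * 2 = (p + 1) * p * (p - 1))
    {F : Type*} [Field F] [Fintype F] [DecidableEq F] (hF : Fintype.card F = p) :
    ∃ Φ : G →* Equiv.Perm (OnePoint F), Function.Injective Φ ∧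
      (∀ g : Equiv.Perm (OnePoint F), g ∞ = ∞ →
        (g ∈ Φ.range ↔ ∃ a b : F, a ≠ 0 ∧ ∀ x : F, g x = ((a ^ 2 * x + b : F) : OnePoint F))) ∧
      (∃ g : G, Φ g ∞ ≠ ∞) := by
  have hpp : p.Prime := Fact.out
  have hp3 : 3 ≤ p := by
    have := hpp.two_le
    omega
  have hodd : Odd p := hpp.odd_of_ne_two hp
  obtain ⟨q, hq⟩ := hodd
  have hXfin : Finite X := Nat.finite_of_card_ne_zero (by omega)
  -- an element of order p
  have hpG : p ∣ Nat.card G := by
    have h1 : p ∣ Nat.card G * 2 := by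
      rw [hG]
      exact Dvd.intro_left (p + 1) rfl |>.mul_right _
    rcases (Nat.Prime.dvd_mul hpp).1 h1 with h | h
    · exact h
    · have := Nat.le_of_dvd (by norm_num) h
      omega
  obtain ⟨σ, hσ⟩ := exists_prime_orderOf_dvd_card' p hpG
  have hσ1 : σ ≠ 1 := by
    rintro rfl
    rw [orderOf_one] at hσ
    omega
  -- a unique fixed point
  have hPp : IsPGroup p (Subgroup.zpowers σ) := by
    apply IsPGroup.of_card (n := 1)
    rw [Nat.card_zpowers, hσ, pow_one]
  have hfixmod := hPp.card_modEq_card_fixedPoints X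
  have hmemfix : ∀ x : X, x ∈ MulAction.fixedPoints (Subgroup.zpowers σ) X ↔ σ • x = x := by
    intro x
    constructor
    · intro h
      exact h ⟨σ, Subgroup.mem_zpowers σ⟩
    · rintro h ⟨g, hg⟩
      obtain ⟨n, rfl⟩ := Subgroup.mem_zpowers_iff.1 hg
      change σ ^ n • x = x
      have : σ ∈ MulAction.stabilizer G x := h
      exact (MulAction.stabilizer G x).zpow_mem this n
  have hfixlt : Nat.card (MulAction.fixedPoints (Subgroup.zpowers σ) X) < p + 1 := by
    rw [← hX]
    apply lt_of_le_of_ne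
    · exact Nat.card_le_card_of_injective _ Subtype.val_injective
    · intro h
      apply hσ1
      apply FaithfulSMul.eq_of_smul_eq_smul (α := X)
      intro x
      rw [one_smul, ← hmemfix]
      have h2 : Function.Bijective
          (Subtype.val : MulAction.fixedPoints (Subgroup.zpowers σ) X → X) :=
        (Nat.bijective_iff_injective_and_card _).2 ⟨Subtype.val_injective, h⟩
      obtain ⟨y, hy⟩ := h2.2 x
      rw [← hy]
      exact y.2
  have hfix1 : Nat.card (MulAction.fixedPoints (Subgroup.zpowers σ) X) = 1 := by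
    rw [hX] at hfixmod
    have h1 : 1 ≡ Nat.card (MulAction.fixedPoints (Subgroup.zpowers σ) X) [MOD p] := by
      have : p + 1 ≡ 1 [MOD p] := by simp [Nat.ModEq]
      exact this.symm.trans hfixmod
    set c := Nat.card (MulAction.fixedPoints (Subgroup.zpowers σ) X) with hc
    have h2 : c % p = 1 := by
      have := h1.symm
      unfold Nat.ModEq at this
      rw [this, Nat.mod_eq_of_lt (by omega)]
    by_cases hcp : c < p
    · rw [Nat.mod_eq_of_lt hcp] at h2
      exact h2
    · have : c = p := by omega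
      rw [this, Nat.mod_self] at h2
      omega
  obtain ⟨xi, hxi, hxiu⟩ : ∃ xi : X, σ • xi = xi ∧ ∀ x, σ • x = x → x = xi := by
    rw [Nat.card_eq_one_iff_unique] at hfix1
    obtain ⟨hs, ⟨⟨xi, hxi⟩⟩⟩ := hfix1
    refine ⟨xi, (hmemfix xi).1 hxi, ?_⟩
    intro x hx
    have h1 := hs.elim ⟨x, (hmemfix x).2 hx⟩ ⟨xi, hxi⟩
    exact congrArg Subtype.val h1
  obtain ⟨x0, hx0⟩ : ∃ x0 : X, x0 ≠ xi := by
    have : Nontrivial X := by
      rw [← Finite.one_lt_card_iff_nontrivial, hX]
      omega
    exact exists_ne xi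
  -- parametrisation
  obtain ⟨u, hun, huadd, huinj⟩ := exists_param hσ hF
  have hu0 : u 0 = 1 := by
    have := hun 0
    simpa using this
  have hu1 : u 1 = σ := by
    have := hun 1
    simpa using this
  have hpow : ∀ (n : ℕ) (k : F), u k ^ n = u (n * k) := by
    intro n k
    induction n with
    | zero => simp [hu0]
    | succ n ih => rw [pow_succ, ih, ← huadd]; push_cast; ring_nf
  have hcastsurj : ∀ x : F, ∃ n : ℕ, (n : F) = x := by
    intro x
    let φ : ZMod p ≃+* F := ZMod.ringEquivOfPrime F Fact.out hF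
    refine ⟨(φ.symm x).val, ?_⟩
    apply φ.symm.injective
    rw [map_natCast, ZMod.natCast_zmod_val]
  have hufix : ∀ (k : F) (x : X), k ≠ 0 → u k • x = x → x = xi := by
    intro k x hk h
    apply hxiu
    obtain ⟨n, hn⟩ := hcastsurj k⁻¹
    have h1 : u k ^ n = σ := by
      rw [hpow, hn, inv_mul_cancel₀ hk, hu1]
    rw [← h1]
    have h2 : u k ∈ MulAction.stabilizer G x := h
    exact (MulAction.stabilizer G x).pow_mem h2 n
  have huxi : ∀ k : F, u k • xi = xi := by
    intro k
    obtain ⟨n, rfl⟩ := hcastsurj k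
    rw [hun]
    have h2 : σ ∈ MulAction.stabilizer G xi := hxi
    exact (MulAction.stabilizer G xi).pow_mem h2 n
  let E0 : OnePoint F → X := fun y => y.elim xi (fun k => u k • x0)
  have hE0inf : E0 ∞ = xi := rfl
  have hE0coe : ∀ k : F, E0 k = u k • x0 := fun k => rfl
  have hneg : ∀ k : F, (u k)⁻¹ = u (-k) := by
    intro k
    rw [inv_eq_iff_mul_eq_one, ← huadd, add_neg_cancel, hu0]
  have hE0inj : Function.Injective E0 := by
    intro y z hyz
    induction y using OnePoint.rec with
    | infty =>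
      induction z using OnePoint.rec with
      | infty => rfl
      | coe k =>
        rw [hE0inf, hE0coe] at hyz
        exfalso
        apply hx0
        rw [← huxi k] at hyz
        exact (MulAction.injective (u k) hyz).symm
    | coe l =>
      induction z using OnePoint.rec with
      | infty =>
        rw [hE0inf, hE0coe] at hyz
        exfalso
        apply hx0
        rw [← huxi l] at hyz
        exact (MulAction.injective (u l) hyz)
      | coe k =>
        rw [hE0coe, hE0coe] at hyz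
        rw [coe_eq_coe]
        by_contra hne
        apply hx0
        apply hufix (l - k) x0 (sub_ne_zero.2 hne)
        rw [sub_eq_neg_add, huadd, mul_smul, hyz, ← hneg, inv_smul_smul]
  have hcardO : Nat.card (OnePoint F) = p + 1 := by
    change Nat.card (Option F) = p + 1
    rw [Finite.card_option, Nat.card_eq_fintype_card, hF]
  have hE0bij : Function.Bijective E0 :=
    (Nat.bijective_iff_injective_and_card _).2 ⟨hE0inj, by rw [hcardO, hX]⟩
  let E : OnePoint F ≃ X := Equiv.ofBijective E0 hE0bij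
  let Φ : G →* Equiv.Perm (OnePoint F) :=
    (E.symm.permCongrHom : Equiv.Perm X ≃* Equiv.Perm (OnePoint F)).toMonoidHom.comp
      (MulAction.toPermHom G X)
  have hΦ : ∀ (g : G) (y : OnePoint F), E (Φ g y) = g • E y := by
    intro g y
    change E (E.symm (g • (E.symm.symm y))) = _
    rw [Equiv.apply_symm_apply]
    rfl
  have hEinf : E ∞ = xi := rfl
  have hEcoe : ∀ k : F, E k = u k • x0 := fun k => rfl
  have hΦinj : Function.Injective Φ := by
    intro g h hgh
    apply FaithfulSMul.eq_of_smul_eq_smul (α := X)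
    intro x
    obtain ⟨y, rfl⟩ := E.surjective x
    rw [← hΦ, ← hΦ, hgh]
  -- order of the stabiliser
  have hNcard : Nat.card (MulAction.stabilizer G xi) * 2 = p * (p - 1) := by
    have h1 := Subgroup.card_mul_index (MulAction.stabilizer G xi)
    rw [MulAction.index_stabilizer_of_transitive, hX] at h1
    have h2 : (Nat.card (MulAction.stabilizer G xi) * 2) * (p + 1) = (p * (p - 1)) * (p + 1) := by
      calc (Nat.card (MulAction.stabilizer G xi) * 2) * (p + 1)
          = (Nat.card (MulAction.stabilizer G xi) * (p + 1)) * 2 := by ring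
        _ = Nat.card G * 2 := by rw [h1]
        _ = (p * (p - 1)) * (p + 1) := by rw [hG]; ring
    exact Nat.eq_of_mul_eq_mul_right (by omega) h2
  have hpm1 : p - 1 = 2 * q := by omega
  have hNcard' : Nat.card (MulAction.stabilizer G xi) = p * q := by
    rw [hpm1] at hNcard
    have : Nat.card (MulAction.stabilizer G xi) * 2 = (p * q) * 2 := by rw [hNcard]; ring
    exact Nat.eq_of_mul_eq_mul_right (by norm_num) this
  have hq0 : 0 < q := by omega
  have hqp : q < p := by omega
  -- the Sylow p-subgroup of the stabiliser is normal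
  have hnormal : ∀ g : G, g • xi = xi → ∃ m : ℕ, g * σ * g⁻¹ = σ ^ m := by
    intro g hg
    set N := MulAction.stabilizer G xi with hN
    have hσN : σ ∈ N := hxi
    have hgN : g ∈ N := hg
    let σ' : N := ⟨σ, hσN⟩
    let g' : N := ⟨g, hgN⟩
    have hσ' : orderOf σ' = p := by rw [← hσ]; exact Subgroup.orderOf_mk σ hσN
    have hP' : IsPGroup p (Subgroup.zpowers σ') := by
      apply IsPGroup.of_card (n := 1)
      rw [Nat.card_zpowers, hσ', pow_one]
    obtain ⟨Q, hQ⟩ := hP'.exists_le_sylow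
    have hQcard : Nat.card Q = p := by
      rw [Sylow.card_eq_multiplicity, hNcard']
      have : (p * q).factorization p = 1 := by
        rw [Nat.factorization_mul hpp.ne_zero hq0.ne', Finsupp.add_apply,
          hpp.factorization_self, Nat.factorization_eq_zero_of_not_dvd]
        exact Nat.not_dvd_of_pos_of_lt hq0 hqp
      rw [this, pow_one]
    have hQeq : (Subgroup.zpowers σ') = Q := by
      apply Subgroup.eq_of_le_of_card_ge hQ
      rw [hQcard, Nat.card_zpowers, hσ']
    have hQidx : (Q : Subgroup N).index = q := by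
      have h1 := Subgroup.card_mul_index (Q : Subgroup N)
      have h2 : Nat.card (Q : Subgroup N) = p := hQcard
      rw [h2, hNcard'] at h1
      exact Nat.eq_of_mul_eq_mul_left hpp.pos h1
    have hsyl1 : Nat.card (Sylow p N) = 1 := by
      have h1 := Sylow.card_dvd_index Q
      rw [hQidx] at h1
      have h2 := Nat.le_of_dvd hq0 h1
      have h3 := card_sylow_modEq_one p N
      unfold Nat.ModEq at h3
      rw [Nat.mod_eq_of_lt (by omega), Nat.mod_eq_of_lt (by omega)] at h3
      exact h3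
    have hss : Subsingleton (Sylow p N) := (Nat.card_eq_one_iff_unique.1 hsyl1).1
    have hQn : (Q : Subgroup N).Normal := Sylow.normal_of_subsingleton Q
    have h4 : g' * σ' * g'⁻¹ ∈ (Q : Subgroup N) := by
      apply hQn.conj_mem
      rw [← hQeq]
      exact Subgroup.mem_zpowers σ'
    rw [← hQeq] at h4
    have h5 : g' * σ' * g'⁻¹ ∈ Submonoid.powers σ' := by
      rw [mem_powers_iff_mem_zpowers]
      exact h4
    obtain ⟨m, hm⟩ := h5
    refine ⟨m, ?_⟩
    have := congrArg Subtype.val hm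
    exact this.symm
  -- action of the stabiliser
  have hconj : ∀ g : G, g • xi = xi → ∃ a : F, a ≠ 0 ∧ ∀ k : F, g * u k * g⁻¹ = u (a * k) := by
    intro g hg
    obtain ⟨m, hm⟩ := hnormal g hg
    have h1 : ∀ k : F, g * u k * g⁻¹ = u ((m : F) * k) := by
      intro k
      obtain ⟨n, rfl⟩ := hcastsurj k
      rw [hun, ← conj_pow, hm, ← pow_mul, ← hun, Nat.cast_mul]
    refine ⟨m, ?_, h1⟩
    intro h0
    have h2 := h1 1
    rw [h0, zero_mul, hu0, hu1] at h2
    have h3 : σ = 1 := by
      have := congrArg (fun x => g⁻¹ * x * g) h2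
      simpa [mul_assoc] using this
    exact hσ1 h3
  have hringchar : ringChar F ≠ 2 := by
    intro h
    have h1 := FiniteField.even_card_of_char_two h
    rw [hF] at h1
    omega
  have haff : ∀ g : G, g • xi = xi → ∃ a b : F, a ≠ 0 ∧ IsSquare a ∧
      ∀ k : F, g • E k = E ((a * k + b : F) : OnePoint F) := by
    intro g hg
    obtain ⟨a, ha, hak⟩ := hconj g hg
    have hpw : ∀ n : ℕ, ∀ k : F, g ^ n * u k * (g ^ n)⁻¹ = u (a ^ n * k) := by
      intro n
      induction n with
      | zero => intro k; simp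
      | succ n ih =>
        intro k
        rw [pow_succ]
        have : g ^ n * g * u k * (g ^ n * g)⁻¹ = g ^ n * (g * u k * g⁻¹) * (g ^ n)⁻¹ := by group
        rw [this, hak, ih, pow_succ]
        congr 1
        ring
    have hord : g ^ (p * q) = 1 := by
      have h1 : (⟨g, hg⟩ : MulAction.stabilizer G xi) ^ Nat.card (MulAction.stabilizer G xi) = 1 :=
        pow_card_eq_one'
      rw [hNcard'] at h1
      exact congrArg Subtype.val h1
    have ha1 : a ^ (p * q) = 1 := by
      have h1 := hpw (p * q) 1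
      rw [hord] at h1
      have h2 : u 1 = u (a ^ (p * q) * 1) := by rw [← h1]; group
      have h3 := huinj h2
      rw [mul_one] at h3
      exact h3.symm
    have haq : a ^ q = 1 := by
      rw [pow_mul] at ha1
      have : a ^ p = a := by rw [← hF]; exact FiniteField.pow_card a
      rwa [this] at ha1
    have hasq : IsSquare a := by
      rw [FiniteField.isSquare_iff hringchar ha, hF]
      have : p / 2 = q := by omega
      rw [this, haq]
    have hgx0 : g • x0 ≠ xi := by
      intro h
      rw [← hg] at h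
      exact hx0 (MulAction.injective g h)
    obtain ⟨y, hy⟩ := E.surjective (g • x0)
    have hyne : y ≠ ∞ := by
      rintro rfl
      exact hgx0 hy.symm
    obtain ⟨b, rfl⟩ := OnePoint.ne_infty_iff_exists.1 hyne
    refine ⟨a, b, ha, hasq, ?_⟩
    intro k
    rw [hEcoe, hEcoe]
    have h1 : g • u k • x0 = (g * u k * g⁻¹) • (g • x0) := by
      simp [mul_smul]
    rw [h1, hak, ← hy, hEcoe, ← mul_smul, ← huadd]
  -- counting
  have hsqcard : Nat.card (powMonoidHom 2 : Fˣ →* Fˣ).range = q := by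
    rw [IsCyclic.card_powMonoidHom_range, Nat.card_units, Nat.card_eq_fintype_card, hF, hpm1]
    have : (2 * q).gcd 2 = 2 := by
      apply Nat.gcd_eq_right
      exact Dvd.intro q rfl
    rw [this]
    omega
  choose a b ha hsq hab using haff
  have hmemsq : ∀ (g : G) (hg : g • xi = xi), Units.mk0 (a g hg) (ha g hg) ∈
      (powMonoidHom 2 : Fˣ →* Fˣ).range := by
    intro g hg
    obtain ⟨s, hs⟩ := hsq g hg
    have hs0 : s ≠ 0 := by
      rintro rfl
      apply ha g hg
      simpa using hs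
    refine ⟨Units.mk0 s hs0, ?_⟩
    ext
    simp [hs, sq]
  let f : MulAction.stabilizer G xi → (powMonoidHom 2 : Fˣ →* Fˣ).range × F :=
    fun g => (⟨Units.mk0 (a g.1 g.2) (ha g.1 g.2), hmemsq g.1 g.2⟩, b g.1 g.2)
  have hfinj : Function.Injective f := by
    rintro ⟨g, hg⟩ ⟨h, hh⟩ hgh
    have h1 := congrArg Prod.fst hgh
    have h2 : b g hg = b h hh := congrArg Prod.snd hgh
    have h3 : a g hg = a h hh := by
      have := congrArg (fun x => ((Subtype.val x : Fˣ) : F)) h1
      exact this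
    apply Subtype.ext
    apply FaithfulSMul.eq_of_smul_eq_smul (α := X)
    intro x
    obtain ⟨y, rfl⟩ := E.surjective x
    change g • E y = h • E y
    induction y using OnePoint.rec with
    | infty => rw [hEinf, hg, hh]
    | coe k => rw [hab g hg, hab h hh, h2, h3]
  have hfbij : Function.Bijective f := by
    refine (Nat.bijective_iff_injective_and_card _).2 ⟨hfinj, ?_⟩
    rw [hNcard', Nat.card_prod, hsqcard, Nat.card_eq_fintype_card (α := F), hF, mul_comm]
  refine ⟨Φ, hΦinj, ?_, ?_⟩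
  · intro g hginf
    constructor
    · rintro ⟨g', rfl⟩
      have hg' : g' • xi = xi := by
        rw [← hEinf, ← hΦ, hginf]
      obtain ⟨s, hs⟩ := hsq g' hg'
      refine ⟨s, b g' hg', ?_, ?_⟩
      · rintro rfl
        apply ha g' hg'
        simpa using hs
      · intro x
        apply E.injective
        rw [hΦ, hab g' hg', hs]
        congr 2
        ring
    · rintro ⟨s, c, hs0, hs⟩
      obtain ⟨⟨g', hg'⟩, hfg⟩ := hfbij.2
        (⟨(Units.mk0 s hs0) ^ 2, ⟨Units.mk0 s hs0, rfl⟩⟩, c)
      have h1 := congrArg Prod.fst hfg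
      have h2 : b g' hg' = c := congrArg Prod.snd hfg
      have h3 : a g' hg' = s ^ 2 := by
        have := congrArg (fun x => ((Subtype.val x : Fˣ) : F)) h1
        exact this
      refine ⟨g', ?_⟩
      ext y
      apply E.injective
      rw [hΦ]
      induction y using OnePoint.rec with
      | infty => rw [hEinf, hginf, hEinf]; exact hg'
      | coe k => rw [hab g' hg', h2, h3, hs]
  · obtain ⟨g, hg⟩ := MulAction.exists_smul_eq G xi x0
    refine ⟨g, ?_⟩
    intro h
    apply hx0
    rw [← hg, ← hEinf, ← hΦ, h]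

end Cfsg.Agent.SmallSimple.PSL2Coord
end

-- part: SmallSimple/PSL2Invert
section
set_option autoImplicit false

/-!
Group theory behind the recognition of `PSL(2,q)`, `q` odd: in a simple group of permutations of
the projective line over a finite field of odd order `q` whose stabiliser of `∞` consists of the
maps `x ↦ a² x + b`, the elements swapping `0` and `∞` invert the stabiliser of `0` and `∞`.
-/

namespace Cfsg.Agent.SmallSimple.PSL2Invert

open OnePoint

/-- A transfer argument for abelian subgroups of simple groups. -/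
theorem eq_one_of_transfer {G : Type*} [Group G] [Finite G] [IsSimpleGroup G] (D : Subgroup G)
    (hD : D ≠ ⊤) (hcomm : ∀ a ∈ D, ∀ b ∈ D, a * b = b * a) (g : G)
    (hcop : (orderOf g).Coprime D.index)
    (key : ∀ (k : ℕ) (g₀ : G), g₀⁻¹ * g ^ k * g₀ ∈ D → g₀⁻¹ * g ^ k * g₀ = g ^ k) : g = 1 := by
  have : IsMulCommutative D :=
    ⟨⟨fun a b => Subtype.ext (hcomm a a.2 b b.2)⟩⟩
  open scoped IsMulCommutative in
  rcases (MonoidHom.transfer (MonoidHom.id D)).normal_ker.eq_bot_or_eq_top with h | h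
  · exfalso
    have hinj : Function.Injective (MonoidHom.transfer (MonoidHom.id D)) :=
      (MonoidHom.ker_eq_bot_iff _).1 h
    have h1 : Nat.card G ≤ Nat.card D := Nat.card_le_card_of_injective _ hinj
    exact hD (Subgroup.eq_top_of_le_card D h1)
  · have h1 : g ∈ (MonoidHom.transfer (MonoidHom.id D)).ker := by rw [h]; trivial
    rw [MonoidHom.mem_ker, MonoidHom.transfer_eq_pow _ g key] at h1
    have h2 : g ^ D.index = 1 := congrArg Subtype.val h1
    have h3 := orderOf_dvd_of_pow_eq_one h2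
    have h4 : orderOf g = 1 := Nat.eq_one_of_dvd_coprimes hcop dvd_rfl h3
    exact orderOf_eq_one_iff.1 h4

section

variable {F : Type*} [Field F]

/-- The affine permutation `x ↦ a x + b` of the projective line. -/
def aff (a b : F) (ha : a ≠ 0) : Equiv.Perm (OnePoint F) where
  toFun := OnePoint.map (fun x => a * x + b)
  invFun := OnePoint.map (fun x => a⁻¹ * (x - b))
  left_inv := by
    intro x
    cases x with
    | infty => rfl
    | coe x => simp [ha]
  right_inv := by
    intro x
    cases x with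
    | infty => rfl
    | coe x => simp [ha]

theorem aff_infty (a b : F) (ha : a ≠ 0) : aff a b ha ∞ = ∞ := rfl

theorem aff_coe (a b : F) (ha : a ≠ 0) (x : F) :
    aff a b ha (x : OnePoint F) = ((a * x + b : F) : OnePoint F) := rfl

variable (A : Subgroup (Equiv.Perm (OnePoint F)))
  (hN : ∀ g : Equiv.Perm (OnePoint F), g ∞ = ∞ →
    (g ∈ A ↔ ∃ a b : F, a ≠ 0 ∧ ∀ x : F, g x = ((a ^ 2 * x + b : F) : OnePoint F)))

include hN

theorem aff_mem (a b : F) (ha : a ≠ 0) : aff (a ^ 2) b (pow_ne_zero 2 ha) ∈ A :=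
  (hN _ rfl).2 ⟨a, b, ha, fun _ => rfl⟩

theorem transl_mem (b : F) : ∃ g ∈ A, g ∞ = ∞ ∧ ∀ x : F, g x = ((x + b : F) : OnePoint F) :=
  ⟨_, aff_mem A hN 1 b one_ne_zero, rfl, fun x => by rw [aff_coe]; simp⟩

theorem exists_map_infty (hne : ∃ g ∈ A, g ∞ ≠ ∞) (α : OnePoint F) : ∃ g ∈ A, g ∞ = α := by
  cases α with
  | infty => exact ⟨1, A.one_mem, rfl⟩
  | coe x =>
    obtain ⟨g, hg, hg'⟩ := hne
    obtain ⟨c, hc⟩ := ne_infty_iff_exists.1 hg'
    obtain ⟨u, hu, hu1, hu2⟩ := transl_mem A hN (x - c)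
    refine ⟨u * g, A.mul_mem hu hg, ?_⟩
    rw [Equiv.Perm.mul_apply, ← hc, hu2]
    congr 1
    ring

theorem exists_map_pair (hne : ∃ g ∈ A, g ∞ ≠ ∞) (α β : OnePoint F) (hαβ : α ≠ β) :
    ∃ g ∈ A, g ∞ = α ∧ g (0 : F) = β := by
  obtain ⟨g, hg, hg'⟩ := exists_map_infty A hN hne α
  have h1 : g⁻¹ β ≠ ∞ := by
    intro h
    rw [Equiv.Perm.inv_eq_iff_eq, hg'] at h
    exact hαβ h.symm
  obtain ⟨c, hc⟩ := ne_infty_iff_exists.1 h1
  obtain ⟨u, hu, hu1, hu2⟩ := transl_mem A hN c
  refine ⟨g * u, A.mul_mem hg hu, ?_, ?_⟩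
  · rw [Equiv.Perm.mul_apply, hu1, hg']
  · rw [Equiv.Perm.mul_apply, hu2, zero_add, hc]
    exact (Equiv.Perm.inv_eq_iff_eq.1 rfl).symm

theorem exists_swap (hne : ∃ g ∈ A, g ∞ ≠ ∞) :
    ∃ t ∈ A, t (0 : F) = ∞ ∧ t ∞ = (0 : F) := by
  obtain ⟨g, hg, h1, h2⟩ := exists_map_pair A hN hne ((0 : F) : OnePoint F) ∞ (by simp)
  exact ⟨g, hg, h2, h1⟩

/-- elements fixing `0` and `∞` -/
theorem torus_form (g : Equiv.Perm (OnePoint F)) (hg : g ∈ A) (h1 : g ∞ = ∞)
    (h0 : g (0 : F) = (0 : F)) :
    ∃ a : F, a ≠ 0 ∧ ∀ x : F, g x = ((a ^ 2 * x : F) : OnePoint F) := by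
  obtain ⟨a, b, ha, h⟩ := (hN g h1).1 hg
  have hb : b = 0 := by
    have := h 0
    rw [h0, coe_eq_coe] at this
    simpa using this.symm
  subst hb
  exact ⟨a, ha, fun x => by rw [h, add_zero]⟩

theorem invol_form (h2 : (2 : F) ≠ 0) (s : Equiv.Perm (OnePoint F)) (hs : s ∈ A) (h1 : s ∞ = ∞)
    (hss : s * s = 1) (hs1 : s ≠ 1) :
    IsSquare (-1 : F) ∧ ∃ b : F, ∀ x : F, s x = ((-x + b : F) : OnePoint F) := by
  obtain ⟨a, b, ha, h⟩ := (hN s h1).1 hs
  have key : ∀ x : F, a ^ 2 * (a ^ 2 * x + b) + b = x := by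
    intro x
    have h3 : s (s (x : OnePoint F)) = x := by
      rw [← Equiv.Perm.mul_apply, hss]; rfl
    rw [h, h, coe_eq_coe] at h3
    exact h3
  have k0 := key 0
  have k1 := key 1
  have h4 : (a ^ 2 - 1) * (a ^ 2 + 1) = 0 := by linear_combination k1 - k0
  rcases mul_eq_zero.1 h4 with h5 | h5
  · exfalso
    have ha2 : a ^ 2 = 1 := by linear_combination h5
    have hb : b = 0 := by
      have : 2 * b = 0 := by rw [ha2] at k0; linear_combination k0
      exact (mul_eq_zero.1 this).resolve_left h2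
    apply hs1
    ext x
    cases x with
    | infty => exact h1
    | coe x => rw [h, ha2, hb, one_mul, add_zero]; rfl
  · have ha2 : a ^ 2 = -1 := by linear_combination h5
    refine ⟨⟨a, by rw [← ha2, pow_two]⟩, b, fun x => ?_⟩
    rw [h, ha2, neg_one_mul]

open Classical in
/-- An involution has at most two fixed points. -/
theorem card_fixed_le [Fintype F] (h2 : (2 : F) ≠ 0) (hne : ∃ g ∈ A, g ∞ ≠ ∞)
    (s : Equiv.Perm (OnePoint F)) (hs : s ∈ A)
    (hss : s * s = 1) (hs1 : s ≠ 1) :
    (Finset.univ.filter (fun α : OnePoint F => s α = α)).card ≤ 2 := by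
  by_cases hfix : ∃ α, s α = α
  · obtain ⟨α, hα⟩ := hfix
    obtain ⟨g, hg, hg'⟩ := exists_map_infty A hN hne α
    have e1 : (g⁻¹ * s * g) ∞ = ∞ := by
      rw [Equiv.Perm.mul_apply, Equiv.Perm.mul_apply, hg', hα, Equiv.Perm.inv_eq_iff_eq, hg']
    obtain ⟨-, b, hb⟩ := invol_form A hN h2 (g⁻¹ * s * g)
      (A.mul_mem (A.mul_mem (A.inv_mem hg) hs) hg) e1
      (by
        have : g⁻¹ * s * g * (g⁻¹ * s * g) = g⁻¹ * (s * s) * g := by group
        rw [this, hss]; group)
      (by
        intro h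
        apply hs1
        have : s = g * (g⁻¹ * s * g) * g⁻¹ := by group
        rw [this, h]; group)
    have hsub : (Finset.univ.filter (fun α : OnePoint F => s α = α)) ⊆
        {g ∞, g ((b / 2 : F) : OnePoint F)} := by
      intro β hβ
      rw [Finset.mem_filter] at hβ
      have h3 : (g⁻¹ * s * g) (g⁻¹ β) = g⁻¹ β := by
        rw [Equiv.Perm.mul_apply, Equiv.Perm.mul_apply, ← Equiv.Perm.mul_apply g g⁻¹,
          mul_inv_cancel, Equiv.Perm.one_apply, hβ.2]
      rw [Finset.mem_insert, Finset.mem_singleton]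
      cases h4 : g⁻¹ β with
      | infty =>
        left
        rw [Equiv.Perm.inv_eq_iff_eq] at h4
        exact h4
      | coe x =>
        right
        rw [h4, hb, coe_eq_coe] at h3
        rw [Equiv.Perm.inv_eq_iff_eq] at h4
        rw [h4]
        congr 2
        field_simp
        linear_combination -h3
    exact (Finset.card_le_card hsub).trans Finset.card_le_two
  · have : (Finset.univ.filter (fun α : OnePoint F => s α = α)) = ∅ := by
      rw [Finset.filter_eq_empty_iff]
      intro α _ hα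
      exact hfix ⟨α, hα⟩
    rw [this]
    simp

/-- elements fixing `∞` and `c` -/
theorem two_point_form (g : Equiv.Perm (OnePoint F)) (hg : g ∈ A) (h1 : g ∞ = ∞) (c : F)
    (h0 : g (c : OnePoint F) = (c : OnePoint F)) :
    ∃ a : F, a ≠ 0 ∧ ∀ y : F, g ((c + y : F) : OnePoint F) = ((c + a ^ 2 * y : F) : OnePoint F) := by
  obtain ⟨a, b, ha, h⟩ := (hN g h1).1 hg
  have hb := h c
  rw [h0, coe_eq_coe] at hb
  refine ⟨a, ha, fun y => ?_⟩
  rw [h, coe_eq_coe]
  linear_combination -hb

open Classical in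
/-- The number of elements swapping `∞` and `c`. -/
theorem card_swap_le [Fintype F] (h2 : (2 : F) ≠ 0) (c : F) :
    2 * (Finset.univ.filter (fun s : Equiv.Perm (OnePoint F) =>
      s ∈ A ∧ s ∞ = c ∧ s (c : OnePoint F) = ∞)).card ≤ Fintype.card F - 1 := by
  have hchar : ringChar F ≠ 2 := by
    intro h
    apply h2
    have := ringChar.Nat.cast_ringChar (R := F)
    rw [h] at this
    exact_mod_cast this
  obtain ⟨ν, hν⟩ := FiniteField.exists_nonsquare hchar
  set W := Finset.univ.filter (fun s : Equiv.Perm (OnePoint F) =>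
      s ∈ A ∧ s ∞ = c ∧ s (c : OnePoint F) = ∞) with hW
  have hk : ∀ s ∈ W, ∀ s' ∈ W, ∃ a : F, a ≠ 0 ∧ ∀ y : F,
      s' ((c + y : F) : OnePoint F) = s ((c + a ^ 2 * y : F) : OnePoint F) := by
    intro s hs s' hs'
    rw [hW, Finset.mem_filter] at hs hs'
    obtain ⟨-, hs1, hs2, hs3⟩ := hs
    obtain ⟨-, hs1', hs2', hs3'⟩ := hs'
    obtain ⟨a, ha, h⟩ := two_point_form A hN (s⁻¹ * s') (A.mul_mem (A.inv_mem hs1) hs1')
      (by rw [Equiv.Perm.mul_apply, hs2', Equiv.Perm.inv_eq_iff_eq, hs2]) c
      (by rw [Equiv.Perm.mul_apply, hs3', Equiv.Perm.inv_eq_iff_eq, hs3])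
    refine ⟨a, ha, fun y => ?_⟩
    have := h y
    rw [Equiv.Perm.mul_apply, Equiv.Perm.inv_eq_iff_eq] at this
    exact this
  have hinj : ∀ μ : F, μ ≠ 0 → Set.InjOn (fun s : Equiv.Perm (OnePoint F) =>
      s ((c + μ : F) : OnePoint F)) (W : Set (Equiv.Perm (OnePoint F))) := by
    intro μ hμ s hs s' hs' h
    obtain ⟨a, ha, h1⟩ := hk s hs s' hs'
    have h3 : s ((c + μ : F) : OnePoint F) = s ((c + a ^ 2 * μ : F) : OnePoint F) := by
      rw [← h1]; exact h
    have h4 : a ^ 2 = 1 := by
      have h5 := s.injective h3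
      rw [coe_eq_coe, add_right_inj] at h5
      exact mul_right_cancel₀ hμ (by rw [one_mul]; exact h5.symm)
    rw [Finset.mem_coe, hW, Finset.mem_filter] at hs hs'
    ext x
    cases x with
    | infty => rw [hs.2.2.1, hs'.2.2.1]
    | coe x =>
      have h6 := h1 (x - c)
      rw [h4, one_mul, add_sub_cancel] at h6
      exact h6.symm
  have hdisj : Disjoint (W.image (fun s => s ((c + 1 : F) : OnePoint F)))
      (W.image (fun s => s ((c + ν : F) : OnePoint F))) := by
    rw [Finset.disjoint_left]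
    rintro _ h1 h3
    obtain ⟨s, hs, rfl⟩ := Finset.mem_image.1 h1
    obtain ⟨s', hs', h4⟩ := Finset.mem_image.1 h3
    obtain ⟨a, ha, h5⟩ := hk s hs s' hs'
    rw [h5] at h4
    have h6 := s.injective h4
    rw [coe_eq_coe, add_right_inj] at h6
    apply hν
    refine ⟨a⁻¹, ?_⟩
    field_simp
    linear_combination h6
  have hν0 : ν ≠ 0 := by
    rintro rfl
    exact hν ⟨0, by simp⟩
  have hsub : (W.image (fun s => s ((c + 1 : F) : OnePoint F))) ∪
      (W.image (fun s => s ((c + ν : F) : OnePoint F))) ⊆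
      (Finset.univ.image (fun x : F => (x : OnePoint F))).erase (c : OnePoint F) := by
    have hgen : ∀ μ : F, μ ≠ 0 → (W.image (fun s => s ((c + μ : F) : OnePoint F))) ⊆
      (Finset.univ.image (fun x : F => (x : OnePoint F))).erase (c : OnePoint F) := by
      intro μ hμ x hx
      obtain ⟨s, hs, rfl⟩ := Finset.mem_image.1 hx
      rw [hW, Finset.mem_filter] at hs
      rw [Finset.mem_erase, Finset.mem_image]
      refine ⟨?_, ?_⟩
      · rw [← hs.2.2.1]
        intro h
        exact coe_ne_infty _ (s.injective h)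
      · have : s ((c + μ : F) : OnePoint F) ≠ ∞ := by
          rw [← hs.2.2.2]
          intro h
          have := s.injective h
          rw [coe_eq_coe] at this
          apply hμ
          linear_combination this
        obtain ⟨y, hy⟩ := ne_infty_iff_exists.1 this
        exact ⟨y, Finset.mem_univ _, hy⟩
    exact Finset.union_subset (hgen 1 one_ne_zero) (hgen ν hν0)
  have h1 := Finset.card_le_card hsub
  rw [Finset.card_union_of_disjoint hdisj, Finset.card_image_of_injOn (hinj 1 one_ne_zero),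
    Finset.card_image_of_injOn (hinj ν hν0),
    Finset.card_erase_of_mem (Finset.mem_image_of_mem _ (Finset.mem_univ _)),
    Finset.card_image_of_injective _ coe_injective, Finset.card_univ] at h1
  omega

open Classical in
/-- If `-1` is a square, every element swapping `0` and `∞` is an involution. -/
theorem mul_self_of_swap [Fintype F] (h2 : (2 : F) ≠ 0) (hsq : IsSquare (-1 : F))
    (hne : ∃ g ∈ A, g ∞ ≠ ∞) (t : Equiv.Perm (OnePoint F)) (ht : t ∈ A)
    (h0 : t (0 : F) = ∞) (hinf : t ∞ = (0 : F)) : t * t = 1 := by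
  obtain ⟨i, hi⟩ := hsq
  have hi0 : i ≠ 0 := by
    rintro rfl
    simp at hi
  set I : Finset (Equiv.Perm (OnePoint F)) :=
    Finset.univ.filter (fun s => s ∈ A ∧ s * s = 1 ∧ s ≠ 1) with hI
  have hinvol : ∀ b : F, aff (i ^ 2) b (pow_ne_zero 2 hi0) ∈ I := by
    intro b
    rw [hI, Finset.mem_filter]
    refine ⟨Finset.mem_univ _, aff_mem A hN i b hi0, ?_, ?_⟩
    · ext x
      cases x with
      | infty => rfl
      | coe x =>
        rw [Equiv.Perm.mul_apply, aff_coe, aff_coe, pow_two, ← hi]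
        congr 1
        ring
    · intro h
      have h3 : aff (i ^ 2) b (pow_ne_zero 2 hi0) ((0 : F) : OnePoint F) = ((0 : F) : OnePoint F) := by
        rw [h]; rfl
      have h4 : aff (i ^ 2) b (pow_ne_zero 2 hi0) ((1 : F) : OnePoint F) = ((1 : F) : OnePoint F) := by
        rw [h]; rfl
      rw [aff_coe, coe_eq_coe, pow_two, ← hi] at h3 h4
      apply h2
      linear_combination h3 - h4
  have hb : ∀ α : OnePoint F, Fintype.card F ≤ (I.filter (fun s => s α = α)).card := by
    intro α
    obtain ⟨g, hg, hg'⟩ := exists_map_infty A hN hne α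
    have : (Finset.univ.image (fun b : F => g * aff (i ^ 2) b (pow_ne_zero 2 hi0) * g⁻¹)) ⊆
        I.filter (fun s => s α = α) := by
      intro s hs
      obtain ⟨b, -, rfl⟩ := Finset.mem_image.1 hs
      have h3 := hinvol b
      rw [hI, Finset.mem_filter] at h3
      rw [Finset.mem_filter, hI, Finset.mem_filter]
      refine ⟨⟨Finset.mem_univ _, A.mul_mem (A.mul_mem hg h3.2.1) (A.inv_mem hg), ?_, ?_⟩, ?_⟩
      · have : g * aff (i ^ 2) b (pow_ne_zero 2 hi0) * g⁻¹ *
          (g * aff (i ^ 2) b (pow_ne_zero 2 hi0) * g⁻¹) =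
          g * (aff (i ^ 2) b (pow_ne_zero 2 hi0) * aff (i ^ 2) b (pow_ne_zero 2 hi0)) * g⁻¹ := by
          group
        rw [this, h3.2.2.1]; group
      · intro h
        apply h3.2.2.2
        have : aff (i ^ 2) b (pow_ne_zero 2 hi0) =
          g⁻¹ * (g * aff (i ^ 2) b (pow_ne_zero 2 hi0) * g⁻¹) * g := by group
        rw [this, h]; group
      · have : g⁻¹ α = ∞ := by rw [Equiv.Perm.inv_eq_iff_eq, hg']
        rw [Equiv.Perm.mul_apply, Equiv.Perm.mul_apply, this, aff_infty, hg']
    refine le_trans ?_ (Finset.card_le_card this)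
    rw [Finset.card_image_of_injective, Finset.card_univ]
    intro b b' h
    have h3 := mul_left_cancel (mul_right_cancel h)
    have h4 : aff (i ^ 2) b (pow_ne_zero 2 hi0) ((0 : F) : OnePoint F) =
      aff (i ^ 2) b' (pow_ne_zero 2 hi0) ((0 : F) : OnePoint F) := by rw [h3]
    rw [aff_coe, aff_coe, coe_eq_coe] at h4
    simpa using h4
  have hb' : (I.filter (fun s => s ∞ = ∞)).card ≤ Fintype.card F := by
    have : I.filter (fun s => s ∞ = ∞) ⊆
        Finset.univ.image (fun b : F => aff (-1) b (neg_ne_zero.2 one_ne_zero)) := by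
      intro s hs
      rw [Finset.mem_filter, hI, Finset.mem_filter] at hs
      obtain ⟨⟨-, h3, h4, h5⟩, h6⟩ := hs
      obtain ⟨-, b, h7⟩ := invol_form A hN h2 s h3 h6 h4 h5
      rw [Finset.mem_image]
      refine ⟨b, Finset.mem_univ _, ?_⟩
      ext x
      cases x with
      | infty => rw [h6]; rfl
      | coe x => rw [h7, aff_coe, neg_one_mul]
    exact (Finset.card_le_card this).trans (Finset.card_image_le.trans (by rw [Finset.card_univ]))
  have hcardI : (Fintype.card F + 1) * Fintype.card F ≤ I.card * 2 := by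
    have := Finset.card_mul_le_card_mul (s := (Finset.univ : Finset (OnePoint F))) (t := I)
      (fun α s => s α = α) (fun α _ => hb α) (n := 2) (fun s hs => by
        rw [hI, Finset.mem_filter] at hs
        exact card_fixed_le A hN h2 hne s hs.2.1 hs.2.2.1 hs.2.2.2)
    rw [Finset.card_univ] at this
    have hc : Fintype.card (OnePoint F) = Fintype.card F + 1 := Fintype.card_option
    rwa [hc] at this
  set W : Finset (Equiv.Perm (OnePoint F)) :=
    Finset.univ.filter (fun s => s ∈ A ∧ s ∞ ≠ ∞ ∧ s (s ∞) = ∞) with hW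
  have hWcard : 2 * W.card ≤ Fintype.card F * (Fintype.card F - 1) := by
    have h3 : W ⊆ (Finset.univ : Finset F).biUnion (fun c =>
        Finset.univ.filter (fun s : Equiv.Perm (OnePoint F) =>
          s ∈ A ∧ s ∞ = c ∧ s (c : OnePoint F) = ∞)) := by
      intro s hs
      rw [hW, Finset.mem_filter] at hs
      obtain ⟨c, hc⟩ := ne_infty_iff_exists.1 hs.2.2.1
      rw [Finset.mem_biUnion]
      refine ⟨c, Finset.mem_univ _, ?_⟩
      rw [Finset.mem_filter]
      refine ⟨Finset.mem_univ _, hs.2.1, hc.symm, ?_⟩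
      rw [hc]; exact hs.2.2.2
    have h4 := (Finset.card_le_card h3).trans Finset.card_biUnion_le
    have h5 := Nat.mul_le_mul_left 2 h4
    rw [Finset.mul_sum] at h5
    refine h5.trans ?_
    refine (Finset.sum_le_sum (fun c _ => card_swap_le A hN h2 c)).trans ?_
    rw [Finset.sum_const, Finset.card_univ, smul_eq_mul]
  have hsub : I.filter (fun s => ¬ s ∞ = ∞) ⊆ W := by
    intro s hs
    rw [Finset.mem_filter, hI, Finset.mem_filter] at hs
    rw [hW, Finset.mem_filter]
    refine ⟨Finset.mem_univ _, hs.1.2.1, hs.2, ?_⟩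
    rw [← Equiv.Perm.mul_apply, hs.1.2.2.1, Equiv.Perm.one_apply]
  have hle : W.card ≤ (I.filter (fun s => ¬ s ∞ = ∞)).card := by
    have h3 := Finset.card_filter_add_card_filter_not (s := I) (fun s => s ∞ = ∞)
    have h5 : 1 ≤ Fintype.card F := Fintype.card_pos
    obtain ⟨m, hm⟩ := Nat.exists_eq_add_of_le h5
    rw [hm] at hcardI hWcard hb'
    have h6 : 1 + m - 1 = m := by omega
    rw [h6] at hWcard
    nlinarith
  have hEq := Finset.eq_of_subset_of_card_le hsub hle
  have htW : t ∈ W := by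
    rw [hW, Finset.mem_filter]
    exact ⟨Finset.mem_univ _, ht, by rw [hinf]; exact coe_ne_infty _, by rw [hinf, h0]⟩
  rw [← hEq, Finset.mem_filter, hI, Finset.mem_filter] at htW
  exact htW.1.2.2.1

/-- A simple group of this kind consists of even permutations. -/
theorem sign_eq_one [Fintype F] [DecidableEq (OnePoint F)] [IsSimpleGroup A] (h2 : (2 : F) ≠ 0)
    (s : Equiv.Perm (OnePoint F)) (hs : s ∈ A) : Equiv.Perm.sign s = 1 := by
  let f : A →* ℤˣ := Equiv.Perm.sign.comp A.subtype
  rcases f.normal_ker.eq_bot_or_eq_top with h | h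
  · exfalso
    have hinj : Function.Injective f := (MonoidHom.ker_eq_bot_iff _).1 h
    obtain ⟨u, hu, hu1, hu2⟩ := transl_mem A hN 1
    have h3 : (⟨u, hu⟩ : A) * ⟨u, hu⟩ = 1 := by
      apply hinj
      rw [map_mul, map_one]
      exact Int.units_mul_self _
    have h4 : u * u = 1 := congrArg Subtype.val h3
    have h5 : (u * u) ((0 : F) : OnePoint F) = ((0 : F) : OnePoint F) := by rw [h4]; rfl
    rw [Equiv.Perm.mul_apply, hu2, hu2, coe_eq_coe] at h5
    apply h2
    linear_combination h5
  · have h3 : (⟨s, hs⟩ : A) ∈ f.ker := by rw [h]; trivial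
    exact h3

/-- If `-1` is a square, involutions of our simple group have fixed points. -/
theorem exists_fixed_of_invol [Fintype F] [IsSimpleGroup A] (h2 : (2 : F) ≠ 0)
    (hsq : IsSquare (-1 : F)) (s : Equiv.Perm (OnePoint F)) (hs : s ∈ A) (hss : s * s = 1) :
    ∃ α, s α = α := by
  classical
  by_contra hcon
  push Not at hcon
  have hchar : ringChar F ≠ 2 := by
    intro h
    apply h2
    have := ringChar.Nat.cast_ringChar (R := F)
    rw [h] at this
    exact_mod_cast this
  have h3 := sign_eq_one A hN h2 s hs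
  rw [Equiv.Perm.sign_of_pow_two_eq_one (by rw [pow_two, hss])] at h3
  have h4 : Fintype.card (Function.fixedPoints s) = 0 := by
    rw [Fintype.card_eq_zero_iff]
    exact ⟨fun x => hcon x.1 x.2⟩
  have hc : Fintype.card (OnePoint F) = Fintype.card F + 1 := Fintype.card_option
  rw [h4, hc] at h3
  have h5 := FiniteField.odd_card_of_char_ne_two hchar
  have h6 := FiniteField.isSquare_neg_one_iff.1 hsq
  have h7 : Odd ((Fintype.card F + 1 - 0) / 2) := by
    rw [Nat.odd_iff]
    omega
  rw [h7.neg_one_pow] at h3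
  exact absurd h3 (by decide)

/-- The torus: elements of `A` fixing `0` and `∞`. -/
def torus : Subgroup A := MulAction.stabilizer A ((∞ : OnePoint F), (((0 : F) : OnePoint F)))

omit hN in
theorem mem_torus (g : A) : g ∈ torus A ↔ g.1 ∞ = ∞ ∧ g.1 (0 : F) = (0 : F) := by
  rw [torus, MulAction.mem_stabilizer_iff, Prod.ext_iff]
  rfl

theorem index_torus [Fintype F] (hne : ∃ g ∈ A, g ∞ ≠ ∞) :
    (torus A).index = (Fintype.card F + 1) * Fintype.card F := by
  classical
  rw [torus, MulAction.index_stabilizer]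
  have : MulAction.orbit A ((∞ : OnePoint F), (((0 : F) : OnePoint F))) =
      ((Finset.univ : Finset (OnePoint F)).offDiag : Set (OnePoint F × OnePoint F)) := by
    ext ⟨α, β⟩
    rw [Finset.mem_coe, Finset.mem_offDiag]
    constructor
    · rintro ⟨g, hg⟩
      refine ⟨Finset.mem_univ _, Finset.mem_univ _, ?_⟩
      intro h
      have h3 : g.1 ∞ = α := congrArg Prod.fst hg
      have h4 : g.1 ((0 : F) : OnePoint F) = β := congrArg Prod.snd hg
      have h5 : α = β := h
      rw [← h5, ← h3] at h4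
      exact coe_ne_infty _ (g.1.injective h4)
    · rintro ⟨-, -, h⟩
      obtain ⟨g, hg, h3, h4⟩ := exists_map_pair A hN hne α β h
      exact ⟨⟨g, hg⟩, Prod.ext h3 h4⟩
  rw [this, Set.ncard_coe_finset, Finset.offDiag_card, Finset.card_univ]
  have hc : Fintype.card (OnePoint F) = Fintype.card F + 1 := Fintype.card_option
  rw [hc]
  rw [Nat.mul_add, Nat.mul_one]
  omega

theorem torus_comm (a b : A) (ha : a ∈ torus A) (hb : b ∈ torus A) : a * b = b * a := by
  rw [mem_torus] at ha hb
  obtain ⟨x, -, hx⟩ := torus_form A hN a.1 a.2 ha.1 ha.2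
  obtain ⟨y, -, hy⟩ := torus_form A hN b.1 b.2 hb.1 hb.2
  ext α
  cases α with
  | infty =>
    change a.1 (b.1 ∞) = b.1 (a.1 ∞)
    rw [ha.1, hb.1, ha.1]
  | coe z =>
    change a.1 (b.1 z) = b.1 (a.1 z)
    rw [hx, hy, hx, hy]
    congr 1
    ring

theorem torus_pow_card [Fintype F] (hodd : Fintype.card F % 2 = 1) (a : A) (ha : a ∈ torus A) :
    a ^ ((Fintype.card F - 1) / 2) = 1 := by
  rw [mem_torus] at ha
  obtain ⟨x, hx0, hx⟩ := torus_form A hN a.1 a.2 ha.1 ha.2
  have hp : ∀ n : ℕ, (a ^ n).1 ∞ = ∞ ∧ ∀ z : F, (a ^ n).1 z = (((x ^ 2) ^ n * z : F) : OnePoint F) := by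
    intro n
    induction n with
    | zero => exact ⟨rfl, fun z => by simp⟩
    | succ n ih =>
      refine ⟨?_, fun z => ?_⟩
      · rw [pow_succ]
        change (a ^ n).1 (a.1 ∞) = ∞
        rw [ha.1, ih.1]
      · rw [pow_succ]
        change (a ^ n).1 (a.1 z) = _
        rw [hx, ih.2]
        congr 1
        ring
  ext α
  cases α with
  | infty => rw [(hp _).1]; rfl
  | coe z =>
    rw [(hp _).2, ← pow_mul]
    have : 2 * ((Fintype.card F - 1) / 2) = Fintype.card F - 1 := by omega
    rw [this, FiniteField.pow_card_sub_one_eq_one x hx0, one_mul]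
    rfl

theorem torus_eq_one_of_fix (a : A) (ha : a ∈ torus A) (x : F) (hx : x ≠ 0)
    (h : a.1 (x : OnePoint F) = x) : a = 1 := by
  rw [mem_torus] at ha
  obtain ⟨c, -, hc⟩ := torus_form A hN a.1 a.2 ha.1 ha.2
  rw [hc, coe_eq_coe] at h
  have hc1 : c ^ 2 = 1 := mul_right_cancel₀ hx (by rw [one_mul]; exact h)
  ext α
  cases α with
  | infty => rw [ha.1]; rfl
  | coe z => rw [hc, hc1, one_mul]; rfl

/-- If `-1` is not a square, there is an involution swapping `0` and `∞`. -/
theorem exists_invol [Fintype F] (h2 : (2 : F) ≠ 0) (hsq : ¬ IsSquare (-1 : F))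
    (hne : ∃ g ∈ A, g ∞ ≠ ∞) :
    ∃ t ∈ A, t (0 : F) = ∞ ∧ t ∞ = (0 : F) ∧ t * t = 1 := by
  obtain ⟨t, ht, h0, h1⟩ := exists_swap A hN hne
  have hfix : ∀ k : ℕ, ((t * t) ^ k) ∞ = ∞ := by
    intro k
    induction k with
    | zero => rfl
    | succ k ih =>
      rw [pow_succ, Equiv.Perm.mul_apply, Equiv.Perm.mul_apply, h1, h0, ih]
  have hfix0 : ∀ k : ℕ, ((t * t) ^ k) ((0 : F) : OnePoint F) = ((0 : F) : OnePoint F) := by
    intro k
    induction k with
    | zero => rfl
    | succ k ih =>
      rw [pow_succ, Equiv.Perm.mul_apply, Equiv.Perm.mul_apply, h0, h1, ih]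
  have hodd : Odd (orderOf (t * t)) := by
    rw [← Nat.not_even_iff_odd]
    rintro ⟨m, hm⟩
    have hpos : 0 < orderOf (t * t) := orderOf_pos _
    apply hsq
    refine (invol_form A hN h2 ((t * t) ^ m) (A.pow_mem (A.mul_mem ht ht) m) (hfix m) ?_ ?_).1
    · rw [← pow_add, ← hm, pow_orderOf_eq_one]
    · intro h
      have := orderOf_dvd_of_pow_eq_one h
      have := Nat.le_of_dvd (by omega) this
      omega
  obtain ⟨k, hk⟩ := hodd
  refine ⟨(t * t) ^ k * t, A.mul_mem (A.pow_mem (A.mul_mem ht ht) k) ht, ?_, ?_, ?_⟩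
  · rw [Equiv.Perm.mul_apply, h0, hfix]
  · rw [Equiv.Perm.mul_apply, h1, hfix0]
  · have hc : Commute ((t * t) ^ k) t := ((Commute.refl t).mul_left (Commute.refl t)).pow_left k
    have : (t * t) ^ k * t * ((t * t) ^ k * t) = (t * t) ^ (2 * k + 1) := by
      rw [mul_assoc, ← mul_assoc t, ← hc.eq, mul_assoc _ t t, ← mul_assoc, ← pow_add, ← pow_succ]
      congr 1
      ring
    rw [this, ← hk, pow_orderOf_eq_one]

/-- If `-1` is not a square, an involution swapping `0` and `∞` inverts the torus. -/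
theorem inverts [Fintype F] [IsSimpleGroup A] (h2 : (2 : F) ≠ 0) (hsq : ¬ IsSquare (-1 : F))
    (hne : ∃ g ∈ A, g ∞ ≠ ∞) (t : A) (h0 : t.1 (0 : F) = ∞) (h1 : t.1 ∞ = (0 : F))
    (htt : t * t = 1) (d : A) (hd : d ∈ torus A) : d * (t * d * t) = 1 := by
  have hchar : ringChar F ≠ 2 := by
    intro h
    apply h2
    have := ringChar.Nat.cast_ringChar (R := F)
    rw [h] at this
    exact_mod_cast this
  have hodd := FiniteField.odd_card_of_char_ne_two hchar
  have h43 : Fintype.card F % 4 = 3 := by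
    by_contra h
    exact hsq (FiniteField.isSquare_neg_one_iff.2 h)
  have htd : t * d * t ∈ torus A := by
    rw [mem_torus] at hd ⊢
    constructor
    · change t.1 (d.1 (t.1 ∞)) = ∞
      rw [h1, hd.2, h0]
    · change t.1 (d.1 (t.1 (0 : F))) = (0 : F)
      rw [h0, hd.1, h1]
  have hε : d * (t * d * t) ∈ torus A := mul_mem hd htd
  have hcomm : Commute t (d * (t * d * t)) := by
    change t * (d * (t * d * t)) = d * (t * d * t) * t
    have e1 : t * (d * (t * d * t)) = (t * d * t) * d * t := by group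
    rw [e1, torus_comm A hN _ _ htd hd]
  have htinv : t⁻¹ = t := inv_eq_of_mul_eq_one_left htt
  refine eq_one_of_transfer (torus A) ?_ (fun a ha b hb => torus_comm A hN a b ha hb) _ ?_ ?_
  · intro h
    have : t ∈ torus A := by rw [h]; trivial
    rw [mem_torus, h1] at this
    exact coe_ne_infty _ this.1
  · have h3 := orderOf_dvd_of_pow_eq_one (torus_pow_card A hN hodd _ hε)
    refine Nat.Coprime.coprime_dvd_left h3 ?_
    rw [index_torus A hN hne]
    obtain ⟨m, hm⟩ : ∃ m, Fintype.card F = 4 * m + 3 := ⟨Fintype.card F / 4, by omega⟩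
    have h4 : (Fintype.card F - 1) / 2 = 2 * m + 1 := by omega
    rw [h4, hm]
    refine Nat.Coprime.mul_right ?_ ?_
    · have : 4 * m + 3 + 1 = 2 + 2 * (2 * m + 1) := by ring
      rw [this, Nat.coprime_add_mul_right_right]
      exact Nat.coprime_two_right.2 ⟨m, rfl⟩
    · have : 4 * m + 3 = 1 + 2 * (2 * m + 1) := by ring
      rw [this, Nat.coprime_add_mul_right_right]
      exact Nat.coprime_one_right _
  · intro k g hg
    set η := (d * (t * d * t)) ^ k with hη
    have hηT : η ∈ torus A := pow_mem hε k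
    have hηc : Commute t η := hcomm.pow_right k
    by_cases hη1 : η = 1
    · rw [hη1]; group
    have hfix : ∀ α : OnePoint F, η.1 α = α → α = ∞ ∨ α = (0 : F) := by
      intro α hα
      cases α with
      | infty => exact Or.inl rfl
      | coe x =>
        right
        by_contra hx
        exact hη1 (torus_eq_one_of_fix A hN η hηT x (fun h => hx (by rw [h])) hα)
    rw [mem_torus] at hg
    have k1 : η.1 (g.1 ∞) = g.1 ∞ := by
      have : g * (g⁻¹ * η * g) = η * g := by group
      have h5 : (g * (g⁻¹ * η * g)).1 ∞ = (η * g).1 ∞ := by rw [this]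
      change g.1 ((g⁻¹ * η * g).1 ∞) = η.1 (g.1 ∞) at h5
      rw [hg.1] at h5
      exact h5.symm
    have k0 : η.1 (g.1 ((0 : F) : OnePoint F)) = g.1 ((0 : F) : OnePoint F) := by
      have : g * (g⁻¹ * η * g) = η * g := by group
      have h5 : (g * (g⁻¹ * η * g)).1 ((0 : F) : OnePoint F) = (η * g).1 ((0 : F) : OnePoint F) := by
        rw [this]
      change g.1 ((g⁻¹ * η * g).1 ((0 : F) : OnePoint F)) = η.1 (g.1 ((0 : F) : OnePoint F)) at h5
      rw [hg.2] at h5
      exact h5.symm
    have hne' : g.1 ∞ ≠ g.1 ((0 : F) : OnePoint F) := fun h => infty_ne_coe _ (g.1.injective h)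
    rcases hfix _ k1 with h6 | h6
    · have h7 : g.1 ((0 : F) : OnePoint F) = (0 : F) := by
        rcases hfix _ k0 with h7 | h7
        · exact absurd (h6.trans h7.symm) hne'
        · exact h7
      have h8 : g ∈ torus A := (mem_torus A g).2 ⟨h6, h7⟩
      rw [mul_assoc, torus_comm A hN η g hηT h8, inv_mul_cancel_left]
    · have h7 : g.1 ((0 : F) : OnePoint F) = ∞ := by
        rcases hfix _ k0 with h7 | h7
        · exact h7
        · exact absurd (h6.trans h7.symm) hne'
      have h8 : t * g ∈ torus A := by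
        rw [mem_torus]
        constructor
        · change t.1 (g.1 ∞) = ∞
          rw [h6, h0]
        · change t.1 (g.1 ((0 : F) : OnePoint F)) = _
          rw [h7, h1]
      have e2 : g⁻¹ * η * g = (t * g)⁻¹ * (t * η * t⁻¹) * (t * g) := by group
      rw [e2, hηc.eq, mul_inv_cancel_right, mul_assoc, torus_comm A hN η _ hηT h8,
        inv_mul_cancel_left]

end

/-- **Inversion.** In a simple group `A` of permutations of the projective line over a finite field
of odd order whose stabiliser of `∞` consists of all maps `x ↦ a² x + b`, there is an involution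
`t` swapping `0` and `∞` and inverting the multiplications by squares. -/
theorem exists_inverting_swap {F : Type*} [Field F] [Fintype F] [DecidableEq F] (h2 : (2 : F) ≠ 0)
    (A : Subgroup (Equiv.Perm (OnePoint F))) [IsSimpleGroup A]
    (hN : ∀ g : Equiv.Perm (OnePoint F), g ∞ = ∞ →
      (g ∈ A ↔ ∃ a b : F, a ≠ 0 ∧ ∀ x : F, g x = ((a ^ 2 * x + b : F) : OnePoint F)))
    (hne : ∃ g ∈ A, g ∞ ≠ ∞) :
    ∃ t ∈ A, t (0 : F) = ∞ ∧ t ∞ = (0 : F) ∧ t * t = 1 ∧
      (∀ a x y : F, a ≠ 0 → x ≠ 0 → t x = (y : OnePoint F) →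
        t ((a ^ 2 * x : F) : OnePoint F) = (((a⁻¹) ^ 2 * y : F) : OnePoint F)) ∧
      (IsSquare (-1 : F) → ∀ s ∈ A, s (0 : F) = ∞ → s ∞ = (0 : F) → ∃ x : F, s x = x) ∧
      (¬ IsSquare (-1 : F) → ∀ x : F, t x ≠ x) := by
  have hform : ∀ (t : Equiv.Perm (OnePoint F)), t * t = 1 →
      (∀ (a : F) (ha : a ≠ 0), aff (a ^ 2) 0 (pow_ne_zero 2 ha) *
        (t * aff (a ^ 2) 0 (pow_ne_zero 2 ha) * t) = 1) →
      (∀ a x y : F, a ≠ 0 → x ≠ 0 → t x = (y : OnePoint F) →
        t ((a ^ 2 * x : F) : OnePoint F) = (((a⁻¹) ^ 2 * y : F) : OnePoint F)) := by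
    intro t htt h a x y ha hx hxy
    have e1 : t * aff (a ^ 2) 0 (pow_ne_zero 2 ha) =
        (aff (a ^ 2) 0 (pow_ne_zero 2 ha))⁻¹ * t := by
      have h3 := h a ha
      have h4 : aff (a ^ 2) 0 (pow_ne_zero 2 ha) * (t * aff (a ^ 2) 0 (pow_ne_zero 2 ha)) * t = 1 := by
        rw [← h3]; group
      have h5 : t⁻¹ = t := inv_eq_of_mul_eq_one_left htt
      have h6 := eq_inv_of_mul_eq_one_left h4
      rw [h5] at h6
      rw [eq_inv_mul_iff_mul_eq, h6]
    have e2 : (t * aff (a ^ 2) 0 (pow_ne_zero 2 ha)) (x : OnePoint F) =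
        ((aff (a ^ 2) 0 (pow_ne_zero 2 ha))⁻¹ * t) (x : OnePoint F) := by rw [e1]
    rw [Equiv.Perm.mul_apply, Equiv.Perm.mul_apply, aff_coe, add_zero, hxy] at e2
    rw [e2, Equiv.Perm.inv_eq_iff_eq, aff_coe, coe_eq_coe]
    field_simp
    ring
  by_cases hsq : IsSquare (-1 : F)
  · obtain ⟨t, ht, h0, h1⟩ := exists_swap A hN hne
    have htt := mul_self_of_swap A hN h2 hsq hne t ht h0 h1
    refine ⟨t, ht, h0, h1, htt, hform t htt ?_, ?_, fun h => absurd hsq h⟩
    · intro a ha
      have h3 := mul_self_of_swap A hN h2 hsq hne (aff (a ^ 2) 0 (pow_ne_zero 2 ha) * t)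
        (A.mul_mem (aff_mem A hN a 0 ha) ht)
        (by rw [Equiv.Perm.mul_apply, h0, aff_infty])
        (by rw [Equiv.Perm.mul_apply, h1, aff_coe]; simp)
      rw [← h3]; group
    · intro _ s hs hs0 hs1
      obtain ⟨α, hα⟩ := exists_fixed_of_invol A hN h2 hsq s hs
        (mul_self_of_swap A hN h2 hsq hne s hs hs0 hs1)
      cases α with
      | infty => rw [hs1] at hα; exact absurd hα (coe_ne_infty _)
      | coe x => exact ⟨x, hα⟩
  · obtain ⟨t, ht, h0, h1, htt⟩ := exists_invol A hN h2 hsq hne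
    refine ⟨t, ht, h0, h1, htt, hform t htt ?_, fun h => absurd h hsq, ?_⟩
    · intro a ha
      have h3 := inverts A hN h2 hsq hne ⟨t, ht⟩ h0 h1 (Subtype.ext htt)
        ⟨_, aff_mem A hN a 0 ha⟩ ((mem_torus A _).2 ⟨rfl, by
          change aff (a ^ 2) 0 (pow_ne_zero 2 ha) ((0 : F) : OnePoint F) = _
          rw [aff_coe]; simp⟩)
      exact congrArg Subtype.val h3
    · intro _ x hx
      obtain ⟨g, hg, hg'⟩ := exists_map_infty A hN hne (x : OnePoint F)
      apply hsq
      refine (invol_form A hN h2 (g⁻¹ * t * g) (A.mul_mem (A.mul_mem (A.inv_mem hg) ht) hg)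
        ?_ ?_ ?_).1
      · rw [Equiv.Perm.mul_apply, Equiv.Perm.mul_apply, hg', hx, Equiv.Perm.inv_eq_iff_eq, hg']
      · have : g⁻¹ * t * g * (g⁻¹ * t * g) = g⁻¹ * (t * t) * g := by group
        rw [this, htt]; group
      · intro h
        have h3 : t = g * (g⁻¹ * t * g) * g⁻¹ := by group
        rw [h, mul_one, mul_inv_cancel] at h3
        rw [h3] at h0
        exact coe_ne_infty _ h0

end Cfsg.Agent.SmallSimple.PSL2Invert
end

-- part: SmallSimple/PSL2Recog
section
set_option autoImplicit false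

/-!
# Recognition of PSL(2,p)

A simple group of order `p (p^2 - 1) / 2` with `p + 1` Sylow `p`-subgroups is `PSL(2,p)`.
-/

namespace Cfsg.Agent.SmallSimple.PSL2Recog

open Matrix OnePoint

/-- A simple group of order `p (p^2 - 1) / 2` acting transitively and faithfully on `p + 1` points
is isomorphic to `PSL(2,p)`. -/
theorem psl2_of_pretransitive {p : ℕ} [Fact p.Prime] (hp : p ≠ 2) {G X : Type*} [Group G] [Finite G]
    [IsSimpleGroup G] [MulAction G X] [FaithfulSMul G X] [MulAction.IsPretransitive G X]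
    (hX : Nat.card X = p + 1) (hG : Nat.card G * 2 = (p + 1) * p * (p - 1))
    {F : Type*} [Field F] [Fintype F] (hF : Fintype.card F = p) :
    Nonempty (G ≃* Matrix.ProjectiveSpecialLinearGroup (Fin 2) F) := by
  classical
  have hpp : p.Prime := Fact.out
  obtain ⟨Φ, hinj, hN, g, hg⟩ := PSL2Coord.exists_coord hp hX hG hF
  have h2 : (2 : F) ≠ 0 := by
    intro h
    have h1 : ((2 : ℕ) : F) = 0 := by exact_mod_cast h
    have hchar : CharP F p := by
      have := CharP.charP_iff_prime_eq_zero (R := F) hpp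
      rw [this, ← hF]
      exact Nat.cast_card_eq_zero F
    rw [CharP.cast_eq_zero_iff F p] at h1
    have := Nat.le_of_dvd (by norm_num) h1
    have := hpp.two_le
    omega
  let e : G ≃* Φ.range := MonoidHom.ofInjective hinj
  have hs : IsSimpleGroup Φ.range := e.symm.isSimpleGroup
  obtain ⟨t, htA, ht0, htinf, htt, hinv, hfix1, hfix2⟩ :=
    PSL2Invert.exists_inverting_swap h2 Φ.range hN ⟨Φ g, ⟨g, rfl⟩, hg⟩
  have hrange := PSL2Moebius.range_eq_of_inverting_swap h2 Φ.range hN htA ht0 htinf htt hinv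
    hfix1 hfix2
  exact ⟨(e.trans (MulEquiv.subgroupCongr hrange)).trans (PSL2Moebius.pslEquivRange (F := F)).symm⟩

/-- A simple group of order `p (p^2 - 1) / 2` with `p + 1` Sylow `p`-subgroups is isomorphic to
`PSL(2,p)`. -/
theorem psl2_of_simple_card {p : ℕ} [Fact p.Prime] (hp : p ≠ 2) {G : Type*} [Group G] [Finite G]
    [IsSimpleGroup G] (hcard : Nat.card G * 2 = (p + 1) * p * (p - 1))
    (hsyl : Nat.card (Sylow p G) = p + 1) {F : Type*} [Field F] [Fintype F]
    (hF : Fintype.card F = p) :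
    Nonempty (G ≃* Matrix.ProjectiveSpecialLinearGroup (Fin 2) F) := by
  have hpp : p.Prime := Fact.out
  have hf : FaithfulSMul G (Sylow p G) := by
    have hk := (inferInstance :
      (MulAction.toPermHom G (Sylow p G)).ker.Normal).eq_bot_or_eq_top
    rcases hk with hk | hk
    · constructor
      intro g h hgh
      have : Function.Injective (MulAction.toPermHom G (Sylow p G)) :=
        (MonoidHom.ker_eq_bot_iff _).1 hk
      apply this
      ext x
      rw [MulAction.toPermHom_apply, MulAction.toPermHom_apply, MulAction.toPerm_apply,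
        MulAction.toPerm_apply, hgh]
    · exfalso
      have hss : Subsingleton (Sylow p G) := by
        constructor
        intro P Q
        obtain ⟨g, hg⟩ := MulAction.exists_smul_eq G P Q
        have hgk : g ∈ (MulAction.toPermHom G (Sylow p G)).ker := by rw [hk]; trivial
        rw [MonoidHom.mem_ker] at hgk
        have := DFunLike.congr_fun hgk P
        rw [MulAction.toPermHom_apply, MulAction.toPerm_apply, hg] at this
        exact this.symm
      have : Nat.card (Sylow p G) ≤ 1 := Finite.card_le_one_iff_subsingleton.2 hss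
      have := hpp.two_le
      omega
  exact psl2_of_pretransitive hp (X := Sylow p G) hsyl hcard hF

end Cfsg.Agent.SmallSimple.PSL2Recog
end
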