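import Cfsg.Agent.SmallSimple.Parity
import Cfsg.Agent.SmallSimple.SylowPrimeInvol
set_option linter.all false

/-!
General counting of fixed points in transitive actions and in actions on cosets and on Sylow
subgroups.
-/

set_option autoImplicit false

namespace Cfsg.Agent.SmallSimple.FixCount

open Subgroup MulAction

variable {G : Type*} [Group G]

/-- `gH` is fixed by `u` iff `g⁻¹ u g ∈ H`. -/
theorem mk_mem_fixedBy_iff (H : Subgroup G) (u g : G) :
    (QuotientGroup.mk g : G ⧸ H) ∈ fixedBy (G ⧸ H) u ↔ g⁻¹ * u * g ∈ H := by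
  rw [mem_fixedBy, eq_comm, MulAction.Quotient.smul_mk, QuotientGroup.eq, smul_eq_mul, mul_assoc]

/-- Double counting: `|Fix g| * |Stab x₀| = |g^G ∩ Stab x₀| * |C(g)|` in a transitive action. -/
theorem card_fixedBy_mul_card_stabilizer [Finite G] {X : Type*} [MulAction G X]
    [IsPretransitive G X] (x0 : X) (g : G) :
    Nat.card (fixedBy X g) * Nat.card (stabilizer G x0) =
      Nat.card {h : G // IsConj g h ∧ h • x0 = x0} * Nat.card (centralizer {g}) := by
  classical
  have hX : Finite X := Finite.of_surjective (fun a : G => a • x0) (MulAction.surjective_smul G x0)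
  -- the set of all `a` with `g • (a • x₀) = a • x₀`
  let A := {a : G // g • (a • x0) = a • x0}
  have e1 : A ≃ Σ x : fixedBy X g, {a : G // a • x0 = (x : X)} :=
    { toFun := fun a => ⟨⟨a.1 • x0, a.2⟩, ⟨a.1, rfl⟩⟩
      invFun := fun p => ⟨p.2.1, by
        have h1 : p.2.1 • x0 = (p.1 : X) := p.2.2
        rw [h1]; exact p.1.2⟩
      left_inv := fun a => rfl
      right_inv := by
        rintro ⟨⟨x, hx⟩, ⟨a, ha⟩⟩
        obtain rfl : a • x0 = x := ha
        rfl }
  have e2 : A ≃ Σ h : {h : G // IsConj g h ∧ h • x0 = x0}, {a : G // a⁻¹ * g * a = (h : G)} :=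
    { toFun := fun a => ⟨⟨a.1⁻¹ * g * a.1, isConj_iff.2 ⟨a.1⁻¹, by group⟩, by
          rw [mul_smul, mul_smul, a.2, inv_smul_smul]⟩, ⟨a.1, rfl⟩⟩
      invFun := fun p => ⟨p.2.1, by
        have h1 : p.2.1⁻¹ * g * p.2.1 = (p.1 : G) := p.2.2
        have h2 : (p.1 : G) • x0 = x0 := p.1.2.2
        rw [← h1, mul_smul, mul_smul, inv_smul_eq_iff] at h2
        exact h2⟩
      left_inv := fun a => rfl
      right_inv := by
        rintro ⟨⟨h, hh⟩, ⟨a, ha⟩⟩
        obtain rfl : a⁻¹ * g * a = h := ha
        rfl }
  have h1 : ∀ x : fixedBy X g, Nat.card {a : G // a • x0 = (x : X)} =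
      Nat.card (stabilizer G x0) := by
    rintro ⟨x, hx⟩
    obtain ⟨b, hb⟩ := MulAction.exists_smul_eq G x0 x
    refine Nat.card_congr
      { toFun := fun a => ⟨b⁻¹ * a.1, by
          have := a.2
          rw [mem_stabilizer_iff, mul_smul, a.2, inv_smul_eq_iff, hb]⟩
        invFun := fun s => ⟨b * s.1, by
          have := s.2
          rw [mem_stabilizer_iff] at this
          rw [mul_smul, this, hb]⟩
        left_inv := fun a => by simp
        right_inv := fun s => by simp }
  have h2 : ∀ h : {h : G // IsConj g h ∧ h • x0 = x0},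
      Nat.card {a : G // a⁻¹ * g * a = (h : G)} = Nat.card (centralizer {g}) := by
    rintro ⟨h, hh, hh'⟩
    obtain ⟨b, hb⟩ := isConj_iff.1 hh
    refine Nat.card_congr
      { toFun := fun a => ⟨a.1 * b, by
          have ha := a.2
          rw [mem_centralizer_singleton_iff]
          have h3 : g * a.1 = a.1 * (b * g * b⁻¹) := by
            rw [hb]
            have ha' : a.1⁻¹ * g * a.1 = h := ha
            calc g * a.1 = a.1 * (a.1⁻¹ * g * a.1) := by group
              _ = a.1 * h := by rw [ha']
          calc a.1 * b * g = a.1 * (b * g * b⁻¹) * b := by group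
            _ = g * (a.1 * b) := by rw [← h3]; group⟩
        invFun := fun s => ⟨s.1 * b⁻¹, by
          have hs := s.2
          rw [mem_centralizer_singleton_iff] at hs
          show (s.1 * b⁻¹)⁻¹ * g * (s.1 * b⁻¹) = h
          rw [← hb]
          calc (s.1 * b⁻¹)⁻¹ * g * (s.1 * b⁻¹) = b * s.1⁻¹ * (g * s.1) * b⁻¹ := by group
            _ = b * s.1⁻¹ * (s.1 * g) * b⁻¹ := by rw [hs]
            _ = b * g * b⁻¹ := by group⟩
        left_inv := fun a => by simp
        right_inv := fun s => by simp }
  have : Fintype (fixedBy X g) := Fintype.ofFinite _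
  have : Fintype {h : G // IsConj g h ∧ h • x0 = x0} := Fintype.ofFinite _
  have h3 := Nat.card_congr e1
  have h4 := Nat.card_congr e2
  rw [Nat.card_sigma] at h3 h4
  simp only [h1, h2, Finset.sum_const, Finset.card_univ, smul_eq_mul] at h3 h4
  rw [Nat.card_eq_fintype_card (α := fixedBy X g),
    Nat.card_eq_fintype_card (α := {h : G // IsConj g h ∧ h • x0 = x0}), ← h3, ← h4]

/-- A nontrivial element of a simple group acting transitively on more than one point moves a
point. -/
theorem card_fixedBy_lt [Finite G] [IsSimpleGroup G] {X : Type*} [MulAction G X]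
    [IsPretransitive G X] (hX : 1 < Nat.card X) {u : G} (hu : u ≠ 1) :
    Nat.card (fixedBy X u) < Nat.card X := by
  have hfX : Finite X := Nat.finite_of_card_ne_zero (by omega)
  refine lt_of_le_of_ne (Finite.card_subtype_le _) ?_
  intro heq
  have h1 : (fixedBy X u) = Set.univ := by
    apply Set.eq_of_subset_of_ncard_le (Set.subset_univ _) _ (Set.toFinite _)
    rw [Set.ncard_univ]
    exact heq.ge
  have hmem : u ∈ (MulAction.toPermHom G X).ker := by
    rw [MonoidHom.mem_ker]
    ext x
    have : x ∈ fixedBy X u := h1 ▸ Set.mem_univ x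
    exact this
  have hker : (MulAction.toPermHom G X).ker = ⊤ := by
    refine (Subgroup.Normal.eq_bot_or_eq_top inferInstance).resolve_left ?_
    intro hbot
    rw [hbot] at hmem
    exact hu (Subgroup.mem_bot.1 hmem)
  have hss : Subsingleton X := by
    constructor
    intro x y
    obtain ⟨g, rfl⟩ := MulAction.exists_smul_eq G x y
    have hg : g ∈ (MulAction.toPermHom G X).ker := by rw [hker]; exact Subgroup.mem_top g
    rw [MonoidHom.mem_ker] at hg
    have := congrArg (fun f : Equiv.Perm X => f x) hg
    exact this.symm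
  have := Finite.card_le_one_iff_subsingleton.2 hss
  omega

/-- The number of fixed points of an element of prime order `q` is congruent to the number of
points modulo `q`. -/
theorem card_fixedBy_modEq {X : Type*} [MulAction G X] [Finite X] {q : ℕ} [hq : Fact q.Prime]
    {u : G} (hu : u ^ q = 1) : Nat.card X ≡ Nat.card (fixedBy X u) [MOD q] := by
  have h1 : IsPGroup q (zpowers u) := by
    rintro ⟨x, hx⟩
    obtain ⟨k, rfl⟩ := mem_zpowers_iff.1 hx
    refine ⟨1, ?_⟩
    apply Subtype.ext
    show (u ^ k) ^ (q ^ 1) = 1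
    rw [pow_one, ← zpow_natCast, ← zpow_mul, mul_comm, zpow_mul, zpow_natCast, hu, one_zpow]
  have h2 := h1.card_modEq_card_fixedPoints X
  have h3 : fixedPoints (zpowers u) X = fixedBy X u := by
    ext a
    constructor
    · intro h
      exact h ⟨u, mem_zpowers u⟩
    · rintro h ⟨g, hg⟩
      obtain ⟨k, rfl⟩ := mem_zpowers_iff.1 hg
      have h4 : u ∈ stabilizer G a := h
      exact zpow_mem h4 k
  rwa [h3] at h2

/-- If `v` of prime order `q` commutes with `u`, then `|Fix u| ≡ |Fix u ∩ Fix v| mod q`. -/
theorem card_fixedBy_modEq_inter {X : Type*} [MulAction G X] [Finite X] {q : ℕ}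
    [hq : Fact q.Prime] {u v : G} (hv : v ^ q = 1) (huv : v * u = u * v) :
    Nat.card (fixedBy X u) ≡ Nat.card {x : X // u • x = x ∧ v • x = x} [MOD q] := by
  let act : MulAction (zpowers v) (fixedBy X u) :=
    { smul := fun g x => ⟨(g : G) • x.1, by
        have h1 : u • x.1 = x.1 := x.2
        have h2 : (g : G) * u = u * g := by
          obtain ⟨k, hk⟩ := mem_zpowers_iff.1 g.2
          rw [← hk]
          exact ((show Commute v u from huv).zpow_left k).eq
        show u • (g : G) • x.1 = (g : G) • x.1
        rw [← mul_smul, ← h2, mul_smul, h1]⟩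
      one_smul := fun Q => by
        apply Subtype.ext
        show (1 : G) • Q.1 = Q.1
        rw [one_smul]
      mul_smul := fun g h Q => by
        apply Subtype.ext
        show ((g : G) * (h : G)) • Q.1 = (g : G) • (h : G) • Q.1
        rw [mul_smul] }
  have h := card_fixedBy_modEq (G := zpowers v) (X := fixedBy X u) (q := q)
    (u := ⟨v, mem_zpowers v⟩) (by
      apply Subtype.ext
      show v ^ q = 1
      exact hv)
  have h3 : Nat.card (fixedBy (fixedBy X u) (⟨v, mem_zpowers v⟩ : zpowers v)) =
      Nat.card {x : X // u • x = x ∧ v • x = x} := by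
    refine Nat.card_congr
      { toFun := fun x => ⟨x.1.1, x.1.2, congrArg Subtype.val x.2⟩
        invFun := fun x => ⟨⟨x.1, x.2.1⟩, Subtype.ext x.2.2⟩
        left_inv := fun x => rfl
        right_inv := fun x => rfl }
  rw [h3] at h
  exact h

/-- `|H| = |H ∩ N(P)| * n` with `n ≡ 1 mod p` if the Sylow subgroup `P` is contained in `H`. -/
theorem card_eq_mul_modEq_one [Finite G] {p : ℕ} [hp : Fact p.Prime] (P : Sylow p G)
    (H : Subgroup G) (hPH : (P : Subgroup G) ≤ H) :
    ∃ n, n ≡ 1 [MOD p] ∧
      Nat.card H = Nat.card (H ⊓ normalizer (P : Set G) : Subgroup G) * n := by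
  let Q : Sylow p H := P.subtype hPH
  refine ⟨Nat.card (Sylow p H), card_sylow_modEq_one p H, ?_⟩
  rw [Q.card_eq_index_normalizer]
  have h1 : normalizer (Q : Set H) = (H ⊓ normalizer (P : Set G)).subgroupOf H := by
    ext ⟨x, hx⟩
    rw [← Sylow.smul_eq_iff_mem_normalizer, mem_subgroupOf, mem_inf]
    rw [← Sylow.smul_eq_iff_mem_normalizer, Sylow.smul_subtype]
    constructor
    · intro h
      exact ⟨hx, Sylow.subtype_injective h⟩
    · rintro ⟨_, h⟩
      simp only [Q]
      congr 1
  rw [h1]
  have h2 := card_mul_index ((H ⊓ normalizer (P : Set G)).subgroupOf H)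
  rw [← h2]
  congr 1
  exact Nat.card_congr (subgroupOfEquivOfLe inf_le_left).toEquiv

end Cfsg.Agent.SmallSimple.FixCount
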