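import Mathlib
import Cfsg.Agent.S0646
import Cfsg.Agent.Lib.DihedralRecog
set_option linter.all false

set_option autoImplicit false

namespace Cfsg.Agent.SmallSimple.OrderEight

/-- A non-abelian group of order `8` is dihedral or quaternion. -/
theorem dihedral_or_quaternion_of_card_eight {S : Type*} [Group S] (h : Nat.card S = 8)
    (hna : ¬ IsMulCommutative S) :
    Nonempty (S ≃* DihedralGroup 4) ∨ Nonempty (S ≃* QuaternionGroup 2) := by
  have hfin : Finite S := Nat.finite_of_card_ne_zero (by omega)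
  have hna' : ∃ x y : S, x * y ≠ y * x := by
    by_contra hcon
    push Not at hcon
    exact hna ⟨⟨hcon⟩⟩
  have hx4 : ∃ x : S, orderOf x = 4 := by
    by_contra hcon
    push Not at hcon
    have h2 : ∀ x : S, x * x = 1 := by
      intro x
      have hx : orderOf x ∣ 2 ^ 3 := by
        have := orderOf_dvd_natCard x
        rwa [h] at this
      obtain ⟨k, hk, hk'⟩ := (Nat.dvd_prime_pow Nat.prime_two).1 hx
      have hk3 : k ≠ 3 := by
        rintro rfl
        have : IsCyclic S := isCyclic_of_orderOf_eq_card x (by rw [hk', h]; rfl)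
        exact hna (IsCyclic.isMulCommutative)
      have hk2 : k ≠ 2 := by
        rintro rfl
        exact hcon x (by rw [hk']; rfl)
      have : orderOf x ∣ 2 := by
        rw [hk']
        exact (Nat.pow_dvd_pow 2 (show k ≤ 1 by omega))
      have := orderOf_dvd_iff_pow_eq_one.1 this
      rwa [pow_two] at this
    obtain ⟨x, y, hxy⟩ := hna'
    apply hxy
    have h1 := h2 (x * y)
    have hx : x⁻¹ = x := inv_eq_of_mul_eq_one_left (h2 x)
    have hy : y⁻¹ = y := inv_eq_of_mul_eq_one_left (h2 y)
    have h3 : (x * y)⁻¹ = x * y := inv_eq_of_mul_eq_one_left h1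
    rw [← h3, mul_inv_rev, hx, hy]
  obtain ⟨x, hx⟩ := hx4
  have hidx : (Subgroup.zpowers x).index = 2 := by
    have h1 := Subgroup.card_mul_index (Subgroup.zpowers x)
    rw [Nat.card_zpowers, hx, h] at h1
    omega
  obtain ⟨a, b, ha, hb, hcase⟩ := Cfsg.Agent.S0646.result (G := S) 3 le_rfl (by rw [h]; rfl)
    (Subgroup.zpowers x) inferInstance hidx hna'
  rcases hcase with ⟨h1, h2⟩ | ⟨h1, h2⟩ | ⟨h1, -⟩ | ⟨h1, -⟩
  · left
    exact Cfsg.Agent.Lib.DihedralRecog.dihedral_of_generators (m := 4) (by norm_num) a b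
      (by rw [ha]; norm_num) (by rw [← pow_two, h1]) h2 hb (by rw [h])
  · right
    exact Cfsg.Agent.Lib.DihedralRecog.quaternion_of_generators (m := 2) (by norm_num) a b
      (by rw [ha]; norm_num) (by rw [← pow_two, h1]; norm_num) h2 hb (by rw [h])
  · omega
  · omega

end Cfsg.Agent.SmallSimple.OrderEight
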