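import Mathlib
import Cfsg.Agent.SmallSimple.SylowPrimeInvol
import Cfsg.Agent.SmallSimple.BurnsideNC
set_option linter.all false

/-!
Numerical data attached to an element of prime order `p` generating a Sylow `p`-subgroup of a
finite simple group.
-/

set_option autoImplicit false

namespace Cfsg.Agent.SmallSimple.PrimeOrderData

open Subgroup MulAction
open Cfsg.Agent.SmallSimple.SylowPrime Cfsg.Agent.SmallSimple.SylowPrimeCount
open Cfsg.Agent.SmallSimple.SylowPrimeInvol

variable {G : Type*} [Group G]

theorem centralizer_zpowers (x : G) :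
    centralizer ((zpowers x : Subgroup G) : Set G) = centralizer ({x} : Set G) := by
  rw [zpowers_eq_closure, centralizer_closure]

/-- If `|G| = p * m` with `p ∤ m`, an element of order `p` generates a Sylow `p`-subgroup. -/
theorem exists_sylow_eq [Finite G] {p m : ℕ} [hp : Fact p.Prime] (h : Nat.card G = p * m)
    (hm : ¬ p ∣ m) (z : G) (hz : orderOf z = p) : ∃ P : Sylow p G, (P : Subgroup G) = zpowers z := by
  have hpg : IsPGroup p (zpowers z) := IsPGroup.of_card (n := 1) (by rw [Nat.card_zpowers, hz, pow_one])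
  obtain ⟨P, hP⟩ := hpg.exists_le_sylow
  refine ⟨P, (Subgroup.eq_of_le_of_card_ge hP ?_).symm⟩
  rw [Nat.card_zpowers, hz]
  have := card_sylow_of_card_eq P (k := 1) (m := m) (by rw [h, pow_one]) hm
  rw [pow_one] at this
  exact this.le

/-- `n_p` for `|G| = p * m`, `p ∤ m`, in a simple group. -/
theorem card_sylow_prop [Finite G] [IsSimpleGroup G] {p m : ℕ} [hp : Fact p.Prime]
    (h : Nat.card G = p * m) (hm : ¬ p ∣ m) (hm1 : m ≠ 1) :
    Nat.card (Sylow p G) ∣ m ∧ Nat.card (Sylow p G) % p = 1 ∧ Nat.card (Sylow p G) ≠ 1 ∧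
      Nat.card G ∣ (Nat.card (Sylow p G)).factorial := by
  obtain ⟨P⟩ : Nonempty (Sylow p G) := inferInstance
  have h' : Nat.card G = p ^ 1 * m := by rw [h, pow_one]
  refine ⟨card_sylow_dvd_of_card_eq P h' hm, ?_, card_sylow_ne_one h' hm one_ne_zero hm1, ?_⟩
  · have := card_sylow_modEq_one p G
    rw [Nat.ModEq, Nat.mod_eq_of_lt hp.out.one_lt] at this
    exact this
  · apply SylowCount.card_dvd_factorial_card_sylow (by rw [h]; exact dvd_mul_right _ _)
    intro h2
    rw [h2] at h
    exact hm1 (Nat.eq_of_mul_eq_mul_left hp.out.pos (by rw [mul_one]; exact h.symm))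

/-- The order of the centralizer and of the normalizer of an element of prime order `p` in a
simple group of order `p * m`, `p ∤ m`. -/
theorem exists_data [Finite G] [IsSimpleGroup G] {p m : ℕ} [hp : Fact p.Prime]
    (h : Nat.card G = p * m) (hm : ¬ p ∣ m) (hm1 : m ≠ 1) (z : G) (hz : orderOf z = p) :
    ∃ e c, e ∣ p - 1 ∧ e ≠ 1 ∧ Nat.card (centralizer ({z} : Set G)) = p * c ∧
      Nat.card (normalizer ((zpowers z : Subgroup G) : Set G)) = p * c * e ∧
      Nat.card (Sylow p G) * (c * e) = m := by
  obtain ⟨P, hP⟩ := exists_sylow_eq h hm z hz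
  have hPc : Nat.card P = p := by
    have := card_sylow_of_card_eq P (k := 1) (m := m) (by rw [h, pow_one]) hm
    rwa [pow_one] at this
  have hne : Nat.card G ≠ p := by
    intro h2
    rw [h2] at h
    exact hm1 (Nat.eq_of_mul_eq_mul_left hp.out.pos (by rw [mul_one]; exact h.symm))
  obtain ⟨e, he1, he2, he3, he4, he5, he6⟩ :=
    BurnsideNC.exists_automizer_of_card_eq_prime hne P hPc
  rw [← centralizer_zpowers]
  obtain ⟨c, hc⟩ := he6
  have hP' : (P : Set G) = ((zpowers z : Subgroup G) : Set G) :=
    congrArg (fun K : Subgroup G => (K : Set G)) hP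
  rw [hP'] at hc he4 he5
  refine ⟨e, c, he1, he2, hc, ?_, ?_⟩
  · rw [he4, hc]
  · rw [he4, hc, h, mul_assoc, mul_left_comm] at he5
    exact Nat.eq_of_mul_eq_mul_left hp.out.pos he5

/-- If `y` of prime order `q` commutes with `t` and `y` fixes no point of `X`, then `q` divides
the number of fixed points of `t`. -/
theorem dvd_card_fixedBy {X : Type*} [MulAction G X] [Finite X] {q : ℕ} [hq : Fact q.Prime]
    {t y : G} (hy : orderOf y = q) (hty : t * y = y * t) (hfree : ∀ x : X, y • x ≠ x) :
    q ∣ Nat.card (fixedBy X t) := by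
  have hcomm : ∀ g : zpowers y, t * g = g * t := by
    rintro ⟨g, hg⟩
    obtain ⟨k, rfl⟩ := mem_zpowers_iff.1 hg
    exact ((show Commute t y from hty).zpow_right k).eq
  let act : MulAction (zpowers y) (fixedBy X t) :=
    { smul := fun g Q => ⟨(g : G) • Q.1, by
        have h1 : t • Q.1 = Q.1 := Q.2
        show t • (g : G) • Q.1 = (g : G) • Q.1
        rw [← mul_smul, hcomm g, mul_smul, h1]⟩
      one_smul := fun Q => by
        apply Subtype.ext
        show (1 : G) • Q.1 = Q.1
        rw [one_smul]
      mul_smul := fun g h Q => by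
        apply Subtype.ext
        show ((g : G) * (h : G)) • Q.1 = (g : G) • (h : G) • Q.1
        rw [mul_smul] }
  have hpg : IsPGroup q (zpowers y) := IsPGroup.of_card (n := 1) (by rw [Nat.card_zpowers, hy, pow_one])
  have h1 := hpg.card_modEq_card_fixedPoints (fixedBy X t)
  have h2 : fixedPoints (zpowers y) (fixedBy X t) = ∅ := by
    rw [Set.eq_empty_iff_forall_notMem]
    intro x hx
    apply hfree x.1
    exact congrArg Subtype.val (hx ⟨y, mem_zpowers y⟩)
  rw [h2] at h1
  simp only [Nat.card_of_isEmpty] at h1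
  exact (Nat.modEq_zero_iff_dvd).1 h1

/-- `|C(t)| ≤ |Fix t| * |C(t) ∩ N(P)|`. -/
theorem card_centralizer_le {X : Type*} [MulAction G X] [Finite X] [Finite G] (t : G) (x : X)
    (hx : t • x = x) :
    Nat.card (centralizer ({t} : Set G)) ≤
      Nat.card (fixedBy X t) * Nat.card (centralizer ({t} : Set G) ⊓ stabilizer G x : Subgroup G) := by
  have h1 : Nat.card (orbit (centralizer ({t} : Set G)) x) *
      Nat.card (stabilizer (centralizer ({t} : Set G)) x) = Nat.card (centralizer ({t} : Set G)) := by
    rw [← Nat.card_prod]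
    exact Nat.card_congr (orbitProdStabilizerEquivGroup (centralizer ({t} : Set G)) x)
  have h2 : Nat.card (stabilizer (centralizer ({t} : Set G)) x) =
      Nat.card (centralizer ({t} : Set G) ⊓ stabilizer G x : Subgroup G) := by
    have h3 : stabilizer (centralizer ({t} : Set G)) x =
        (centralizer ({t} : Set G) ⊓ stabilizer G x).subgroupOf (centralizer {t}) := by
      ext ⟨g, hg⟩
      rw [mem_stabilizer_iff, mem_subgroupOf, mem_inf, mem_stabilizer_iff]
      exact ⟨fun h => ⟨hg, h⟩, fun h => h.2⟩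
    rw [h3]
    exact Nat.card_congr (subgroupOfEquivOfLe inf_le_left).toEquiv
  have h3 : Nat.card (orbit (centralizer ({t} : Set G)) x) ≤ Nat.card (fixedBy X t) := by
    refine Nat.card_mono (Set.toFinite _) ?_
    rintro _ ⟨⟨g, hg⟩, rfl⟩
    show t • g • x = g • x
    have h1 : t * g = g * t := (mem_centralizer_iff.1 hg t rfl)
    rw [← mul_smul, h1, mul_smul, hx]
  rw [← h1, h2]
  exact Nat.mul_le_mul_right _ h3

end Cfsg.Agent.SmallSimple.PrimeOrderData
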