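import Cfsg.Agent.SmallSimple.FixCount
import Cfsg.Agent.SmallSimple.BurnsideNC
set_option linter.all false
set_option autoImplicit false
namespace Cfsg.Agent.SmallSimple.PrimeSylowAut

open Subgroup MulAction
open Cfsg.Agent.SmallSimple.SylowPrime

variable {G : Type*} [Group G]

/-- The automorphism group of a group of prime order is cyclic. -/
theorem isCyclic_mulAut {P : Type*} [Group P] {p : ℕ} (hp : p.Prime) (hP : Nat.card P = p) :
    IsCyclic (MulAut P) := by
  have := Fact.mk hp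
  have hc : IsCyclic P := isCyclic_of_prime_card hP
  have h1 : IsCyclic (ZMod (Nat.card P))ˣ := by rw [hP]; exact ZMod.isCyclic_units_prime hp
  exact (MulEquiv.isCyclic (IsCyclic.mulAutMulEquiv P)).2 h1

/-- For `P` of prime order, `S / C_S(P)` is cyclic for every subgroup `S` of `N(P)`. -/
theorem exists_generator_mod_centralizer [Finite G] {p : ℕ} (hp : p.Prime) {P : Subgroup G}
    (hP : Nat.card P = p) (S : Subgroup G) (hS : S ≤ normalizer (P : Set G)) :
    ∃ s ∈ S, ∀ x ∈ S, ∃ n : ℕ, x * s ^ n ∈ centralizer (P : Set G) := by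
  have hc := isCyclic_mulAut hp hP
  let f : S →* MulAut P := P.normalizerMonoidHom.comp (Subgroup.inclusion hS)
  have hfin : Finite f.range := Finite.of_surjective _ f.rangeRestrict_surjective
  have hr : IsCyclic f.range := Subgroup.isCyclic f.range
  obtain ⟨⟨_, s, rfl⟩, hs⟩ := hr.exists_generator
  refine ⟨s, s.2, fun x hx => ?_⟩
  have h1 := hs ⟨f ⟨x, hx⟩, ⟨x, hx⟩, rfl⟩⁻¹
  have h2 := (mem_powers_iff_mem_zpowers).2 h1
  obtain ⟨n, hn⟩ := (Submonoid.mem_powers_iff _ _).1 h2
  refine ⟨n, ?_⟩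
  have h3 : f (⟨x, hx⟩ * s ^ n) = 1 := by
    have h4 := congrArg Subtype.val hn
    have h5 : (f s) ^ n = (f ⟨x, hx⟩)⁻¹ := h4
    rw [map_mul, map_pow, h5, mul_inv_cancel]
  have h6 : (Subgroup.inclusion hS (⟨x, hx⟩ * s ^ n)) ∈ P.normalizerMonoidHom.ker := h3
  rw [normalizerMonoidHom_ker] at h6
  exact h6

theorem mem_centralizer_of_commute {p : ℕ} (hp : p.Prime) {P : Subgroup G} (hP : Nat.card P = p)
    {v u : G} (hv : v ∈ P) (hv1 : v ≠ 1) (huv : u * v = v * u) : u ∈ centralizer (P : Set G) := by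
  rw [mem_centralizer_iff]
  intro w hw
  obtain ⟨k, rfl⟩ := mem_zpowers_iff.1 (mem_zpowers_of_card_prime hp hP hv hv1 hw)
  exact ((show Commute v u from huv.symm).zpow_left k).eq

/-- If the Sylow `p`-subgroups have order `p`, an element of order `p` generates one. -/
theorem exists_sylow_eq_zpowers [Finite G] {p : ℕ} [hp : Fact p.Prime]
    (hS : ∀ P : Sylow p G, Nat.card P = p) {v : G} (hv : orderOf v = p) :
    ∃ P : Sylow p G, (P : Subgroup G) = zpowers v := by
  have h1 : IsPGroup p (Subgroup.zpowers v) :=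
      IsPGroup.of_card (n := 1) (by rw [Nat.card_zpowers, hv, pow_one])
  obtain ⟨Q, hQ⟩ := h1.exists_le_sylow
  refine ⟨Q, ?_⟩
  symm
  apply Subgroup.eq_of_le_of_card_ge hQ
  rw [Nat.card_zpowers, hv]
  exact (hS Q).le
end Cfsg.Agent.SmallSimple.PrimeSylowAut
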