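import Mathlib
import Cfsg.Agent.SmallSimple.PSL2Recog
import Cfsg.Agent.SmallSimple.PSLTwoPart
import Cfsg.Agent.SmallSimple.Burnside
import Cfsg.Agent.SmallSimple.PSqQR
set_option linter.all false

set_option autoImplicit false

/-!
# Simple groups of order `p * r * q ^ b`

Arithmetic deduction of S0998 from S0997.
-/

namespace Cfsg.Agent.SmallSimple.PRQb

open Matrix

/-- `r * q ^ b = 2 ^ m * k` with `k` odd, `m ≥ 2` and `r ≠ q` primes: then `q = 2` and `r = k`. -/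
theorem eq_of_mul_pow_eq {r q b m k : ℕ} (hr : r.Prime) (hq : q.Prime) (hqr : q ≠ r) (hm : 2 ≤ m)
    (hk : Odd k) (h : r * q ^ b = 2 ^ m * k) : q = 2 ∧ r = k := by
  have h2m : 2 ∣ 2 ^ m := dvd_pow_self 2 (by omega)
  have hq2 : q = 2 := by
    by_contra hne
    have h2q : ¬ 2 ∣ q ^ b := by
      intro hd
      have := Nat.prime_two.dvd_of_dvd_pow hd
      exact hne ((Nat.prime_dvd_prime_iff_eq Nat.prime_two hq).1 this).symm
    have h2 : 2 ∣ r * q ^ b := h ▸ (h2m.mul_right k)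
    have h2r : 2 ∣ r := (Nat.prime_two.dvd_mul.1 h2).resolve_right h2q
    have hr2 : r = 2 := ((Nat.prime_dvd_prime_iff_eq Nat.prime_two hr).1 h2r).symm
    subst hr2
    obtain ⟨n, rfl⟩ : ∃ n, m = n + 2 := ⟨m - 2, by omega⟩
    have h4 : q ^ b = 2 ^ (n + 1) * k := by
      have : 2 * q ^ b = 2 * (2 ^ (n + 1) * k) := by rw [h]; ring
      exact Nat.eq_of_mul_eq_mul_left (by norm_num) this
    exact h2q (h4 ▸ ((dvd_pow_self 2 (by omega)).mul_right k))
  subst hq2
  refine ⟨rfl, ?_⟩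
  have hodd : Odd r := hr.odd_of_ne_two (fun h' => hqr h'.symm)
  have h1 : 2 ^ b ∣ 2 ^ m := by
    have : 2 ^ b ∣ 2 ^ m * k := h ▸ Dvd.intro_left r rfl
    exact Nat.Coprime.dvd_of_dvd_mul_right
      (Nat.Coprime.pow_left b (Nat.coprime_two_left.2 hk)) this
  have h3 : 2 ^ m ∣ 2 ^ b := by
    have : 2 ^ m ∣ r * 2 ^ b := h ▸ Dvd.intro k rfl
    exact Nat.Coprime.dvd_of_dvd_mul_left
      (Nat.Coprime.pow_left m (Nat.coprime_two_left.2 hodd)) this
  have h5 : 2 ^ b = 2 ^ m := Nat.dvd_antisymm h1 h3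
  rw [h5, mul_comm] at h
  exact Nat.eq_of_mul_eq_mul_left (by positivity) h

theorem three_dvd_pow_add_one {n : ℕ} (hn : Odd n) : 3 ∣ 2 ^ n + 1 := by
  have := Odd.nat_add_dvd_pow_add_pow 2 1 hn
  simpa using this

theorem three_dvd_pow_sub_one {n : ℕ} (hn : Even n) : 3 ∣ 2 ^ n - 1 := by
  obtain ⟨k, rfl⟩ := hn
  have := Nat.sub_dvd_pow_sub_pow 4 1 k
  simp only [one_pow] at this
  have h : 2 ^ (k + k) = 4 ^ k := by rw [← two_mul, pow_mul]; norm_num
  rw [h]
  simpa using this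

theorem eq_three_of_dvd {n : ℕ} (hn : n.Prime) (h : 3 ∣ n) : n = 3 :=
  ((Nat.prime_dvd_prime_iff_eq Nat.prime_three hn).1 h).symm

/-- First case: `p = 2 ^ m + 1`, `2 r q ^ b = p ^ 2 - 1`. -/
theorem case_add {p r q b m : ℕ} (hp : p.Prime) (hr : r.Prime) (hq : q.Prime) (hqr : q ≠ r)
    (hp5 : 5 ≤ p) (hpm : p = 2 ^ m + 1) (h : 2 * (r * q ^ b) = p ^ 2 - 1) : p = 5 := by
  have hm : 2 ≤ m := by
    by_contra hlt
    have : 2 ^ m ≤ 2 ^ 1 := Nat.pow_le_pow_right (by norm_num) (by omega)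
    omega
  obtain ⟨n, rfl⟩ : ∃ n, m = n + 2 := ⟨m - 2, by omega⟩
  have hk : Odd (2 ^ (n + 1) + 1) := by
    rw [pow_succ]; exact ⟨2 ^ n, by ring⟩
  have h1 : r * q ^ b = 2 ^ (n + 2) * (2 ^ (n + 1) + 1) := by
    have h2 : p ^ 2 - 1 = 2 * (2 ^ (n + 2) * (2 ^ (n + 1) + 1)) := by
      have : p ^ 2 = 2 * (2 ^ (n + 2) * (2 ^ (n + 1) + 1)) + 1 := by
        rw [hpm]; ring
      omega
    have := h.trans h2
    omega
  obtain ⟨-, hrk⟩ := eq_of_mul_pow_eq hr hq hqr hm hk h1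
  rcases Nat.even_or_odd (n + 2) with he | ho
  · have h3 : 3 ∣ r := by
      rw [hrk]
      apply three_dvd_pow_add_one
      rcases Nat.even_or_odd (n + 1) with h' | h'
      · exfalso
        have := (Nat.even_add_one (n := n + 1)).1 he
        exact this h'
      · exact h'
    have hr3 := eq_three_of_dvd hr h3
    have : 2 ^ (n + 1) = 2 := by omega
    have h2 : 2 ^ (n + 2) = 4 := by rw [pow_succ, this]; norm_num
    omega
  · have h3 : 3 ∣ p := hpm ▸ three_dvd_pow_add_one ho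
    have := eq_three_of_dvd hp h3
    omega

/-- Second case: `p = 2 ^ m - 1`, `2 r q ^ b = p ^ 2 - 1`. -/
theorem case_sub {p r q b m : ℕ} (hp : p.Prime) (hr : r.Prime) (hq : q.Prime) (hqr : q ≠ r)
    (hp5 : 5 ≤ p) (hpm : p = 2 ^ m - 1) (h : 2 * (r * q ^ b) = p ^ 2 - 1) : p = 7 := by
  have hm : 3 ≤ m := by
    by_contra hlt
    have : 2 ^ m ≤ 2 ^ 2 := Nat.pow_le_pow_right (by norm_num) (by omega)
    omega
  obtain ⟨n, rfl⟩ : ∃ n, m = n + 3 := ⟨m - 3, by omega⟩
  obtain ⟨w, hw⟩ : ∃ w, 2 ^ (n + 1) = w + 2 := by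
    refine ⟨2 ^ (n + 1) - 2, ?_⟩
    have : 2 ^ 1 ≤ 2 ^ (n + 1) := Nat.pow_le_pow_right (by norm_num) (by omega)
    omega
  have hw2 : 2 ^ (n + 2) = 2 * w + 4 := by rw [pow_succ, hw]; ring
  have hw3 : 2 ^ (n + 3) = 4 * w + 8 := by rw [pow_succ, hw2]; ring
  have hk : Odd (2 ^ (n + 2) - 1) := by
    rw [hw2]; exact ⟨w + 1, by omega⟩
  have h1 : r * q ^ b = 2 ^ (n + 3) * (2 ^ (n + 2) - 1) := by
    have h2 : p ^ 2 - 1 = 2 * (2 ^ (n + 3) * (2 ^ (n + 2) - 1)) := by
      have hp' : p = 4 * w + 7 := by omega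
      have hs : 2 ^ (n + 2) - 1 = 2 * w + 3 := by omega
      rw [hs, hw3, hp']
      have : (4 * w + 7) ^ 2 = 2 * ((4 * w + 8) * (2 * w + 3)) + 1 := by ring
      omega
    have := h.trans h2
    omega
  obtain ⟨-, hrk⟩ := eq_of_mul_pow_eq hr hq hqr (by omega) hk h1
  rcases Nat.even_or_odd (n + 3) with he | ho
  · have h3 : 3 ∣ p := hpm ▸ three_dvd_pow_sub_one he
    have := eq_three_of_dvd hp h3
    omega
  · have h3 : 3 ∣ r := by
      rw [hrk]
      apply three_dvd_pow_sub_one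
      rcases Nat.even_or_odd (n + 2) with h' | h'
      · exact h'
      · exfalso
        have h4 := Odd.add_one h'
        exact (Nat.not_even_iff_odd.2 ho) h4
    have hr3 := eq_three_of_dvd hr h3
    have : 2 ^ (n + 2) = 4 := by omega
    have h2 : 2 ^ (n + 3) = 8 := by rw [pow_succ, this]; norm_num
    omega

/-- Third case: `p = 2 ^ m + 1`, `r q ^ b = 2 ^ m (2 ^ m - 1)`. -/
theorem case_even {p r q b m : ℕ} (hp : p.Prime) (hr : r.Prime) (hq : q.Prime) (hqr : q ≠ r)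
    (hp5 : 5 ≤ p) (hpm : p = 2 ^ m + 1) (h : r * q ^ b = 2 ^ m * (2 ^ m - 1)) : p = 5 := by
  have hm : 2 ≤ m := by
    by_contra hlt
    have : 2 ^ m ≤ 2 ^ 1 := Nat.pow_le_pow_right (by norm_num) (by omega)
    omega
  have hk : Odd (2 ^ m - 1) := by
    obtain ⟨n, rfl⟩ : ∃ n, m = n + 1 := ⟨m - 1, by omega⟩
    have : 0 < 2 ^ n := by positivity
    rw [pow_succ]; exact ⟨2 ^ n - 1, by omega⟩
  obtain ⟨-, hrk⟩ := eq_of_mul_pow_eq hr hq hqr hm hk h
  rcases Nat.even_or_odd m with he | ho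
  · have h3 : 3 ∣ r := hrk ▸ three_dvd_pow_sub_one he
    have := eq_three_of_dvd hr h3
    omega
  · have h3 : 3 ∣ p := hpm ▸ three_dvd_pow_add_one ho
    have := eq_three_of_dvd hp h3
    omega

/-- A simple group of order 60 is `PSL(2,5)`. -/
theorem psl_five_of_card {G : Type*} [Group G] [Finite G] [IsSimpleGroup G]
    (hG : Nat.card G = 60) :
    ∃ (F : Type) (_ : Field F) (_ : Fintype F), Fintype.card F = 5 ∧
      Nonempty (G ≃* Matrix.ProjectiveSpecialLinearGroup (Fin 2) F) := by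
  have : Fact (Nat.Prime 5) := ⟨by norm_num⟩
  refine ⟨ZMod 5, inferInstance, inferInstance, ZMod.card 5, ?_⟩
  refine PSL2Recog.psl2_of_simple_card (p := 5) (by norm_num) (by rw [hG]) ?_ (ZMod.card 5)
  have h1 : Nat.card (Sylow 5 G) ∣ 12 :=
    PSqQR.card_sylow_dvd_of_card_eq (p := 5) (m := 12) (k := 1) (by rw [hG]; norm_num) (by norm_num)
  have h2 : Nat.card (Sylow 5 G) ≡ 1 [MOD 5] := card_sylow_modEq_one 5 G
  have h3 : Nat.card (Sylow 5 G) ≠ 1 := by
    intro h1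
    have P : Sylow 5 G := default
    have : Subsingleton (Sylow 5 G) := (Nat.card_eq_one_iff_unique.1 h1).1
    have hn : (P : Subgroup G).Normal := P.normal_of_subsingleton
    rcases hn.eq_bot_or_eq_top with h | h
    · have : 5 ∣ Nat.card G := by rw [hG]; norm_num
      exact (P.ne_bot_of_dvd_card this) h
    · have h5 : IsPGroup 5 G := by
        have := P.isPGroup'
        rw [h] at this
        exact (IsPGroup.iff_card.2 (by
          obtain ⟨n, hn⟩ := IsPGroup.iff_card.1 this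
          exact ⟨n, by rw [← hn, Subgroup.card_top]⟩))
      obtain ⟨n, hn⟩ := IsPGroup.iff_card.1 h5
      rw [hG] at hn
      have h2 : 2 ∣ 5 ^ n := by rw [← hn]; norm_num
      have := Nat.prime_two.dvd_of_dvd_pow h2
      omega
  have h4 : Nat.card (Sylow 5 G) ≤ 12 := Nat.le_of_dvd (by norm_num) h1
  generalize Nat.card (Sylow 5 G) = n at *
  interval_cases n <;> first | rfl | (exfalso; revert h1 h2 h3; decide)

/-- The conclusion of S0997. -/
def Concl (G : Type*) [Group G] (p : ℕ) : Prop :=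
  (∃ (m : ℕ) (F : Type) (_ : Field F) (_ : Fintype F), Fintype.card F = p ∧
    (p = 2 ^ m + 1 ∨ p = 2 ^ m - 1) ∧
      Nonempty (G ≃* Matrix.ProjectiveSpecialLinearGroup (Fin 2) F)) ∨
  (∃ (m : ℕ) (F : Type) (_ : Field F) (_ : Fintype F), Fintype.card F = 2 ^ m ∧
    p = 2 ^ m + 1 ∧ 3 < p ∧ Nonempty (G ≃* Matrix.ProjectiveSpecialLinearGroup (Fin 2) F))

theorem aux {G : Type*} [Group G] [Finite G] [IsSimpleGroup G] (hG : ¬ IsCyclic G)
    (h997 : ∀ (p q b g₀ : ℕ), p.Prime → q.Prime → p ≠ q → Nat.card G = p * q ^ b * g₀ →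
      g₀ < p - 1 → Concl G p)
    (p q r b : ℕ) (hp : p.Prime) (hq : q.Prime) (hr : r.Prime) (hpq : p ≠ q)
    (hrp : r < p) (hqr : q ≠ r) (hG' : Nat.card G = p * r * q ^ b) :
    (∃ (F : Type) (_ : Field F) (_ : Fintype F), Fintype.card F = 5 ∧
      Nonempty (G ≃* Matrix.ProjectiveSpecialLinearGroup (Fin 2) F)) ∨
    (∃ (F : Type) (_ : Field F) (_ : Fintype F), Fintype.card F = 7 ∧
      Nonempty (G ≃* Matrix.ProjectiveSpecialLinearGroup (Fin 2) F)) := by
  by_cases hrp1 : r = p - 1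
  · -- `p = 3`, `r = 2`
    exfalso
    have hr2 : r = 2 := by
      rcases hr.eq_two_or_odd' with h | h
      · exact h
      · exfalso
        have : 2 ∣ p := by
          obtain ⟨k, hk⟩ := h
          exact ⟨k + 1, by omega⟩
        have := (Nat.prime_dvd_prime_iff_eq Nat.prime_two hp).1 this
        have := hr.two_le
        omega
    have hp3 : p = 3 := by omega
    subst hr2 hp3
    have hqodd : ¬ 2 ∣ q ^ b := by
      intro h
      have := Nat.prime_two.dvd_of_dvd_pow h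
      exact hqr ((Nat.prime_dvd_prime_iff_eq Nat.prime_two hq).1 this).symm
    have : Fact (Nat.Prime 2) := ⟨Nat.prime_two⟩
    have P : Sylow 2 G := default
    have hPcard : Nat.card P = 2 ^ 1 :=
      PSqQR.card_sylow_of_card_eq (p := 2) (m := 3 * q ^ b) (k := 1) (by rw [hG']; ring)
        (by
          intro h
          rcases Nat.prime_two.dvd_mul.1 h with h | h
          · revert h; decide
          · exact hqodd h) P
    have hcyc : IsCyclic P := isCyclic_of_prime_card (p := 2) (by simpa using hPcard)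
    have hmin : (Nat.card G).minFac = 2 := by
      rw [Nat.minFac_eq_two_iff, hG']
      exact ⟨3 * q ^ b, by ring⟩
    have h2 := Burnside.card_eq_of_isCyclic_minFac hmin P hcyc
    exact hG (isCyclic_of_prime_card h2)
  have hlt : r < p - 1 := by omega
  have hp5 : 5 ≤ p := by
    have := hr.two_le
    by_contra hlt'
    have : p = 4 := by omega
    subst this
    revert hp; decide
  have hodd : Odd p := hp.odd_of_ne_two (by omega)
  rcases h997 p q b r hp hq hpq (by rw [hG']; ring) hlt with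
    ⟨m, F, hF1, hF2, hcard, hpm, ⟨e⟩⟩ | ⟨m, F, hF1, hF2, hcard, hpm, h3, ⟨e⟩⟩
  · have hc := PSLTwoPart.card_psl_two_odd (F := F) (by rw [hcard]; exact hodd)
    rw [← Nat.card_congr e.toEquiv, hcard, hG'] at hc
    have h2 : 2 * (r * q ^ b) = p ^ 2 - 1 := by
      apply Nat.eq_of_mul_eq_mul_left hp.pos
      rw [← hc]; ring
    rcases hpm with hpm | hpm
    · left
      have h5 := case_add hp hr hq hqr hp5 hpm h2
      exact ⟨F, hF1, hF2, by rw [hcard, h5], ⟨e⟩⟩
    · right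
      have h7 := case_sub hp hr hq hqr hp5 hpm h2
      exact ⟨F, hF1, hF2, by rw [hcard, h7], ⟨e⟩⟩
  · left
    have hm : m ≠ 0 := by
      rintro rfl
      simp at hpm
      omega
    have hc := PSLTwoPart.card_psl_two_even (F := F) (by
      rw [hcard]; exact (Nat.even_pow' hm).2 even_two)
    rw [← Nat.card_congr e.toEquiv, hcard] at hc
    have hpos : 1 ≤ 2 ^ m := Nat.one_le_two_pow
    have hfac : (2 ^ m) ^ 2 - 1 = (2 ^ m - 1) * p := by
      obtain ⟨w, hw⟩ : ∃ w, 2 ^ m = w + 1 := ⟨2 ^ m - 1, by omega⟩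
      rw [hpm, hw]
      have : (w + 1) ^ 2 = (w + 1 - 1) * (w + 1 + 1) + 1 := by
        rw [Nat.add_sub_cancel]; ring
      omega
    have h2 : r * q ^ b = 2 ^ m * (2 ^ m - 1) := by
      apply Nat.eq_of_mul_eq_mul_left hp.pos
      rw [← mul_assoc, ← hG', hc, hfac]; ring
    have h5 := case_even hp hr hq hqr hp5 hpm h2
    have h60 : Nat.card G = 60 := by
      have h4 : 2 ^ m = 4 := by omega
      rw [hc, h4]; norm_num
    exact psl_five_of_card h60

/-- S0998 from the conclusion of S0997. -/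
theorem main {G : Type*} [Group G] [Finite G] [IsSimpleGroup G] (hG : ¬ IsCyclic G)
    (h997 : ∀ (p q b g₀ : ℕ), p.Prime → q.Prime → p ≠ q → Nat.card G = p * q ^ b * g₀ →
      g₀ < p - 1 → Concl G p)
    (p q r b : ℕ) (hp : p.Prime) (hq : q.Prime) (hr : r.Prime) (hpq : p ≠ q) (hpr : p ≠ r)
    (hqr : q ≠ r) (hG' : Nat.card G = p * r * q ^ b) :
    (∃ (F : Type) (_ : Field F) (_ : Fintype F), Fintype.card F = 5 ∧
      Nonempty (G ≃* Matrix.ProjectiveSpecialLinearGroup (Fin 2) F)) ∨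
    (∃ (F : Type) (_ : Field F) (_ : Fintype F), Fintype.card F = 7 ∧
      Nonempty (G ≃* Matrix.ProjectiveSpecialLinearGroup (Fin 2) F)) := by
  rcases lt_or_gt_of_ne hpr with h | h
  · exact aux hG h997 r q p b hr hq hp (fun h' => hqr h'.symm) h (fun h' => hpq h'.symm)
      (by rw [hG']; ring)
  · exact aux hG h997 p q r b hp hq hr hpq h hqr hG'

end Cfsg.Agent.SmallSimple.PRQb
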