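import Mathlib
import Cfsg.Agent.SmallSimple.EvenOrder
set_option linter.all false

/-!
# Involutions of a simple group with Sylow `2`-subgroups of order `4` are conjugate
-/

set_option autoImplicit false

namespace Cfsg.Agent.SmallSimple.InvolFour

open Subgroup

/-- An element of order `p` has a conjugate in a given Sylow `p`-subgroup. -/
theorem exists_conj_mem_sylow {G : Type*} [Group G] [Finite G] {p : ℕ} [hp : Fact p.Prime]
    (T : Sylow p G) {x : G} (hx : orderOf x = p) : ∃ g : G, g * x * g⁻¹ ∈ T := by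
  have h1 : IsPGroup p (zpowers x) := by
    apply IsPGroup.of_card (n := 1)
    rw [Nat.card_zpowers, hx, pow_one]
  obtain ⟨Q, hQ⟩ := h1.exists_le_sylow
  obtain ⟨g, hg⟩ := MulAction.exists_smul_eq G Q T
  refine ⟨g, ?_⟩
  rw [← hg]
  have h2 : x ∈ (Q : Subgroup G) := hQ (mem_zpowers x)
  change g * x * g⁻¹ ∈ ((g • Q : Sylow p G) : Subgroup G)
  rw [Sylow.coe_subgroup_smul]
  exact ⟨x, h2, by simp [MulAut.smul_def]⟩

variable {G : Type*} [Group G] [Finite G] [IsSimpleGroup G]

theorem isConj_of_mem (hG : ¬ IsMulCommutative G) (h2 : 2 ∣ Nat.card G)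
    (h8 : ¬ 8 ∣ Nat.card G) (T : Sylow 2 G) {u v : G} (hu : u ∈ T) (hv : v ∈ T) (hu1 : u ≠ 1)
    (hv1 : v ≠ 1) : ∃ g : G, g * u * g⁻¹ = v := by
  obtain ⟨hK, hr⟩ := EvenOrder.klein_four_of_not_dvd_eight hG h2 h8 T
  set N := normalizer ((T : Subgroup G) : Set G) with hN
  set C := centralizer ((T : Subgroup G) : Set G) with hC
  have hCN : C ≤ N := centralizer_le_normalizer _
  obtain ⟨n, hnN, hnC⟩ : ∃ n ∈ N, n ∉ C := by
    by_contra hcon
    push Not at hcon
    have h1 : C.relIndex N = 1 := relIndex_eq_one.2 hcon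
    omega
  have hnorm : (C.subgroupOf N).Normal := by
    rw [hC, hN]
    infer_instance
  have h3 : n ^ 3 ∈ C := by
    have h4 := (C.subgroupOf N).pow_index_mem ⟨n, hnN⟩
    rw [show (C.subgroupOf N).index = 3 from hr] at h4
    exact mem_subgroupOf.1 h4
  have hconj : ∀ x ∈ (T : Subgroup G), n * x * n⁻¹ ∈ (T : Subgroup G) := fun x hx =>
    (mem_normalizer_iff.1 hnN x).1 hx
  have h33 : n ^ 3 = n * n * n := by rw [pow_succ, pow_two]
  have hcomm3 : ∀ x ∈ (T : Subgroup G), n * n * n * x = x * (n * n * n) := fun x hx => by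
    rw [← h33]
    exact (mem_centralizer_iff.1 h3 x hx).symm
  have hmul : ∀ x ∈ (T : Subgroup G), ∀ y ∈ (T : Subgroup G), ∀ z ∈ (T : Subgroup G), x ≠ 1 →
      y ≠ 1 → x ≠ y → z ≠ 1 → z ≠ x → z ≠ y → z = x * y := by
    intro x hx y hy z hz hx1 hy1 hxy hz1 hzx hzy
    have := hK.eq_mul_of_ne_all (x := (⟨x, hx⟩ : (T : Subgroup G))) (y := ⟨y, hy⟩) (z := ⟨z, hz⟩)
      (fun h => hx1 (congrArg Subtype.val h)) (fun h => hy1 (congrArg Subtype.val h))
      (fun h => hxy (congrArg Subtype.val h))
      (fun h => hz1 (congrArg Subtype.val h)) (fun h => hzx (congrArg Subtype.val h))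
      (fun h => hzy (congrArg Subtype.val h))
    exact congrArg Subtype.val this
  have hsq : ∀ x ∈ (T : Subgroup G), x * x = 1 := by
    intro x hx
    exact congrArg Subtype.val (IsKleinFour.mul_self (⟨x, hx⟩ : (T : Subgroup G)))
  -- commuting with one involution of `T` is impossible
  have hne : ∀ x ∈ (T : Subgroup G), x ≠ 1 → n * x ≠ x * n := by
    intro x hx hx1 hnx
    apply hnC
    rw [hC, mem_centralizer_iff]
    intro w hw
    by_cases hw1 : w = 1
    · rw [hw1, one_mul, mul_one]
    by_cases hwx : w = x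
    · rw [hwx]; exact hnx.symm
    have h4 := hconj w hw
    have h5 : n * w * n⁻¹ ≠ 1 := by
      intro h; apply hw1
      have : w = n⁻¹ * (n * w * n⁻¹) * n := by group
      rw [this, h]; group
    have h6 : n * w * n⁻¹ ≠ x := by
      intro h; apply hwx
      have : w = n⁻¹ * (n * w * n⁻¹) * n := by group
      rw [this, h, mul_assoc, ← hnx]; group
    by_cases h7 : n * w * n⁻¹ = w
    · calc w * n = (n * w * n⁻¹) * n := by rw [h7]
        _ = n * w := by group
    exfalso
    have h8 : n * w * n⁻¹ = w * x := hmul w hw x hx _ h4 hw1 hx1 hwx h5 h7 h6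
    have h9 : (n * n) * w = w * (n * n) := by
      have h10 : n * w = w * x * n := by rw [← h8]; group
      calc (n * n) * w = n * (n * w) := by group
        _ = n * (w * x * n) := by rw [h10]
        _ = (n * w) * x * n := by group
        _ = (w * x * n) * x * n := by rw [h10]
        _ = w * x * (n * x) * n := by group
        _ = w * (x * x) * (n * n) := by rw [hnx]; group
        _ = w * (n * n) := by rw [hsq x hx, mul_one]
    have h10 : n * w = w * n := by
      have h11 := hcomm3 w hw
      have h12 : n * ((n * n) * w) = w * n * (n * n) := by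
        calc n * ((n * n) * w) = (n * n * n) * w := by group
          _ = w * (n * n * n) := h11
          _ = w * n * (n * n) := by group
      rw [h9, ← mul_assoc] at h12
      exact mul_right_cancel h12
    apply h7
    rw [h10]; group
  by_cases hvu : v = u
  · exact ⟨1, by rw [hvu]; group⟩
  set w := n * u * n⁻¹ with hw
  have hwT : w ∈ (T : Subgroup G) := hconj u hu
  have hw1 : w ≠ 1 := by
    intro h; apply hu1
    have : u = n⁻¹ * w * n := by rw [hw]; group
    rw [this, h]; group
  have hwu : w ≠ u := by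
    intro h
    apply hne u hu hu1
    calc n * u = w * n := by rw [hw]; group
      _ = u * n := by rw [h]
  by_cases hvw : v = w
  · exact ⟨n, by rw [hvw]⟩
  have hv' : v = u * w := hmul u hu w hwT v hv hu1 hw1 hwu.symm hv1 hvu hvw
  set w2 := n * w * n⁻¹ with hw2
  have hw2T : w2 ∈ (T : Subgroup G) := hconj w hwT
  have hw21 : w2 ≠ 1 := by
    intro h; apply hw1
    have : w = n⁻¹ * w2 * n := by rw [hw2]; group
    rw [this, h]; group
  have hw2w : w2 ≠ w := by
    intro h
    apply hne w hwT hw1
    calc n * w = w2 * n := by rw [hw2]; group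
      _ = w * n := by rw [h]
  have hw2u : w2 ≠ u := by
    intro h
    apply hne u hu hu1
    have h4 : (n * n) * u = u * (n * n) := by
      calc (n * n) * u = w2 * (n * n) := by rw [hw2, hw]; group
        _ = u * (n * n) := by rw [h]
    have h11 := hcomm3 u hu
    have h12 : n * ((n * n) * u) = u * n * (n * n) := by
      calc n * ((n * n) * u) = (n * n * n) * u := by group
        _ = u * (n * n * n) := h11
        _ = u * n * (n * n) := by group
    rw [h4, ← mul_assoc] at h12
    exact mul_right_cancel h12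
  have h5 : w2 = u * w := hmul u hu w hwT w2 hw2T hu1 hw1 hwu.symm hw21 hw2u hw2w
  refine ⟨(n * n), ?_⟩
  rw [hv', ← h5, hw2, hw]; group

/-- If `|G|` is even and not divisible by `8`, all involutions of the simple group `G` are
conjugate. -/
theorem isConj (hG : ¬ IsMulCommutative G)
    (h8 : ¬ 8 ∣ Nat.card G) {u v : G} (hu : orderOf u = 2) (hv : orderOf v = 2) :
    ∃ g : G, g * u * g⁻¹ = v := by
  have h2 : 2 ∣ Nat.card G := hu ▸ orderOf_dvd_natCard u
  have : Fact (Nat.Prime 2) := ⟨Nat.prime_two⟩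
  let T : Sylow 2 G := default
  obtain ⟨a, ha⟩ := exists_conj_mem_sylow T hu
  obtain ⟨b, hb⟩ := exists_conj_mem_sylow T hv
  have h1 : ∀ (x g : G), orderOf x = 2 → g * x * g⁻¹ ≠ 1 := by
    intro x g hx h
    have : x = 1 := by
      have h3 : x = g⁻¹ * (g * x * g⁻¹) * g := by group
      rw [h3, h]; group
    rw [this, orderOf_one] at hx
    omega
  obtain ⟨c, hc⟩ := isConj_of_mem hG h2 h8 T ha hb (h1 _ _ hu) (h1 _ _ hv)
  refine ⟨b⁻¹ * c * a, ?_⟩
  calc b⁻¹ * c * a * u * (b⁻¹ * c * a)⁻¹ = b⁻¹ * (c * (a * u * a⁻¹) * c⁻¹) * b := by group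
    _ = v := by rw [hc]; group

/-- Conjugate elements have centralizers of the same order. -/
theorem card_centralizer_conj {G : Type*} [Group G] (u g : G) :
    Nat.card (centralizer ({g * u * g⁻¹} : Set G)) = Nat.card (centralizer ({u} : Set G)) := by
  apply Nat.card_congr
  refine
    { toFun := fun x => ⟨g⁻¹ * x * g, ?_⟩
      invFun := fun x => ⟨g * x * g⁻¹, ?_⟩
      left_inv := fun x => Subtype.ext (by simp only []; group)
      right_inv := fun x => Subtype.ext (by simp only []; group) }
  · have h := (mem_centralizer_singleton_iff.1 x.2)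
    rw [mem_centralizer_singleton_iff]
    calc g⁻¹ * (x : G) * g * u = g⁻¹ * ((x : G) * (g * u * g⁻¹)) * g := by group
      _ = g⁻¹ * ((g * u * g⁻¹) * (x : G)) * g := by rw [h]
      _ = u * (g⁻¹ * (x : G) * g) := by group
  · have h := (mem_centralizer_singleton_iff.1 x.2)
    rw [mem_centralizer_singleton_iff]
    calc g * (x : G) * g⁻¹ * (g * u * g⁻¹) = g * ((x : G) * u) * g⁻¹ := by group
      _ = g * (u * (x : G)) * g⁻¹ := by rw [h]
      _ = g * u * g⁻¹ * (g * (x : G) * g⁻¹) := by group

end Cfsg.Agent.SmallSimple.InvolFour
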