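import Mathlib
set_option linter.all false

/-!
# Carmichael's presentation of the alternating groups

If `x i ^ 3 = 1` and `(x i * x j) ^ 2 = 1` for `i ≠ j`, then `n` of the elements `x i` generate a group
of order at most `(n + 2)! / 2`.  (In the alternating group take `x i = (i, n + 1, n + 2)`.)
-/

set_option autoImplicit false

namespace Cfsg.Agent.SmallSimple.Carmichael

open scoped Pointwise

variable {G : Type*} [Group G] {ι : Type*} [DecidableEq ι]

/-- One step of the coset enumeration in Carmichael's presentation. -/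
theorem relIndex_le (x : ι → G) (h3 : ∀ i, x i ^ 3 = 1)
    (h2 : ∀ i j, i ≠ j → (x i * x j) ^ 2 = 1) (I : Finset ι) (j : ι) (hj : j ∉ I) :
    (Subgroup.closure (x '' (I : Set ι))).relIndex
      (Subgroup.closure (x '' ((insert j I : Finset ι) : Set ι))) ≤ I.card + 3 ∧
    (Subgroup.closure (x '' (I : Set ι))).relIndex
      (Subgroup.closure (x '' ((insert j I : Finset ι) : Set ι))) ≠ 0 := by
  classical
  set H := Subgroup.closure (x '' (I : Set ι)) with hH
  set K := Subgroup.closure (x '' ((insert j I : Finset ι) : Set ι)) with hK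
  set y := x j with hy
  have hmem : ∀ i ∈ I, x i ∈ H := fun i hi => Subgroup.subset_closure ⟨i, hi, rfl⟩
  have hinv : ∀ i, (x i)⁻¹ = x i * x i := by
    intro i
    rw [inv_eq_iff_mul_eq_one, ← h3 i, pow_succ, pow_two, mul_assoc]
  have hyxy : ∀ i k, i ≠ k → x i * x k * x i = (x k)⁻¹ := by
    intro i k hik
    rw [eq_inv_iff_mul_eq_one, ← h2 i k hik, pow_two, ← mul_assoc]
  -- the cosets
  set q0 : G ⧸ H := ((1 : G) : G ⧸ H) with hq0
  have hfix : ∀ g ∈ H, g • q0 = q0 := by
    intro g hg
    show ((g * 1 : G) : G ⧸ H) = ((1 : G) : G ⧸ H)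
    rw [QuotientGroup.eq]
    simpa using hg
  set q1 : G ⧸ H := y • q0 with hq1
  set q2 : G ⧸ H := y⁻¹ • q0 with hq2
  have hyq1 : y • q1 = q2 := by
    rw [hq1, hq2, hinv j, mul_smul]
  have hyq2 : y • q2 = q0 := by
    rw [hq2, smul_inv_smul]
  have hxq1 : ∀ i ∈ I, x i • q1 = q2 := by
    intro i hi
    have hij : j ≠ i := fun h => hj (h ▸ hi)
    rw [hq1, hq2, eq_inv_smul_iff, ← mul_smul, ← mul_smul, hyxy j i hij]
    exact hfix _ (H.inv_mem (hmem i hi))
  -- the coset `c i`
  have hc : ∀ i ∈ I, x i • q2 = (x i)⁻¹ • q1 := by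
    intro i hi
    rw [← hxq1 i hi, hinv i, mul_smul]
  have hxc : ∀ i ∈ I, x i • (x i • q2) = q1 := by
    intro i hi
    rw [hc i hi, smul_inv_smul]
  have hkc : ∀ i ∈ I, ∀ k ∈ I, k ≠ i → x k • (x i • q2) = x i • q2 := by
    intro i hi k hk hki
    calc x k • (x i • q2) = x k • (x i • (x k • q1)) := by rw [hxq1 k hk]
      _ = (x k * x i * x k) • q1 := by rw [← mul_smul, ← mul_smul, mul_assoc]
      _ = (x i)⁻¹ • q1 := by rw [hyxy k i hki]
      _ = x i • q2 := (hc i hi).symm
  have hyc : ∀ i ∈ I, y • (x i • q2) = x i • q2 := by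
    intro i hi
    have hij : j ≠ i := fun h => hj (h ▸ hi)
    calc y • (x i • q2) = y • (x i • (y • q1)) := by rw [hyq1]
      _ = (y * x i * y) • q1 := by rw [← mul_smul, ← mul_smul, mul_assoc]
      _ = (x i)⁻¹ • q1 := by rw [hyxy j i hij]
      _ = x i • q2 := (hc i hi).symm
  set S : Finset (G ⧸ H) := {q0, q1, q2} ∪ I.image (fun i => x i • q2) with hS
  have hScard : S.card ≤ I.card + 3 := by
    calc S.card ≤ ({q0, q1, q2} : Finset (G ⧸ H)).card + (I.image (fun i => x i • q2)).card :=
          Finset.card_union_le _ _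
      _ ≤ 3 + I.card := Nat.add_le_add (Finset.card_le_three) (Finset.card_image_le)
      _ = I.card + 3 := add_comm _ _
  have hmemS : ∀ q, q ∈ (S : Set (G ⧸ H)) ↔
      (q = q0 ∨ q = q1 ∨ q = q2) ∨ ∃ i ∈ I, x i • q2 = q := by
    intro q
    simp only [hS, Finset.coe_union, Finset.coe_insert, Finset.coe_singleton, Finset.coe_image,
      Set.mem_union, Set.mem_insert_iff, Set.mem_singleton_iff, Set.mem_image, Finset.mem_coe]
  have hclosed : ∀ k ∈ insert j I, ∀ q ∈ (S : Set (G ⧸ H)), x k • q ∈ (S : Set (G ⧸ H)) := by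
    intro k hk q hq
    rw [hmemS] at hq ⊢
    rcases Finset.mem_insert.1 hk with rfl | hkI
    · rcases hq with (rfl | rfl | rfl) | ⟨i, hi, rfl⟩
      · exact Or.inl (Or.inr (Or.inl rfl))
      · exact Or.inl (Or.inr (Or.inr hyq1))
      · exact Or.inl (Or.inl hyq2)
      · exact Or.inr ⟨i, hi, (hyc i hi).symm⟩
    · rcases hq with (rfl | rfl | rfl) | ⟨i, hi, rfl⟩
      · exact Or.inl (Or.inl (hfix _ (hmem k hkI)))
      · exact Or.inl (Or.inr (Or.inr (hxq1 k hkI)))
      · exact Or.inr ⟨k, hkI, rfl⟩
      · by_cases hki : k = i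
        · subst hki
          exact Or.inl (Or.inr (Or.inl (hxc k hi)))
        · exact Or.inr ⟨i, hi, (hkc i hi k hkI hki).symm⟩
  have hKS : K ≤ MulAction.stabilizer G (S : Set (G ⧸ H)) := by
    rw [hK, Subgroup.closure_le]
    rintro _ ⟨k, hk, rfl⟩
    rw [SetLike.mem_coe, MulAction.mem_stabilizer_set_iff_smul_set_subset S.finite_toSet]
    rintro _ ⟨q, hq, rfl⟩
    exact hclosed k hk q hq
  have horb : MulAction.orbit K q0 ⊆ (S : Set (G ⧸ H)) := by
    rintro _ ⟨g, rfl⟩
    have h1 := hKS g.2
    rw [MulAction.mem_stabilizer_iff] at h1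
    have h2 : q0 ∈ (S : Set (G ⧸ H)) := by rw [hmemS]; exact Or.inl (Or.inl rfl)
    rw [← h1]
    exact Set.smul_mem_smul_set h2
  have hstab : MulAction.stabilizer K q0 = H.subgroupOf K := by
    ext g
    rw [MulAction.mem_stabilizer_iff, Subgroup.mem_subgroupOf]
    constructor
    · intro hg
      have : (((g : G) * 1 : G) : G ⧸ H) = ((1 : G) : G ⧸ H) := hg
      rw [QuotientGroup.eq] at this
      simpa using this
    · intro hg
      exact hfix _ hg
  have hidx : H.relIndex K = (MulAction.orbit K q0).ncard := by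
    rw [Subgroup.relIndex, ← hstab, MulAction.index_stabilizer]
  rw [hidx]
  constructor
  · calc (MulAction.orbit K q0).ncard ≤ (S : Set (G ⧸ H)).ncard :=
          Set.ncard_le_ncard horb S.finite_toSet
      _ = S.card := Set.ncard_coe_finset S
      _ ≤ I.card + 3 := hScard
  · exact Set.ncard_ne_zero_of_mem (MulAction.mem_orbit_self q0) (S.finite_toSet.subset horb)

/-- `n` elements satisfying Carmichael's relations generate a group of order at most
`(n + 2)! / 2`. -/
theorem card_le (x : ι → G) (h3 : ∀ i, x i ^ 3 = 1)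
    (h2 : ∀ i j, i ≠ j → (x i * x j) ^ 2 = 1) (I : Finset ι) :
    Nat.card (Subgroup.closure (x '' (I : Set ι))) * 2 ≤ (I.card + 2).factorial ∧
      Finite (Subgroup.closure (x '' (I : Set ι))) := by
  induction I using Finset.induction_on with
  | empty =>
    simp only [Finset.coe_empty, Set.image_empty, Subgroup.closure_empty, Finset.card_empty]
    constructor
    · rw [Subgroup.card_bot]; decide
    · infer_instance
  | insert j I hj ih =>
    obtain ⟨ih1, ih2⟩ := ih
    obtain ⟨h4, h5⟩ := relIndex_le x h3 h2 I j hj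
    have hle : Subgroup.closure (x '' (I : Set ι)) ≤
        Subgroup.closure (x '' ((insert j I : Finset ι) : Set ι)) :=
      Subgroup.closure_mono (Set.image_mono (by simp))
    have hmul : Nat.card (Subgroup.closure (x '' (I : Set ι))) *
        (Subgroup.closure (x '' (I : Set ι))).relIndex
          (Subgroup.closure (x '' ((insert j I : Finset ι) : Set ι))) =
        Nat.card (Subgroup.closure (x '' ((insert j I : Finset ι) : Set ι))) := by
      rw [← Subgroup.relIndex_bot_left, ← Subgroup.relIndex_bot_left]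
      exact Subgroup.relIndex_mul_relIndex _ _ _ bot_le hle
    constructor
    · rw [← hmul, Finset.card_insert_of_notMem hj]
      calc Nat.card (Subgroup.closure (x '' (I : Set ι))) *
            (Subgroup.closure (x '' (I : Set ι))).relIndex
              (Subgroup.closure (x '' ((insert j I : Finset ι) : Set ι))) * 2
          = (Nat.card (Subgroup.closure (x '' (I : Set ι))) * 2) *
            (Subgroup.closure (x '' (I : Set ι))).relIndex
              (Subgroup.closure (x '' ((insert j I : Finset ι) : Set ι))) := by ring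
        _ ≤ (I.card + 2).factorial * (I.card + 3) := Nat.mul_le_mul ih1 h4
        _ = (I.card + 1 + 2).factorial := by
            rw [show I.card + 1 + 2 = (I.card + 2) + 1 from rfl, Nat.factorial_succ (I.card + 2),
              mul_comm]
    · apply Nat.finite_of_card_ne_zero
      rw [← hmul]
      exact Nat.mul_ne_zero Nat.card_pos.ne' h5

end Cfsg.Agent.SmallSimple.Carmichael
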