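import Cfsg.Agent.SmallSimple.DegreeData
import Cfsg.Agent.SmallSimple.DegreeSearch
set_option linter.all false

/-!
# Degrees of the principal block by kernel computation

`BlockData.degs_check` : to prove `P D.degs = true` for the sorted list of signed degrees of the
nontrivial nonexceptional characters of the principal `p`-block, evaluate `kcheck`.
-/

set_option autoImplicit false

open Cfsg

namespace Cfsg.Agent.SmallSimple.DegreeCheck

open Subgroup
open Cfsg.Agent.SmallSimple.DegreeData Cfsg.Agent.SmallSimple.DegreeSearch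

universe u

/-- The complete Boolean check. `L` = factorization of `|G|`, `n = |G|`; `F`, `FX` = filters for the
signed degrees of nonexceptional, exceptional characters; `C`, `Ds` = candidates (sorted);
`o` = offset (`≡ -1 mod p`, `≥ -min C`); `M`, `wt`, `V` = additional linear constraint `∑ wt = V`
(take `M = 0` for none, otherwise `M` larger than all sums); `w` = size of the bit masks. -/
def kcheck (p e t n : ℕ) (L : List (ℕ × ℕ)) (F FX : ℤ → Bool) (C Ds : List ℤ) (o : ℤ)
    (w M : ℕ) (wt : ℤ → ℕ) (V : ℕ) (P : List ℤ → Bool) : Bool :=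
  (signed p 1 (divs L)).all (fun z => !F z || C.contains z) &&
  ((signed p (e % p) (divs L)).all (fun z => !FX z || Ds.contains z) &&
  (C.all (fun z => decide ((z + o) % p = 0) && decide (0 ≤ z + o)) &&
  check w (e - 1) (aff p o M wt) P C
    (Ds.map fun D => (((D - 1 + (e - 1 : ℕ) * o) / p).toNat + M * V, n - 1 - t * D.natAbs ^ 2))))

/-- For scratch use only (to be evaluated outside the library): the list of all solutions. -/
def find (k : ℕ) (C Ds : List ℤ) (B : ℕ) (t : ℕ) (test : List ℤ → Bool) : List (List ℤ) :=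
  Ds.flatMap fun D => (go (B - 1 - t * D.natAbs ^ 2) C k (D - 1)).filter test
where
  /-- the recursion -/
  go (B : ℕ) : List ℤ → ℕ → ℤ → List (List ℤ)
    | [], k, s => if k = 0 ∧ s = 0 then [[]] else []
    | c :: C, k, s => (List.range (k + 1)).flatMap fun m =>
      if m * c.natAbs ^ 2 ≤ B then
        (go (B - m * c.natAbs ^ 2) C (k - m) (s - m * c)).map (List.replicate m c ++ ·)
      else []

theorem degs_check {G : Type u} [Group G] [Finite G] {p : ℕ} [hp : Fact p.Prime] {M' : Ideal AlgInt}
    {P' : Sylow p G} {e t : ℕ} (D : BlockData p M' P' e t) (hP : Nat.card P' = p)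
    (ht : e * t = p - 1) {n : ℕ} (hn : Nat.card G = n) {L : List (ℕ × ℕ)}
    (hL : ∀ x ∈ L, x.1.Prime) (hLn : (L.map fun x => x.1 ^ x.2).prod = n)
    {F FX : ℤ → Bool} (hF : ∀ z ∈ D.degs, F z = true) (hFX : FX D.dexc = true)
    {C Ds : List ℤ} (hC : C.Pairwise (· < ·)) {o : ℤ} {w M : ℕ} {wt : ℤ → ℕ} {V : ℕ}
    (hV : M = 0 ∨ (D.degs.map wt).sum = V) {P : List ℤ → Bool}
    (h : kcheck p e t n L F FX C Ds o w M wt V P = true) : P D.degs = true := by
  have hpp := hp.out
  rw [kcheck, Bool.and_eq_true, Bool.and_eq_true, Bool.and_eq_true] at h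
  obtain ⟨h1, h2, h3, h4⟩ := h
  have hmem : ∀ z ∈ D.degs, z ∈ C := by
    intro z hz
    obtain ⟨a1, a2, a3⟩ := D.degs_spec hP z hz
    rw [hn, ← hLn] at a2
    exact mem_of_all hpp.one_lt hL h1 a1 a2 (hF z hz)
  have hdexc : D.dexc ∈ Ds := by
    have a1 := D.dexc_modEq hP ht
    have a2 : D.dexc.natAbs ∣ Nat.card G := by rw [D.natAbs_dexc]; exact D.f_dvd ht
    rw [hn, ← hLn] at a2
    refine mem_of_all (Nat.mod_lt _ hpp.pos) hL h2 ?_ a2 hFX
    refine a1.trans ?_
    push_cast
    exact (Int.mod_modEq _ _).symm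
  have hl : D.degs.length = e - 1 := by
    have := D.length_degs
    omega
  refine check_spec h4 hC hl D.degs_sorted hmem ⟨_, List.mem_map.2 ⟨D.dexc, hdexc, rfl⟩, ?_, ?_⟩
  · rw [sum_aff hpp.pos]
    · have e1 : D.degs.sum = D.dexc - 1 := by rw [← D.dexc_eq ht]; ring
      rw [e1, hl]
      rcases hV with rfl | hV
      · simp
      · rw [hV]
    · intro z hz
      rw [List.all_eq_true] at h3
      have := h3 z (hmem z hz)
      rw [Bool.and_eq_true, decide_eq_true_eq, decide_eq_true_eq] at this
      exact ⟨Int.dvd_of_emod_eq_zero this.1, this.2⟩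
  · have h5 := D.sum_sq_le
    rw [hn] at h5
    have e1 : (D.degs.map (· ^ 2)).sum = (((D.degs.map fun z => z.natAbs ^ 2).sum : ℕ) : ℤ) := by
      generalize D.degs = l
      induction l with
      | nil => simp
      | cons x l ih => rw [List.map_cons, List.map_cons, List.sum_cons, List.sum_cons, ih]
                       push_cast; rw [sq_abs]
    rw [e1] at h5
    rw [D.natAbs_dexc]
    have h6 : (1 + (D.degs.map fun z => z.natAbs ^ 2).sum + t * D.f ^ 2 : ℕ) ≤ n := by
      exact_mod_cast h5
    change (D.degs.map fun z => z.natAbs ^ 2).sum ≤ n - 1 - t * D.f ^ 2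
    omega

/-- Example of use: groups of order `7920`, `p = 11`. -/
theorem example_7920 {G : Type*} [Group G] [Finite G] {M : Ideal AlgInt} (P : Sylow 11 G)
    [Fact (Nat.Prime 11)] (D : BlockData 11 M P 5 2) (hP : Nat.card P = 11)
    (hn : Nat.card G = 7920) (h3 : ∀ z ∈ D.degs, decide (3 ≤ z.natAbs) = true) :
    D.degs = [-10, -10, 12, 12] ∨ D.degs = [-10, -10, -10, 45] := by
  have := degs_check D hP rfl hn (L := [(2, 4), (3, 2), (5, 1), (11, 1)]) (by norm_num)
    (by norm_num) (F := fun z => decide (3 ≤ z.natAbs)) (FX := fun _ => true)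
    (C := [-120, -10, 12, 45, 144]) (Ds := [-720, -72, -6, 5, 16, 60, 720]) h3 rfl (by decide)
    (o := 131) (w := 1000) (M := 0) (wt := fun _ => 0) (V := 0) (Or.inl rfl)
    (P := fun l => [[-10, -10, 12, 12], [-10, -10, -10, 45]].contains l) (by decide +kernel)
  simpa using this

end Cfsg.Agent.SmallSimple.DegreeCheck
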