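import Cfsg.Agent.SmallSimple.TheoremBCor
import Cfsg.Agent.SmallSimple.InvolColumn
import Cfsg.Agent.SmallSimple.PrimeLocal
import Cfsg.Agent.M23.Block
set_option linter.all false

/-!
# The averaged class multiplication formula

`P` a Sylow subgroup of prime order `p`, `C(P) = P × V`.

* `AvgFormula.vanish`: `∑_{y ∈ V} χ(x y) = 0` for `1 ≠ x ∈ P` and `χ` outside the principal block;
* `AvgFormula.avg`: the number of `(u, v, y)`, `u ∼ a`, `v ∼ b`, `y ∈ V`, `u v = x y`, is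
  `|a^G| |b^G| |V| / |G| (∑ ε χ(a) χ(b) / χ(1) - d Θ(a) Θ(b) / Θ(1))` for `p`-regular `a`, `b`;
* `AvgCount.exists_count` (next file): for involutions this number is `p k(a) k(b)`, where
  `k(a) ≤ 1` if `V = 1` and `k = 0` if `|N(P) : C(P)|` is odd.
-/

set_option autoImplicit false
set_option linter.unusedSectionVars false

namespace Cfsg.Agent.SmallSimple.AvgFormula

open Cfsg Subgroup Cfsg.Agent.Characters.Core
open scoped ComplexConjugate

universe u
variable {G : Type u} [Group G]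

/-- `V` is the normal `p`-complement of the centralizer of `P`. -/
structure Compl (p : ℕ) (P V : Subgroup G) : Prop where
  card : Nat.card (centralizer (P : Set G)) = p * Nat.card V
  cop : p.Coprime (Nat.card V)
  mem : ∀ x, x ∈ V ↔ x ∈ centralizer (P : Set G) ∧ x ^ Nat.card V = 1

theorem exists_compl [Finite G] {p : ℕ} [hp : Fact p.Prime] (P : Sylow p G) (hP : Nat.card P = p) :
    ∃ V : Subgroup G, Compl p (P : Subgroup G) V := by
  have hcop : (Nat.card (P : Subgroup G)).Coprime (P : Subgroup G).index := P.card_coprime_index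
  have hab : ∀ x ∈ (P : Subgroup G), ∀ y ∈ (P : Subgroup G), x * y = y * x := by
    intro x hx y hy
    have := PrimeDual.comm_of_card hp.out (Q := (P : Subgroup G)) hP ⟨x, hx⟩ ⟨y, hy⟩
    exact congrArg Subtype.val this
  obtain ⟨K, h1, h2, h3⟩ := PrimeLocal.exists_complement (P : Subgroup G) hab hcop
  have hP' : Nat.card (P : Subgroup G) = p := hP
  rw [hP'] at h1 h2
  exact ⟨K, h1, h2, h3⟩

namespace Compl

variable {p : ℕ} {P V : Subgroup G}

theorem le (h : Compl p P V) : V ≤ centralizer (P : Set G) := fun _ hx => ((h.mem _).1 hx).1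

theorem comm (h : Compl p P V) {x y : G} (hx : x ∈ P) (hy : y ∈ V) : Commute x y :=
  mem_centralizer_iff.1 (h.le hy) x hx

theorem conj_mem (h : Compl p P V) {g y : G} (hg : g ∈ centralizer (P : Set G)) (hy : y ∈ V) :
    g * y * g⁻¹ ∈ V := by
  rw [h.mem]
  refine ⟨mul_mem (mul_mem hg (h.le hy)) (inv_mem hg), ?_⟩
  rw [conj_pow, ((h.mem y).1 hy).2, mul_one, mul_inv_cancel]

/-- An exponent that is `1` modulo `p` and `0` modulo `|V|`. -/
theorem exists_exponent [Finite G] (h : Compl p P V) (_hp : p.Prime) :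
    ∃ k : ℕ, k ≡ 1 [MOD p] ∧ Nat.card V ∣ k := by
  obtain ⟨k, h1, h2⟩ := Nat.chineseRemainder h.cop 1 0
  exact ⟨k, h1, (Nat.modEq_zero_iff_dvd).1 h2⟩

theorem not_dvd_orderOf [Finite G] (h : Compl p P V) (hp : p.Prime) {y : G} (hy : y ∈ V) :
    ¬ p ∣ orderOf y := by
  intro hd
  have h1 : orderOf y ∣ Nat.card V := orderOf_dvd_of_pow_eq_one ((h.mem y).1 hy).2
  exact (Nat.Prime.coprime_iff_not_dvd hp).1 h.cop (hd.trans h1)

end Compl

section Count

variable [Finite G] {p : ℕ} [hp : Fact p.Prime] {P V : Subgroup G}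

theorem orderOf_eq (hP : Nat.card P = p) {x : G} (hx : x ∈ P) (hx1 : x ≠ 1) : orderOf x = p := by
  have h1 : orderOf x ∣ p := by
    have := orderOf_dvd_natCard (⟨x, hx⟩ : P)
    rw [hP] at this
    simpa using this
  rcases (Nat.dvd_prime hp.out).1 h1 with h | h
  · exact absurd (orderOf_eq_one_iff.1 h) hx1
  · exact h

theorem mem_centralizer_iff_comm (hP : Nat.card P = p) {x : G} (hx : x ∈ P) (hx1 : x ≠ 1) {g : G} :
    g ∈ centralizer (P : Set G) ↔ g * x * g⁻¹ = x := by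
  have h1 := InvolColumn.zpowers_eq_of_card_prime hp.out hP x hx hx1
  constructor
  · intro hg
    rw [← mem_centralizer_iff.1 hg x hx, mul_inv_cancel_right]
  · intro hg
    have h2 : g * x = x * g := by
      rw [← mul_inv_eq_iff_eq_mul]; exact hg
    rw [mem_centralizer_iff]
    intro z hz
    have hz' : z ∈ P := hz
    rw [h1] at hz'
    obtain ⟨k, rfl⟩ := mem_zpowers_iff.1 hz'
    exact (Commute.zpow_left (show Commute x g from h2.symm) k)

/-- `(x y)^k = x` for a suitable exponent independent of `y ∈ V`. -/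
theorem exists_pow_eq (h : Compl p P V) (hP : Nat.card P = p) :
    ∃ k : ℕ, ∀ x ∈ P, ∀ y ∈ V, (x * y) ^ k = x := by
  obtain ⟨k, h1, h2⟩ := h.exists_exponent hp.out
  refine ⟨k, fun x hx y hy => ?_⟩
  rw [(h.comm hx hy).mul_pow]
  obtain ⟨m, hm⟩ := h2
  have h3 : y ^ k = 1 := by rw [hm, pow_mul, ((h.mem y).1 hy).2, one_pow]
  rw [h3, mul_one]
  by_cases hx1 : x = 1
  · rw [hx1, one_pow]
  · have h4 := orderOf_eq hP hx hx1
    have h5 : x ^ k = x ^ 1 := by
      rw [pow_eq_pow_iff_modEq, h4]; exact h1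
    rw [h5, pow_one]

theorem conj_mem_coset_iff (h : Compl p P V) (hP : Nat.card P = p) {x : G} (hx : x ∈ P)
    (hx1 : x ≠ 1) {y : G} (hy : y ∈ V) (g : G) :
    (∃ z ∈ V, g * (x * y) * g⁻¹ = x * z) ↔ g ∈ centralizer (P : Set G) := by
  constructor
  · rintro ⟨z, hz, hg⟩
    obtain ⟨k, hk⟩ := exists_pow_eq h hP
    rw [mem_centralizer_iff_comm hP hx hx1]
    have h1 := congrArg (· ^ k) hg
    simp only [conj_pow, hk x hx y hy, hk x hx z hz] at h1
    exact h1
  · intro hg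
    refine ⟨g * y * g⁻¹, h.conj_mem hg hy, ?_⟩
    have h1 := (mem_centralizer_iff_comm hP hx hx1).1 hg
    calc g * (x * y) * g⁻¹ = (g * x * g⁻¹) * (g * y * g⁻¹) := by group
      _ = x * (g * y * g⁻¹) := by rw [h1]

/-- Column orthogonality as a count. -/
theorem sum_irr_eq_card [Fintype (IrrCharacter G)] (a b : G) :
    ∑ χ : IrrCharacter G, (χ : G → ℂ) a * conj ((χ : G → ℂ) b) =
      (Nat.card {g : G // g * b * g⁻¹ = a} : ℂ) := by
  classical
  have := Fintype.ofFinite G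
  rw [S0145.sum_irr_mul_conj a b]
  split_ifs with hab
  · obtain ⟨c, hc⟩ := isConj_iff.1 hab.symm
    congr 1
    refine Nat.card_congr
      { toFun := fun g => ⟨c * g, ?_⟩
        invFun := fun g => ⟨c⁻¹ * g, ?_⟩
        left_inv := fun g => Subtype.ext (by simp)
        right_inv := fun g => Subtype.ext (by simp) }
    · have h1 : (g : G) * b = b * g := (mem_centralizer_singleton_iff.1 g.2)
      rw [← hc, mul_inv_rev]
      calc c * (g : G) * b * ((g : G)⁻¹ * c⁻¹) = c * ((g : G) * b * (g : G)⁻¹) * c⁻¹ := by group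
        _ = c * b * c⁻¹ := by rw [h1, mul_inv_cancel_right]
    · rw [mem_centralizer_singleton_iff]
      have h1 : (g : G) * b * (g : G)⁻¹ = c * b * c⁻¹ := g.2.trans hc.symm
      have h2 : (c⁻¹ * (g : G)) * b * (c⁻¹ * (g : G))⁻¹ = b := by
        rw [mul_inv_rev, inv_inv]
        calc c⁻¹ * (g : G) * b * ((g : G)⁻¹ * c) = c⁻¹ * ((g : G) * b * (g : G)⁻¹) * c := by group
          _ = b := by rw [h1]; group
      exact mul_inv_eq_iff_eq_mul.1 h2
  · have : IsEmpty {g : G // g * b * g⁻¹ = a} :=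
      ⟨fun g => hab (isConj_iff.2 ⟨g.1, g.2⟩).symm⟩
    rw [Nat.card_of_isEmpty, Nat.cast_zero]

theorem sum_card_conj [Fintype V] (h : Compl p P V) (hP : Nat.card P = p) {x : G} (hx : x ∈ P)
    (hx1 : x ≠ 1) {y : G} (hy : y ∈ V) :
    ∑ z : V, Nat.card {g : G // g * (x * y) * g⁻¹ = x * z} =
      Nat.card (centralizer (P : Set G)) := by
  rw [← Nat.card_sigma]
  refine Nat.card_congr
    { toFun := fun g => ⟨g.2.1, (conj_mem_coset_iff h hP hx hx1 hy _).1 ⟨g.1, g.1.2, g.2.2⟩⟩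
      invFun := fun g => ⟨⟨g.1 * y * g.1⁻¹, h.conj_mem g.2 hy⟩, ⟨g.1, ?_⟩⟩
      left_inv := ?_
      right_inv := fun g => rfl }
  · have h1 := (mem_centralizer_iff_comm hP hx hx1).1 g.2
    calc g.1 * (x * y) * g.1⁻¹ = (g.1 * x * g.1⁻¹) * (g.1 * y * g.1⁻¹) := by group
      _ = x * (g.1 * y * g.1⁻¹) := by rw [h1]
  · rintro ⟨⟨z, hz⟩, ⟨g, hg⟩⟩
    have h2 : g ∈ centralizer (P : Set G) := (conj_mem_coset_iff h hP hx hx1 hy _).1 ⟨z, hz, hg⟩
    have h1 := (mem_centralizer_iff_comm hP hx hx1).1 h2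
    have h3 : g * y * g⁻¹ = z := by
      have h4 : x * (g * y * g⁻¹) = x * z := by
        rw [← hg]
        nth_rewrite 1 [← h1]
        group
      exact mul_left_cancel h4
    subst h3
    rfl

end Count

section Norm

variable [Finite G] {p : ℕ} [hp : Fact p.Prime] {V : Subgroup G} (P : Sylow p G)

theorem sum_sum_eq [Fintype V] [Fintype (IrrCharacter G)] (h : Compl p (P : Subgroup G) V)
    (hP : Nat.card P = p) {x : G} (hx : x ∈ P) (hx1 : x ≠ 1) :
    ∑ χ : IrrCharacter G, (∑ y : V, (χ : G → ℂ) (x * y)) * conj (∑ y : V, (χ : G → ℂ) (x * y)) =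
      (Nat.card V : ℂ) ^ 2 * p := by
  have h1 : ∀ χ : IrrCharacter G,
      (∑ y : V, (χ : G → ℂ) (x * y)) * conj (∑ y : V, (χ : G → ℂ) (x * y)) =
      ∑ z : V, ∑ y : V, (χ : G → ℂ) (x * y) * conj ((χ : G → ℂ) (x * z)) := by
    intro χ
    rw [map_sum, Finset.sum_mul_sum, Finset.sum_comm]
  rw [Finset.sum_congr rfl fun χ _ => h1 χ, Finset.sum_comm]
  have h2 : ∀ z : V, ∑ χ : IrrCharacter G, ∑ y : V,
      (χ : G → ℂ) (x * y) * conj ((χ : G → ℂ) (x * z)) = (p * Nat.card V : ℕ) := by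
    intro z
    rw [Finset.sum_comm, ← h.card, ← sum_card_conj h hP hx hx1 z.2, Nat.cast_sum]
    exact Finset.sum_congr rfl fun y _ => sum_irr_eq_card _ _
  rw [Finset.sum_congr rfl fun z _ => h2 z, Finset.sum_const, Finset.card_univ,
    ← Nat.card_eq_fintype_card]
  push_cast
  ring

theorem apply_mul_eq {M : Ideal AlgInt} (hM : IsPModular p M) (h : Compl p (P : Subgroup G) V)
    (hP : Nat.card P = p) {x : G} (hx : x ∈ P) (hx1 : x ≠ 1) {χ : IrrCharacter G}
    (hχ : χ ∈ principalBlock M G) {y : G} (hy : y ∈ V) :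
    (χ : G → ℂ) (x * y) = (χ : G → ℂ) x :=
  Blocks.CyclicOrtho.mul_eq P hP hM hx hx1 (h.comm hx hy) (h.not_dvd_orderOf hp.out hy) hχ

/-- Characters outside the principal block have zero sum on `x V`. -/
theorem vanish {M : Ideal AlgInt} (hM : IsPModular p M) [Fintype V]
    (h : Compl p (P : Subgroup G) V) (hP : Nat.card P = p) {x : G} (hx : x ∈ P) (hx1 : x ≠ 1)
    {χ : IrrCharacter G} (hχ : χ ∉ principalBlock M G) : ∑ y : V, (χ : G → ℂ) (x * y) = 0 := by
  classical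
  have hfin : Finite (IrrCharacter G) := finite_irr
  have := Fintype.ofFinite (IrrCharacter G)
  have h1 := sum_sum_eq P h hP hx hx1
  have h2 := Blocks.CyclicOrtho.gram P hP hM hx hx1 hx hx1
  rw [if_pos (IsConj.refl x)] at h2
  have h3 : ∑ᶠ χ ∈ principalBlock M G, (χ : G → ℂ) x * conj ((χ : G → ℂ) x) =
      ∑ χ : IrrCharacter G with χ ∈ principalBlock M G,
      (χ : G → ℂ) x * conj ((χ : G → ℂ) x) := Blocks.Orthogonality.finsum_mem_eq_sum_filter _ _
  rw [h3] at h2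
  have h4 : ∑ χ : IrrCharacter G with χ ∈ principalBlock M G,
      (∑ y : V, (χ : G → ℂ) (x * y)) * conj (∑ y : V, (χ : G → ℂ) (x * y)) =
      (Nat.card V : ℂ) ^ 2 * p := by
    rw [← h2, Finset.mul_sum]
    refine Finset.sum_congr rfl fun χ hχ => ?_
    rw [Finset.mem_filter] at hχ
    have h5 : ∑ y : V, (χ : G → ℂ) (x * y) = Nat.card V * (χ : G → ℂ) x := by
      rw [Finset.sum_congr rfl fun y _ => apply_mul_eq P hM h hP hx hx1 hχ.2 y.2,
        Finset.sum_const, Finset.card_univ, ← Nat.card_eq_fintype_card, nsmul_eq_mul]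
    rw [h5, map_mul, Complex.conj_natCast]
    ring
  rw [← Finset.sum_filter_add_sum_filter_not Finset.univ (fun χ => χ ∈ principalBlock M G), h4]
    at h1
  have h6 := left_eq_add.1 h1.symm
  have h7 : ∑ χ : IrrCharacter G with χ ∉ principalBlock M G,
      ‖∑ y : V, (χ : G → ℂ) (x * y)‖ ^ 2 = 0 := by
    have h8 : ((∑ χ : IrrCharacter G with χ ∉ principalBlock M G,
      ‖∑ y : V, (χ : G → ℂ) (x * y)‖ ^ 2 : ℝ) : ℂ) = 0 := by
      rw [← h6]
      push_cast
      exact Finset.sum_congr rfl fun χ _ => by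
        rw [Complex.mul_conj, Complex.normSq_eq_norm_sq]; push_cast; rfl
    exact_mod_cast h8
  have h9 := (Finset.sum_eq_zero_iff_of_nonneg fun _ _ => sq_nonneg _).1 h7 χ
    (Finset.mem_filter.2 ⟨Finset.mem_univ _, hχ⟩)
  exact norm_eq_zero.1 (pow_eq_zero_iff (two_ne_zero)|>.1 h9)

end Norm

section Avg

variable [Finite G] {p : ℕ} [hp : Fact p.Prime] {V : Subgroup G} {P : Sylow p G}

theorem card_triples [Fintype V] (a b x : G) :
    Nat.card {q : G × G × V // IsConj a q.1 ∧ IsConj b q.2.1 ∧ q.1 * q.2.1 = x * q.2.2} =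
      ∑ y : V, Nat.card {q : G × G // IsConj a q.1 ∧ IsConj b q.2 ∧ q.1 * q.2 = x * y} := by
  rw [← Nat.card_sigma]
  exact Nat.card_congr
    { toFun := fun q => ⟨q.1.2.2, ⟨(q.1.1, q.1.2.1), q.2⟩⟩
      invFun := fun q => ⟨(q.2.1.1, q.2.1.2, q.1), q.2.2⟩
      left_inv := fun _ => rfl
      right_inv := fun _ => rfl }

/-- The averaged formula for a sum over the principal block. -/
theorem card_mul_eq [Fintype V] [Fintype (IrrCharacter G)] {M : Ideal AlgInt}
    (hM : IsPModular p M) (h : Compl p (P : Subgroup G) V) (hP : Nat.card P = p) {x : G}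
    (hx : x ∈ P) (hx1 : x ≠ 1) {NE X : Finset (IrrCharacter G)} (hdisj : Disjoint NE X)
    (hmem : ∀ χ : IrrCharacter G, χ ∈ principalBlock M G ↔ χ ∈ NE ∨ χ ∈ X) (a b : G) :
    (Nat.card {q : G × G × V // IsConj a q.1 ∧ IsConj b q.2.1 ∧ q.1 * q.2.1 = x * q.2.2} : ℂ) *
      Nat.card G = (centralizer ({a} : Set G)).index * (centralizer ({b} : Set G)).index *
      Nat.card V * (∑ χ ∈ NE, (χ : G → ℂ) a * (χ : G → ℂ) b / (χ : G → ℂ) 1 *
        conj ((χ : G → ℂ) x) + ∑ χ ∈ X, (χ : G → ℂ) a * (χ : G → ℂ) b / (χ : G → ℂ) 1 *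
        conj ((χ : G → ℂ) x)) := by
  classical
  have hG0 : (Nat.card G : ℂ) ≠ 0 := by exact_mod_cast Nat.card_pos.ne'
  rw [card_triples, Nat.cast_sum]
  simp only [Cfsg.Agent.Characters.ClassMul.card_class_mul]
  rw [← Finset.mul_sum, Finset.sum_comm]
  have h1 : ∀ χ : IrrCharacter G, ∑ y : V, (χ : G → ℂ) a * (χ : G → ℂ) b *
      conj ((χ : G → ℂ) (x * y)) / (χ : G → ℂ) 1 =
      (χ : G → ℂ) a * (χ : G → ℂ) b / (χ : G → ℂ) 1 * conj (∑ y : V, (χ : G → ℂ) (x * y)) := by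
    intro χ
    rw [map_sum, Finset.mul_sum]
    exact Finset.sum_congr rfl fun y _ => by ring
  rw [Finset.sum_congr rfl fun χ _ => h1 χ]
  have h2 : ∑ χ : IrrCharacter G, (χ : G → ℂ) a * (χ : G → ℂ) b / (χ : G → ℂ) 1 *
      conj (∑ y : V, (χ : G → ℂ) (x * y)) =
      ∑ χ ∈ NE ∪ X, (χ : G → ℂ) a * (χ : G → ℂ) b / (χ : G → ℂ) 1 *
      conj (∑ y : V, (χ : G → ℂ) (x * y)) := by
    refine (Finset.sum_subset (Finset.subset_univ _) fun χ _ hχ => ?_).symm
    rw [Finset.mem_union] at hχ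
    rw [vanish P hM h hP hx hx1 (fun h3 => hχ ((hmem χ).1 h3)), map_zero, mul_zero]
  have h3 : ∀ χ ∈ NE ∪ X, (χ : G → ℂ) a * (χ : G → ℂ) b / (χ : G → ℂ) 1 *
      conj (∑ y : V, (χ : G → ℂ) (x * y)) = (Nat.card V : ℂ) *
      ((χ : G → ℂ) a * (χ : G → ℂ) b / (χ : G → ℂ) 1 * conj ((χ : G → ℂ) x)) := by
    intro χ hχ
    rw [Finset.mem_union] at hχ
    have h5 : ∑ y : V, (χ : G → ℂ) (x * y) = Nat.card V * (χ : G → ℂ) x := by
      rw [Finset.sum_congr rfl fun y _ => apply_mul_eq P hM h hP hx hx1 ((hmem χ).2 hχ) y.2,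
        Finset.sum_const, Finset.card_univ, ← Nat.card_eq_fintype_card, nsmul_eq_mul]
    rw [h5, map_mul, Complex.conj_natCast]
    ring
  rw [h2, Finset.sum_congr rfl h3, ← Finset.mul_sum, Finset.sum_union hdisj]
  field_simp

/-- The exceptional characters sum to `-d` at `x`. -/
theorem sum_exc {e t : ℕ} {M : Ideal AlgInt} {NE X : Finset (IrrCharacter G)}
    {ε : IrrCharacter G → ℤ} {d : ℤ} {S : IrrCharacter G → Finset (P →* ℂˣ)}
    (B : M23.Block.Blk p P e t M NE X ε d S) (hP : Nat.card P = p) {x : G}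
    (hx : x ∈ P) (hx1 : x ≠ 1) {Θ : IrrCharacter G} (hΘ : Θ ∈ X) :
    ∑ χ ∈ X, conj ((χ : G → ℂ) x) = -d := by
  classical
  have hfin : Finite (IrrCharacter G) := finite_irr
  have := Fintype.ofFinite (IrrCharacter G)
  have ho1 : ¬ p ∣ orderOf (1 : G) := by
    rw [orderOf_one]; exact fun h => hp.out.one_lt.ne' (Nat.dvd_one.1 h)
  have h1 := Blocks.CyclicOrtho.kernel_regular P hP B.modular hx hx1 ho1
  have h3 : ∑ᶠ χ ∈ principalBlock M G, (χ : G → ℂ) 1 * conj ((χ : G → ℂ) x) =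
      ∑ χ : IrrCharacter G with χ ∈ principalBlock M G,
      (χ : G → ℂ) 1 * conj ((χ : G → ℂ) x) := Blocks.Orthogonality.finsum_mem_eq_sum_filter _ _
  have h4 : (Finset.univ.filter fun χ : IrrCharacter G => χ ∈ principalBlock M G) = NE ∪ X := by
    ext χ
    simp only [Finset.mem_filter, Finset.mem_univ, true_and, Finset.mem_union]
    exact B.mem_iff χ
  rw [h3, h4, Finset.sum_union B.kb.disj] at h1
  have h5 : ∑ χ ∈ NE, (χ : G → ℂ) 1 * conj ((χ : G → ℂ) x) = d * (Θ : G → ℂ) 1 := by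
    rw [← B.kb.rel Θ hΘ 1 ho1]
    refine Finset.sum_congr rfl fun χ hχ => ?_
    have h6 := B.val_NE χ hχ x hx hx1 1 (one_mem _) ho1
    rw [mul_one] at h6
    rw [h6, map_intCast, mul_comm]
  have hd : (d : ℂ) ≠ 0 := by
    rcases B.kb.hd with h | h <;> rw [h] <;> norm_num
  have h7 : ∑ χ ∈ X, (χ : G → ℂ) 1 * conj ((χ : G → ℂ) x) =
      (Θ : G → ℂ) 1 * ∑ χ ∈ X, conj ((χ : G → ℂ) x) := by
    rw [Finset.mul_sum]
    refine Finset.sum_congr rfl fun χ hχ => ?_
    rw [mul_left_cancel₀ hd ((B.kb.rel χ hχ 1 ho1).symm.trans (B.kb.rel Θ hΘ 1 ho1))]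
  rw [h5, h7] at h1
  have h8 : (Θ : G → ℂ) 1 ≠ 0 := Cfsg.Agent.Blocks.Basic.irr_one_ne_zero Θ.2
  have h9 : (Θ : G → ℂ) 1 * (d + ∑ χ ∈ X, conj ((χ : G → ℂ) x)) = 0 := by
    rw [← h1]; ring
  exact eq_neg_of_add_eq_zero_right ((mul_eq_zero.1 h9).resolve_left h8)

/-- **The averaged class multiplication formula.** -/
theorem avg {e t : ℕ} {M : Ideal AlgInt} {NE X : Finset (IrrCharacter G)}
    {ε : IrrCharacter G → ℤ} {d : ℤ} {S : IrrCharacter G → Finset (P →* ℂˣ)}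
    (B : M23.Block.Blk p P e t M NE X ε d S) (h : Compl p (P : Subgroup G) V)
    (hP : Nat.card P = p) {x : G} (hx : x ∈ P) (hx1 : x ≠ 1) {Θ : IrrCharacter G} (hΘ : Θ ∈ X)
    {a b : G} (ha : ¬ p ∣ orderOf a) (hb : ¬ p ∣ orderOf b) :
    (Nat.card {q : G × G × V // IsConj a q.1 ∧ IsConj b q.2.1 ∧ q.1 * q.2.1 = x * q.2.2} : ℂ) *
      Nat.card G = (centralizer ({a} : Set G)).index * (centralizer ({b} : Set G)).index *
      Nat.card V * (∑ χ ∈ NE, ε χ * ((χ : G → ℂ) a * (χ : G → ℂ) b / (χ : G → ℂ) 1) -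
        d * ((Θ : G → ℂ) a * (Θ : G → ℂ) b / (Θ : G → ℂ) 1)) := by
  classical
  have hfin : Finite (IrrCharacter G) := finite_irr
  have := Fintype.ofFinite (IrrCharacter G)
  have := Fintype.ofFinite V
  have ho1 : ¬ p ∣ orderOf (1 : G) := by
    rw [orderOf_one]; exact fun h => hp.out.one_lt.ne' (Nat.dvd_one.1 h)
  have hd : (d : ℂ) ≠ 0 := by
    rcases B.kb.hd with h | h <;> rw [h] <;> norm_num
  have heq : ∀ χ ∈ X, ∀ g : G, ¬ p ∣ orderOf g → (χ : G → ℂ) g = (Θ : G → ℂ) g :=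
    fun χ hχ g hg => mul_left_cancel₀ hd ((B.kb.rel χ hχ g hg).symm.trans (B.kb.rel Θ hΘ g hg))
  rw [card_mul_eq B.modular h hP hx hx1 B.kb.disj B.mem_iff a b]
  congr 1
  have h1 : ∑ χ ∈ NE, (χ : G → ℂ) a * (χ : G → ℂ) b / (χ : G → ℂ) 1 * conj ((χ : G → ℂ) x) =
      ∑ χ ∈ NE, ε χ * ((χ : G → ℂ) a * (χ : G → ℂ) b / (χ : G → ℂ) 1) := by
    refine Finset.sum_congr rfl fun χ hχ => ?_
    have h6 := B.val_NE χ hχ x hx hx1 1 (one_mem _) ho1
    rw [mul_one] at h6
    rw [h6, map_intCast, mul_comm]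
  have h2 : ∑ χ ∈ X, (χ : G → ℂ) a * (χ : G → ℂ) b / (χ : G → ℂ) 1 * conj ((χ : G → ℂ) x) =
      (Θ : G → ℂ) a * (Θ : G → ℂ) b / (Θ : G → ℂ) 1 * ∑ χ ∈ X, conj ((χ : G → ℂ) x) := by
    rw [Finset.mul_sum]
    refine Finset.sum_congr rfl fun χ hχ => ?_
    rw [heq χ hχ a ha, heq χ hχ b hb, heq χ hχ 1 ho1]
  rw [h1, h2, sum_exc B hP hx hx1 hΘ]
  ring

end Avg

section Pairs

variable [Finite G] {p : ℕ} [hp : Fact p.Prime] {P V : Subgroup G}

theorem exists_mul_eq (h : Compl p P V) (hP : Nat.card P = p) {c : G}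
    (hc : c ∈ centralizer (P : Set G)) : ∃ r ∈ P, ∃ s ∈ V, r * s = c := by
  have hPC : P ≤ centralizer (P : Set G) := by
    have : IsCyclic P := isCyclic_of_prime_card hP
    have : IsMulCommutative P := inferInstance
    exact Subgroup.le_centralizer P
  let f : P × V → centralizer (P : Set G) := fun q => ⟨q.1 * q.2, mul_mem (hPC q.1.2) (h.le q.2.2)⟩
  have hinj : Function.Injective f := by
    obtain ⟨k, hk⟩ := exists_pow_eq h hP
    rintro ⟨r, s⟩ ⟨r', s'⟩ h1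
    have h2 : (r : G) * s = r' * s' := congrArg Subtype.val h1
    have h3 : (r : G) = r' := by rw [← hk r r.2 s s.2, ← hk r' r'.2 s' s'.2, h2]
    have h4 : (s : G) = s' := by rw [h3] at h2; exact mul_left_cancel h2
    exact Prod.ext (Subtype.ext h3) (Subtype.ext h4)
  have hbij := (Nat.bijective_iff_injective_and_card f).2 ⟨hinj, by
    rw [Nat.card_prod, hP, h.card]⟩
  obtain ⟨⟨r, s⟩, hrs⟩ := hbij.2 ⟨c, hc⟩
  exact ⟨r, r.2, s, s.2, congrArg Subtype.val hrs⟩

end Pairs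

end Cfsg.Agent.SmallSimple.AvgFormula
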