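import Mathlib
import Cfsg.Agent.SmallSimple.Burnside
import Cfsg.Agent.SmallSimple.SylowCount
set_option linter.all false

set_option autoImplicit false

namespace Cfsg.Agent.SmallSimple.DegreePPlusOne

open Subgroup Cfsg.Agent.SmallSimple.Burnside Cfsg.Agent.SmallSimple.SylowCount

/-- In a finite simple group of order `≠ 2`, every element acts as an even permutation. -/
theorem sign_toPerm_eq_one {G : Type*} [Group G] [Finite G] [IsSimpleGroup G]
    (h2 : Nat.card G ≠ 2) {X : Type*} [Fintype X] [DecidableEq X] [MulAction G X] (g : G) :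
    Equiv.Perm.sign (MulAction.toPermHom G X g) = 1 := by
  let f : G →* ℤˣ := Equiv.Perm.sign.comp (MulAction.toPermHom G X)
  have hk : f.ker = ⊤ := by
    rcases Subgroup.Normal.eq_bot_or_eq_top (H := f.ker) inferInstance with h | h
    · exfalso
      have hinj : Function.Injective f := (MonoidHom.ker_eq_bot_iff _).1 h
      have h3 : Nat.card G ≤ Nat.card ℤˣ := Nat.card_le_card_of_injective f hinj
      have h4 : Nat.card ℤˣ = 2 := by
        rw [Nat.card_eq_fintype_card]; rfl
      rw [h4] at h3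
      have h5 : 1 < Nat.card G := Finite.one_lt_card
      omega
    · exact h
  have : g ∈ f.ker := hk ▸ Subgroup.mem_top g
  exact this

/-- If `|P| = p`, a nontrivial element of `P` normalises no other Sylow `p`-subgroup. -/
theorem eq_one_of_smul_eq {G : Type*} [Group G] [Finite G] {p : ℕ} [hp : Fact p.Prime]
    (P : Sylow p G) (hP : Nat.card P = p) (Q : Sylow p G) (hQ : Q ≠ P) (x : G)
    (hx : x ∈ (P : Subgroup G)) (h : x • Q = Q) : x = 1 := by
  by_contra hne
  have h4 : x ∈ normalizer ((Q : Subgroup G) : Set G) :=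
    Sylow.smul_eq_iff_mem_normalizer.1 h
  have h5 : (P : Subgroup G) ⊓ normalizer ((Q : Subgroup G) : Set G) = (P : Subgroup G) ⊓ (Q : Subgroup G) :=
    IsPGroup.inf_normalizer_sylow P.2 Q
  have h6 : x ∈ (P : Subgroup G) ⊓ (Q : Subgroup G) := h5 ▸ ⟨hx, h4⟩
  have h7 : Nat.card ((P : Subgroup G) ⊓ (Q : Subgroup G) : Subgroup G) ∣ p := by
    have := Subgroup.card_dvd_of_le (show (P : Subgroup G) ⊓ (Q : Subgroup G) ≤ P from inf_le_left)
    exact this.trans (dvd_of_eq hP)
  have h8 : Nat.card ((P : Subgroup G) ⊓ (Q : Subgroup G) : Subgroup G) ≠ 1 := by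
    intro h
    rw [Subgroup.card_eq_one] at h
    rw [h] at h6
    exact hne (Subgroup.mem_bot.1 h6)
  have h9 : Nat.card ((P : Subgroup G) ⊓ (Q : Subgroup G) : Subgroup G) = p :=
    ((Nat.dvd_prime hp.out).1 h7).resolve_left h8
  have h10 : (P : Subgroup G) ⊓ (Q : Subgroup G) = P :=
    Subgroup.eq_of_le_of_card_ge inf_le_left (by rw [h9]; exact hP.le)
  have h11 : (P : Subgroup G) ≤ Q := by rw [← h10]; exact inf_le_right
  exact hQ (Sylow.ext (P.3 Q.2 h11))

/-- An element `t` of `N(P)` fixing two Sylow subgroups in the same `P`-orbit off `P` centralises `P` when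
`|P| = p`. -/
theorem mem_centralizer_of_fix {G : Type*} [Group G] [Finite G] {p : ℕ} [hp : Fact p.Prime]
    (P : Sylow p G) (hP : Nat.card P = p) (t : G) (ht : t ∈ normalizer ((P : Subgroup G) : Set G))
    (Q : Sylow p G) (hQ : Q ≠ P) (g : G) (hg : g ∈ (P : Subgroup G)) (hg1 : g ≠ 1)
    (h1 : t • Q = Q) (h2 : t • (g • Q) = g • Q) : t ∈ centralizer ((P : Subgroup G) : Set G) := by
  have hc : (g⁻¹ * (t * g * t⁻¹)) • Q = Q := by
    have h3 : t⁻¹ • Q = Q := by rw [inv_smul_eq_iff, h1]
    rw [mul_smul, mul_smul, mul_smul, h3, h2, inv_smul_smul]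
  have hcP : g⁻¹ * (t * g * t⁻¹) ∈ (P : Subgroup G) :=
    mul_mem (inv_mem hg) ((Subgroup.mem_normalizer_iff.1 ht g).1 hg)
  have hc1 : g⁻¹ * (t * g * t⁻¹) = 1 := eq_one_of_smul_eq P hP Q hQ _ hcP hc
  have hcomm : t * g = g * t := by
    have h3 : t * g * t⁻¹ = g := by
      rw [inv_mul_eq_one] at hc1
      exact hc1.symm
    calc t * g = t * g * t⁻¹ * t := by group
      _ = g * t := by rw [h3]
  have hz : Subgroup.zpowers g = P := by
    apply Subgroup.eq_of_le_of_card_ge (Subgroup.zpowers_le.2 hg)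
    have h12 : Nat.card (Subgroup.zpowers g) ∣ p :=
      (Subgroup.card_dvd_of_le (Subgroup.zpowers_le.2 hg)).trans (dvd_of_eq hP)
    rcases (Nat.dvd_prime hp.out).1 h12 with h | h
    · rw [Subgroup.card_eq_one, Subgroup.zpowers_eq_bot] at h
      exact absurd h hg1
    · rw [h]; exact hP.le
  rw [Subgroup.mem_centralizer_iff]
  intro x hx
  have hx' : x ∈ Subgroup.zpowers g := hz ▸ hx
  obtain ⟨k, rfl⟩ := Subgroup.mem_zpowers_iff.1 hx'
  exact ((Commute.zpow_right (show Commute t g from hcomm) k).eq).symm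

/-- If `|P| = p` and `n_p = p + 1`, then `P` is transitive on the other Sylow `p`-subgroups. -/
theorem exists_smul_eq {G : Type*} [Group G] [Finite G] {p : ℕ} [hp : Fact p.Prime]
    (P : Sylow p G) (hP : Nat.card P = p) (hn : Nat.card (Sylow p G) = p + 1)
    (Q Q' : Sylow p G) (hQ : Q ≠ P) (hQ' : Q' ≠ P) : ∃ g ∈ (P : Subgroup G), g • Q = Q' := by
  classical
  let f : P → {R : Sylow p G // R ≠ P} := fun g => ⟨(g : G) • Q, by
    intro h
    apply hQ
    have h2 : (g : G)⁻¹ • P = P := by
      rw [Sylow.smul_eq_iff_mem_normalizer]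
      exact Subgroup.le_normalizer (inv_mem g.2)
    have h3 : Q = (g : G)⁻¹ • ((g : G) • Q) := (inv_smul_smul _ _).symm
    exact h3.trans ((congrArg ((g : G)⁻¹ • ·) h).trans h2)⟩
  have hf : Function.Injective f := by
    intro a b hab
    have h1 : (a : G) • Q = (b : G) • Q := congrArg Subtype.val hab
    have h2 : ((b : G)⁻¹ * a) • Q = Q := by rw [mul_smul, h1, inv_smul_smul]
    have h3 := eq_one_of_smul_eq P hP Q hQ _ (mul_mem (inv_mem b.2) a.2) h2
    rw [inv_mul_eq_one] at h3
    exact Subtype.ext h3.symm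
  have hcard : Nat.card {R : Sylow p G // R ≠ P} = p := by
    have : Fintype (Sylow p G) := Fintype.ofFinite _
    rw [Nat.card_eq_fintype_card, Fintype.card_subtype_compl, ← Nat.card_eq_fintype_card, hn,
      Fintype.card_subtype_eq]
    rfl
  have hbij : Function.Bijective f := by
    rw [Nat.bijective_iff_injective_and_card]
    exact ⟨hf, by rw [hcard]; exact hP⟩
  obtain ⟨g, hg⟩ := hbij.2 ⟨Q', hQ'⟩
  exact ⟨g, g.2, congrArg Subtype.val hg⟩

/-- **Fixed points.** If `|P| = p` is an odd prime, `n_p = p + 1`, and an involution `t` normalises but does not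
centralise `P`, then `t` fixes exactly two Sylow `p`-subgroups, and so acts on them as a permutation of sign
`(-1) ^ ((p - 1) / 2)`. -/
theorem sign_eq {G : Type*} [Group G] [Finite G] {p : ℕ} [hp : Fact p.Prime]
    (hp2 : p ≠ 2) [Fintype (Sylow p G)] [DecidableEq (Sylow p G)]
    (P : Sylow p G) (hP : Nat.card P = p) (hn : Nat.card (Sylow p G) = p + 1)
    (t : G) (ht2 : t ^ 2 = 1) (ht : t ∈ normalizer ((P : Subgroup G) : Set G))
    (htc : t ∉ centralizer ((P : Subgroup G) : Set G)) :
    Equiv.Perm.sign (MulAction.toPermHom G (Sylow p G) t) = (-1) ^ ((p - 1) / 2) := by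
  classical
  obtain ⟨σ, hσ⟩ : ∃ σ : Equiv.Perm (Sylow p G), σ = MulAction.toPermHom G (Sylow p G) t := ⟨_, rfl⟩
  rw [← hσ]
  have hσapp : ∀ Q, σ Q = t • Q := by intro Q; rw [hσ]; rfl
  have hσ2 : σ ^ 2 = 1 := by rw [hσ, ← map_pow, ht2, map_one]
  rw [Equiv.Perm.sign_of_pow_two_eq_one hσ2]
  have hcardS : Fintype.card (Sylow p G) = p + 1 := by rw [← Nat.card_eq_fintype_card, hn]
  have hodd : Odd p := hp.out.odd_of_ne_two hp2
  have hF : Fintype.card (Function.fixedPoints σ) = 2 := by
    -- parity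
    have h1 : σ.cycleType = Multiset.replicate σ.cycleType.card 2 :=
      Equiv.Perm.cycleType_of_pow_prime_eq_one hσ2
    have h2 : σ.cycleType.sum = σ.cycleType.card * 2 := by
      conv_lhs => rw [h1]
      rw [Multiset.sum_replicate, smul_eq_mul]
    have h3 := Equiv.Perm.card_fixedPoints σ
    rw [hcardS, h2] at h3
    have h4 : σ.cycleType.sum ≤ Fintype.card (Sylow p G) := Equiv.Perm.sum_cycleType_le σ
    rw [hcardS, h2] at h4
    have hPf : P ∈ Function.fixedPoints σ := by
      change σ P = P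
      rw [hσapp, Sylow.smul_eq_iff_mem_normalizer]
      exact ht
    have h5 : 0 < Fintype.card (Function.fixedPoints σ) := Fintype.card_pos_iff.2 ⟨⟨P, hPf⟩⟩
    obtain ⟨m, hm⟩ := hodd
    have h6 : 1 < Fintype.card (Function.fixedPoints σ) := by omega
    have : Nontrivial (Function.fixedPoints σ) := Fintype.one_lt_card_iff_nontrivial.1 h6
    obtain ⟨⟨Q, hQf⟩, hQ⟩ := exists_ne (⟨P, hPf⟩ : Function.fixedPoints σ)
    have hQP : Q ≠ P := fun h => hQ (Subtype.ext h)
    have h7 : Function.fixedPoints σ = {P, Q} := by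
      ext R
      constructor
      · intro hR
        by_contra hcon
        simp only [Set.mem_insert_iff, Set.mem_singleton_iff, not_or] at hcon
        obtain ⟨g, hg, hgQ⟩ := exists_smul_eq P hP hn Q R hQP hcon.1
        apply htc
        refine mem_centralizer_of_fix P hP t ht Q hQP g hg ?_ ?_ ?_
        · rintro rfl
          rw [one_smul] at hgQ
          exact hcon.2 hgQ.symm
        · rw [← hσapp]; exact hQf
        · rw [hgQ, ← hσapp]; exact hR
      · rintro (rfl | rfl)
        · exact hPf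
        · exact hQf
    have h8 : (Function.fixedPoints σ).ncard = 2 := by
      rw [h7]
      exact Set.ncard_pair hQP.symm
    rw [← h8, ← Nat.card_coe_set_eq, Nat.card_eq_fintype_card]
  rw [hF, hcardS]
  congr 1

/-- A simple group with Sylow `p`-subgroups of order `p ≡ 3 mod 4`, `n_p = p + 1`, has odd `|N(P) / P|`
... in the form: no involution normalises `P` without centralising it. -/
theorem mem_centralizer_of_mod_four {G : Type*} [Group G] [Finite G] [IsSimpleGroup G] {p : ℕ}
    [hp : Fact p.Prime] (hp4 : p % 4 = 3) (h2 : Nat.card G ≠ 2)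
    (P : Sylow p G) (hP : Nat.card P = p) (hn : Nat.card (Sylow p G) = p + 1)
    (t : G) (ht2 : t ^ 2 = 1) (ht : t ∈ normalizer ((P : Subgroup G) : Set G)) :
    t ∈ centralizer ((P : Subgroup G) : Set G) := by
  classical
  by_contra htc
  have : Fintype (Sylow p G) := Fintype.ofFinite _
  have h1 := sign_eq (by omega) P hP hn t ht2 ht htc
  have hodd : Odd ((p - 1) / 2) := by
    rw [Nat.odd_iff]; omega
  rw [sign_toPerm_eq_one h2, hodd.neg_one_pow] at h1
  exact absurd h1 (by decide)

/-- A simple group of order `≠ p` with Sylow `p`-subgroups of order `p ≡ 3 mod 4`, `n_p = p + 1` does not have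
`|N(P)| = 2 p`. -/
theorem card_ne {G : Type*} [Group G] [Finite G] [IsSimpleGroup G] {p : ℕ}
    [hp : Fact p.Prime] (hp4 : p % 4 = 3) (hsq : ¬ p ^ 2 ∣ Nat.card G)
    (hn : Nat.card (Sylow p G) = p + 1) : Nat.card G ≠ 2 * p * (p + 1) := by
  classical
  intro hG
  obtain ⟨P⟩ : Nonempty (Sylow p G) := inferInstance
  have hdvd : p ∣ Nat.card G := by
    rw [hG]; exact ⟨2 * (p + 1), by ring⟩
  have hcardP : Nat.card P = p := by
    rw [P.card_eq_multiplicity]
    have h1 : (Nat.card G).factorization p < 2 := by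
      by_contra hcon
      exact hsq ((hp.out.pow_dvd_iff_le_factorization Nat.card_pos.ne').2 (not_lt.1 hcon))
    have h2 : 0 < (Nat.card G).factorization p :=
      hp.out.factorization_pos_of_dvd Nat.card_pos.ne' hdvd
    have h3 : (Nat.card G).factorization p = 1 := by omega
    rw [h3, pow_one]
  have hppos := hp.out.pos
  have hp3 : 3 ≤ p := by omega
  have h2 : Nat.card G ≠ 2 := by rw [hG]; nlinarith
  have hpne : Nat.card G ≠ p := by rw [hG]; nlinarith
  have hnorm : Nat.card (normalizer ((P : Subgroup G) : Set G)) = 2 * p := by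
    have h3 : Nat.card (Sylow p G) = (normalizer ((P : Subgroup G) : Set G)).index :=
      P.card_eq_index_normalizer
    have h4 := (normalizer ((P : Subgroup G) : Set G)).card_mul_index
    rw [← h3, hn, hG] at h4
    exact Nat.eq_of_mul_eq_mul_right (Nat.succ_pos p) h4
  -- an involution in the normalizer
  have : Fact (Nat.Prime 2) := ⟨Nat.prime_two⟩
  obtain ⟨t, ht⟩ := exists_prime_orderOf_dvd_card' (G := normalizer ((P : Subgroup G) : Set G)) 2
    (by rw [hnorm]; exact dvd_mul_right _ _)
  have ht2 : (t : G) ^ 2 = 1 := by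
    have := pow_orderOf_eq_one t
    rw [ht] at this
    exact_mod_cast congrArg Subtype.val this
  have htC := mem_centralizer_of_mod_four hp4 h2 P hcardP hn (t : G) ht2 t.2
  apply hpne
  apply card_eq_of_normalizer_le_centralizer hdvd P
  -- the centralizer has order divisible by 2 and p
  have hPC : (P : Subgroup G) ≤ centralizer ((P : Subgroup G) : Set G) := by
    intro x hx
    rw [Subgroup.mem_centralizer_iff]
    intro y hy
    have hcyc : IsCyclic P := isCyclic_of_prime_card hcardP
    have := hcyc.isMulCommutative.is_comm.comm (⟨y, hy⟩ : P) ⟨x, hx⟩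
    exact congrArg Subtype.val this
  have hCN : centralizer ((P : Subgroup G) : Set G) ≤ normalizer ((P : Subgroup G) : Set G) :=
    Subgroup.centralizer_le_normalizer _
  have h5 : p ∣ Nat.card (centralizer ((P : Subgroup G) : Set G)) :=
    (dvd_of_eq hcardP.symm).trans (Subgroup.card_dvd_of_le hPC)
  have h6 : 2 ∣ Nat.card (centralizer ((P : Subgroup G) : Set G)) := by
    have h7 : orderOf (t : G) = 2 := by rw [← ht]; exact Subgroup.orderOf_coe t
    rw [← h7]
    exact Subgroup.orderOf_dvd_natCard _ htC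
  have h8 : 2 * p ∣ Nat.card (centralizer ((P : Subgroup G) : Set G)) := by
    apply Nat.Coprime.mul_dvd_of_dvd_of_dvd _ h6 h5
    rw [Nat.coprime_primes Nat.prime_two hp.out]
    omega
  have h9 : centralizer ((P : Subgroup G) : Set G) = normalizer ((P : Subgroup G) : Set G) := by
    apply Subgroup.eq_of_le_of_card_ge hCN
    rw [hnorm]
    exact Nat.le_of_dvd Nat.card_pos h8
  exact h9.ge

end Cfsg.Agent.SmallSimple.DegreePPlusOne
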