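import Cfsg.Agent.SmallSimple.InvolColumn
set_option linter.all false

/-!
# Pairs of involutions whose product is `y k`

Let `y` have odd order `p`, `C(y) = ⟨y⟩ × K` with `|K|` prime to `p`, and let `w` be an involution
inverting `y` and normalising `K`.  For involutions `t, t'` let `I_t` be the set of the conjugates
of `t` in the coset `w K`.

* `card_pairs`: the number of `(a, b) ∈ t^G × t'^G` with `a b = y k` is
  `p · #{(g, g') ∈ I_t × I_t' | g g' = k}`;
* `sum_pairs`: for every function `f` on `K`,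
  `∑_k f(k) ∑_χ χ(t) χ(t') conj χ(y k) / χ(1) = p |C(t)| |C(t')| / |G| · ∑_{g, g'} f(g g')`;
* `sum_eq_zero_of_not_inv`: if `y` is not inverted by any involution all these sums vanish.
(file of helper241)
-/

set_option autoImplicit false

namespace Cfsg.Agent.SmallSimple.InvolPairs

open Cfsg Subgroup
open scoped ComplexConjugate

universe u
variable {G : Type u} [Group G]

/-- `y` has odd order `p`, `C(y) = ⟨y⟩ × K`, `|K|` prime to `p`. -/
structure CentData (p : ℕ) (y : G) (K : Subgroup G) : Prop where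
  ord : orderOf y = p
  odd : Odd p
  comm : ∀ k ∈ K, k * y = y * k
  cent : ∀ c, c * y = y * c → ∃ i : ℤ, ∃ k ∈ K, c = y ^ i * k
  cop : ∀ k ∈ K, (orderOf k).Coprime p

/-- `w` is an involution inverting `y` and normalising `K`. -/
structure InvData (y : G) (K : Subgroup G) (w : G) : Prop where
  sq : w * w = 1
  inv : w * y * w⁻¹ = y⁻¹
  norm : ∀ k ∈ K, w * k * w⁻¹ ∈ K

namespace CentData

variable {p : ℕ} {y : G} {K : Subgroup G}

theorem commute (h : CentData p y K) {k : G} (hk : k ∈ K) : Commute k y := h.comm k hk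

theorem eq_one (h : CentData p y K) {i : ℤ} (hi : y ^ i ∈ K) : y ^ i = 1 := by
  have h1 := h.cop _ hi
  have h2 : orderOf (y ^ i) ∣ p := by
    rw [orderOf_dvd_iff_pow_eq_one, ← zpow_natCast, ← zpow_mul, mul_comm, zpow_mul, zpow_natCast,
      ← h.ord, pow_orderOf_eq_one, one_zpow]
  have h3 : orderOf (y ^ i) ∣ 1 := by
    have := Nat.dvd_gcd dvd_rfl h2
    rwa [Nat.Coprime.gcd_eq_one h1] at this
  exact orderOf_eq_one_iff.1 (Nat.dvd_one.1 h3)

/-- `y` is a power of `y k`. -/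
theorem exists_pow (h : CentData p y K) {k : G} (hk : k ∈ K) :
    ∃ n : ℕ, (y * k) ^ n = y := by
  have h1 : Commute y k := (h.commute hk).symm
  obtain ⟨n, hn1, hn2⟩ := Nat.chineseRemainder (h.cop k hk) 0 1
  refine ⟨n, ?_⟩
  rw [h1.mul_pow]
  have h2 : k ^ n = 1 := orderOf_dvd_iff_pow_eq_one.1 ((Nat.modEq_zero_iff_dvd).1 hn1)
  have h3 : y ^ n = y := by
    have h4 : y ^ n = y ^ 1 := by
      rw [pow_eq_pow_iff_modEq, h.ord]; exact hn2
    rw [h4, pow_one]
  rw [h2, h3, mul_one]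

end CentData

section Pairs

variable {p : ℕ} {y : G} {K : Subgroup G} {w : G}

/-- The halving exponent. -/
theorem pow_half (h : CentData p y K) : (y ^ ((p + 1) / 2)) ^ 2 = y := by
  obtain ⟨m, hm⟩ := h.odd
  rw [← pow_mul]
  have : (p + 1) / 2 * 2 = p + 1 := by omega
  rw [this, pow_succ, ← h.ord, pow_orderOf_eq_one, one_mul]

theorem inv_of_sq {a : G} (h : a * a = 1) : a⁻¹ = a := inv_eq_of_mul_eq_one_left h

/-- If `a b = y k` for involutions `a, b`, then `a` inverts `y`. -/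
theorem inverts (h : CentData p y K) {a b k : G} (ha : a * a = 1) (hb : b * b = 1) (hk : k ∈ K)
    (hab : a * b = y * k) : a * y * a⁻¹ = y⁻¹ := by
  obtain ⟨n, hn⟩ := h.exists_pow hk
  have h1 : a * (y * k) * a⁻¹ = (y * k)⁻¹ := by
    rw [← hab, mul_inv_rev, inv_of_sq ha, inv_of_sq hb]
    rw [← mul_assoc, ha, one_mul]
  calc a * y * a⁻¹ = a * (y * k) ^ n * a⁻¹ := by rw [hn]
    _ = (a * (y * k) * a⁻¹) ^ n := by rw [conj_pow]
    _ = ((y * k) ^ n)⁻¹ := by rw [h1, inv_pow]
    _ = y⁻¹ := by rw [hn]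

/-- Involutions inverting `y` move a power of `y` across. -/
theorem mul_zpow_of_inv {g : G} (hg : g * y * g⁻¹ = y⁻¹) (i : ℤ) :
    g * y ^ i = y ^ (-i) * g := by
  have h1 : g * y ^ i * g⁻¹ = y ^ (-i) := by
    rw [← conj_zpow, hg, inv_zpow, zpow_neg]
  calc g * y ^ i = (g * y ^ i * g⁻¹) * g := by group
    _ = _ := by rw [h1]

theorem zpow_half (h : CentData p y K) : y ^ (2 * (((p + 1) / 2 : ℕ) : ℤ)) = y := by
  have h1 := pow_half h
  calc y ^ (2 * (((p + 1) / 2 : ℕ) : ℤ)) = (y ^ ((p + 1) / 2)) ^ 2 := by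
        rw [mul_comm, zpow_mul, zpow_natCast]; exact_mod_cast rfl
    _ = y := h1

/-- An element of `w K` inverts `y`. -/
theorem inverts_of_mem (h : CentData p y K) (hw : InvData y K w) {g : G} (hg : w * g ∈ K) :
    g * y * g⁻¹ = y⁻¹ := by
  have h1 : g = w * (w * g) := by rw [← mul_assoc, hw.sq, one_mul]
  have h2 : (w * g) * y * (w * g)⁻¹ = y := by
    rw [h.comm _ hg, mul_inv_cancel_right]
  calc g * y * g⁻¹ = w * ((w * g) * y * (w * g)⁻¹) * w⁻¹ := by
        nth_rewrite 1 [h1]; nth_rewrite 2 [h1]; group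
    _ = y⁻¹ := by rw [h2, hw.inv]

/-- Products of two elements of `w K` are in `K`. -/
theorem mul_mem (hw : InvData y K w) {g g' : G} (hg : w * g ∈ K) (hg' : w * g' ∈ K) :
    g * g' ∈ K := by
  have h1 : w * (w * g) * w⁻¹ ∈ K := hw.norm _ hg
  have h2 : g * g' = (w * (w * g) * w⁻¹) * (w * g') := by
    have : w * (w * g) = g := by rw [← mul_assoc, hw.sq, one_mul]
    rw [this]; group
  rw [h2]; exact K.mul_mem h1 hg'

/-- The set of pairs with product `y k` for two conjugation invariant sets of involutions. -/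
theorem card_pairs_aux (h : CentData p y K) (hw : InvData y K w) (A B : G → Prop)
    (hA : ∀ g, A g → g * g = 1) (hB : ∀ g, B g → g * g = 1)
    (hAc : ∀ g c, A g → A (c * g * c⁻¹)) (hBc : ∀ g c, B g → B (c * g * c⁻¹))
    {k : G} (hk : k ∈ K) :
    Nat.card {q : G × G // A q.1 ∧ B q.2 ∧ q.1 * q.2 = y * k} =
      p * Nat.card {q : G × G // (A q.1 ∧ w * q.1 ∈ K) ∧ (B q.2 ∧ w * q.2 ∈ K) ∧
        q.1 * q.2 = k} := by
  have hp0 : 0 < p := h.odd.pos
  set m : ℤ := (((p + 1) / 2 : ℕ) : ℤ) with hm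
  have hym : y ^ (2 * m) = y := zpow_half h
  have hyp : y ^ (p : ℤ) = 1 := by rw [zpow_natCast, ← h.ord, pow_orderOf_eq_one]
  have hcard : p = Nat.card (Fin p) := by simp
  conv_rhs => rw [hcard, ← Nat.card_prod]
  symm
  refine Nat.card_congr (Equiv.ofBijective (fun x =>
    ⟨(y ^ (x.1 : ℤ) * x.2.1.1 * (y ^ (x.1 : ℤ))⁻¹,
      y ^ ((x.1 : ℤ) - m) * x.2.1.2 * (y ^ ((x.1 : ℤ) - m))⁻¹), ?_, ?_, ?_⟩) ⟨?_, ?_⟩)
  · exact hAc _ _ x.2.2.1.1
  · exact hBc _ _ x.2.2.2.1.1
  · obtain ⟨j, ⟨g, g'⟩, ⟨hg, hgw⟩, ⟨hg', hgw'⟩, hgg⟩ := x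
    change y ^ (j : ℤ) * g * (y ^ (j : ℤ))⁻¹ * (y ^ ((j : ℤ) - m) * g' * (y ^ ((j : ℤ) - m))⁻¹) = y * k
    change g * g' = k at hgg
    have h1 := mul_zpow_of_inv (inverts_of_mem h hw hgw) (-m)
    have hc : Commute k y := h.commute hk
    have hc' := (hc.zpow_right (m - j)).eq
    calc y ^ (j : ℤ) * g * (y ^ (j : ℤ))⁻¹ * (y ^ ((j : ℤ) - m) * g' * (y ^ ((j : ℤ) - m))⁻¹)
        = y ^ (j : ℤ) * (g * y ^ (-m)) * g' * y ^ (m - (j : ℤ)) := by group
      _ = y ^ (j : ℤ) * (y ^ m * g) * g' * y ^ (m - (j : ℤ)) := by rw [h1, neg_neg]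
      _ = y ^ (j : ℤ) * y ^ m * (g * g' * y ^ (m - (j : ℤ))) := by group
      _ = y ^ (j : ℤ) * y ^ m * (y ^ (m - (j : ℤ)) * k) := by rw [hgg, hc']
      _ = y ^ (2 * m) * k := by group
      _ = y * k := by rw [hym]
  · -- injective
    rintro ⟨j, ⟨⟨g, g'⟩, ⟨hg, hgw⟩, ⟨hg', hgw'⟩, hgg⟩⟩ ⟨j₁, ⟨⟨g₁, g₁'⟩, ⟨hg₁, hgw₁⟩, ⟨hg₁', hgw₁'⟩, hgg₁⟩⟩ heq
    have heq1 : y ^ (j : ℤ) * g * (y ^ (j : ℤ))⁻¹ = y ^ (j₁ : ℤ) * g₁ * (y ^ (j₁ : ℤ))⁻¹ :=
      congrArg (fun q => q.1.1) heq
    change g * g' = k at hgg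
    change g₁ * g₁' = k at hgg₁
    change w * g ∈ K at hgw
    change w * g₁ ∈ K at hgw₁
    have i1 := mul_zpow_of_inv (inverts_of_mem h hw hgw)
    have i2 := mul_zpow_of_inv (inverts_of_mem h hw hgw₁)
    have h2 : g₁⁻¹ * g = y ^ (2 * (j - j₁ : ℤ)) := by
      have h3 : g * y ^ (-(2 * (j : ℤ))) = g₁ * y ^ (-(2 * (j₁ : ℤ))) := by
        calc g * y ^ (-(2 * (j : ℤ))) = (g * y ^ (-(j : ℤ))) * (y ^ (j : ℤ))⁻¹ := by group
          _ = (y ^ (j : ℤ) * g) * (y ^ (j : ℤ))⁻¹ := by rw [i1, neg_neg]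
          _ = (y ^ (j₁ : ℤ) * g₁) * (y ^ (j₁ : ℤ))⁻¹ := heq1
          _ = (g₁ * y ^ (-(j₁ : ℤ))) * (y ^ (j₁ : ℤ))⁻¹ := by rw [i2, neg_neg]
          _ = g₁ * y ^ (-(2 * (j₁ : ℤ))) := by group
      calc g₁⁻¹ * g = g₁⁻¹ * (g * y ^ (-(2 * (j : ℤ)))) * y ^ (2 * (j : ℤ)) := by group
        _ = g₁⁻¹ * (g₁ * y ^ (-(2 * (j₁ : ℤ)))) * y ^ (2 * (j : ℤ)) := by rw [h3]
        _ = y ^ (2 * (j - j₁ : ℤ)) := by group
    have h4 : y ^ (2 * (j - j₁ : ℤ)) ∈ K := by
      rw [← h2]
      have : g₁⁻¹ * g = (w * g₁)⁻¹ * (w * g) := by group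
      rw [this]
      exact K.mul_mem (K.inv_mem hgw₁) hgw
    have h5 : y ^ (2 * (j - j₁ : ℤ)) = 1 := h.eq_one h4
    have h6 : g = g₁ := by
      rw [h5] at h2
      exact (inv_mul_eq_one.1 h2).symm
    subst h6
    have h7 : (p : ℤ) ∣ 2 * (j - j₁ : ℤ) := by
      have := orderOf_dvd_iff_zpow_eq_one.2 h5
      have ho := h.ord
      generalize hz : (2 * (j - j₁ : ℤ)) = zz at this ⊢
      rw [← ho]; exact this
    have h8 : (p : ℤ) ∣ (j - j₁ : ℤ) := by
      refine Int.dvd_of_dvd_mul_right_of_gcd_one h7 ?_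
      rw [Int.gcd_comm]
      have : Nat.Coprime 2 p := Nat.coprime_two_left.2 h.odd
      exact_mod_cast this
    have h9 : j = j₁ := by
      have hj := j.2
      have hj₁ := j₁.2
      obtain ⟨c, hc⟩ := h8
      apply Fin.ext
      have : c = 0 := by
        by_contra hne
        rcases lt_or_gt_of_ne hne with hlt | hgt
        · have : c ≤ -1 := by omega
          nlinarith
        · have : 1 ≤ c := by omega
          nlinarith
      subst this
      omega
    subst h9
    have h10 : g' = g₁' := by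
      have : g * g' = g * g₁' := hgg.trans hgg₁.symm
      exact mul_left_cancel this
    subst h10
    rfl
  · -- surjective
    rintro ⟨⟨a, b⟩, hAa, hBb, hab⟩
    change A a at hAa
    change B b at hBb
    change a * b = y * k at hab
    have ha := hA a hAa
    have hb := hB b hBb
    have hinv := inverts h ha hb hk hab
    -- w a commutes with y
    have hwa : (w * a) * y = y * (w * a) := by
      have h1 : (w * a) * y * (w * a)⁻¹ = y := by
        calc (w * a) * y * (w * a)⁻¹ = w * (a * y * a⁻¹) * w⁻¹ := by group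
          _ = (w * y * w⁻¹)⁻¹ := by rw [hinv]; group
          _ = y := by rw [hw.inv, inv_inv]
      calc (w * a) * y = ((w * a) * y * (w * a)⁻¹) * (w * a) := by group
        _ = _ := by rw [h1]
    obtain ⟨i, k₁, hk₁, hik⟩ := h.cent _ hwa
    -- choose j in [0,p) congruent to - i m
    have hemod : 0 ≤ (-(i * m)) % (p : ℤ) := Int.emod_nonneg _ (by omega)
    have hlt : (-(i * m)) % (p : ℤ) < p := Int.emod_lt_of_pos _ (by omega)
    set j : ℕ := ((-(i * m)) % (p : ℤ)).toNat with hj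
    have hjc : (j : ℤ) = (-(i * m)) % (p : ℤ) := Int.toNat_of_nonneg hemod
    have hjp : j < p := by omega
    have hyj : y ^ (j : ℤ) = y ^ (-(i * m)) := by
      have h1 : (-(i * m)) = (p : ℤ) * ((-(i * m)) / p) + (j : ℤ) := by
        rw [hjc]; exact (Int.mul_ediv_add_emod _ _).symm
      rw [h1, zpow_add, zpow_mul, hyp, one_zpow, one_mul]
    have hy2j : y ^ (2 * (j : ℤ)) = y ^ (-i) := by
      calc y ^ (2 * (j : ℤ)) = (y ^ (j : ℤ)) ^ (2 : ℤ) := by rw [← zpow_mul, mul_comm]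
        _ = (y ^ (-(i * m))) ^ (2 : ℤ) := by rw [hyj]
        _ = (y ^ (2 * m)) ^ (-i) := by rw [← zpow_mul, ← zpow_mul]; congr 1; ring
        _ = y ^ (-i) := by rw [hym]
    -- g = w k₁
    set g : G := (y ^ (j : ℤ))⁻¹ * a * y ^ (j : ℤ) with hg
    have hga : y ^ (j : ℤ) * g * (y ^ (j : ℤ))⁻¹ = a := by rw [hg]; group
    have hAg : A g := by
      have := hAc a (y ^ (j : ℤ))⁻¹ hAa
      rwa [inv_inv] at this
    have hai := mul_zpow_of_inv hinv
    have hwi := mul_zpow_of_inv hw.inv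
    have hwg : w * g = k₁ := by
      have hck : Commute k₁ (y ^ i) := (h.commute hk₁).zpow_right i
      calc w * g = w * y ^ (-(j : ℤ)) * (a * y ^ (j : ℤ)) := by rw [hg]; group
        _ = w * y ^ (-(j : ℤ)) * (y ^ (-(j : ℤ)) * a) := by rw [hai]
        _ = w * y ^ (-(2 * (j : ℤ))) * a := by group
        _ = y ^ (2 * (j : ℤ)) * w * a := by rw [hwi, neg_neg]
        _ = y ^ (2 * (j : ℤ)) * (w * a) := by group
        _ = y ^ (-i) * (y ^ i * k₁) := by rw [hy2j, hik]
        _ = k₁ := by group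
    have hwgK : w * g ∈ K := by rw [hwg]; exact hk₁
    have hgg : g * g = 1 := hA g hAg
    have hgy := mul_zpow_of_inv (inverts_of_mem h hw hwgK)
    -- g' = g k
    have hb' : b = a * (y * k) := by
      rw [← hab, ← mul_assoc, ha, one_mul]
    have hck : Commute k y := h.commute hk
    have hBg : (y ^ ((j : ℤ) - m))⁻¹ * b * y ^ ((j : ℤ) - m) = g * k := by
      have hck' := (hck.zpow_right ((j : ℤ) - m)).eq
      calc (y ^ ((j : ℤ) - m))⁻¹ * b * y ^ ((j : ℤ) - m)
          = (y ^ ((j : ℤ) - m))⁻¹ * (y ^ (j : ℤ) * g * (y ^ (j : ℤ))⁻¹) * y *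
              (k * y ^ ((j : ℤ) - m)) := by rw [hga, hb']; group
        _ = (y ^ ((j : ℤ) - m))⁻¹ * (y ^ (j : ℤ) * g * (y ^ (j : ℤ))⁻¹) * y *
              (y ^ ((j : ℤ) - m) * k) := by rw [hck']
        _ = y ^ m * (g * y ^ (1 - m)) * k := by group
        _ = y ^ m * (y ^ (-(1 - m)) * g) * k := by rw [hgy]
        _ = (y ^ (2 * m) * y⁻¹) * (g * k) := by group
        _ = g * k := by rw [hym]; group
    have hBgk : B (g * k) := by
      have := hBc b (y ^ ((j : ℤ) - m))⁻¹ hBb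
      rw [inv_inv, hBg] at this
      exact this
    have hwgk : w * (g * k) ∈ K := by rw [← mul_assoc]; exact K.mul_mem hwgK hk
    refine ⟨⟨⟨j, hjp⟩, ⟨⟨g, g * k⟩, ⟨hAg, hwgK⟩, ⟨hBgk, hwgk⟩, ?_⟩⟩, ?_⟩
    · change g * (g * k) = k
      rw [← mul_assoc, hgg, one_mul]
    · apply Subtype.ext
      apply Prod.ext
      · exact hga
      · change y ^ ((j : ℤ) - m) * (g * k) * (y ^ ((j : ℤ) - m))⁻¹ = b
        rw [← hBg]; group

/-- Without an involution inverting `y` there is no pair. -/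
theorem card_pairs_eq_zero (h : CentData p y K) (A B : G → Prop)
    (hA : ∀ g, A g → g * g = 1) (hB : ∀ g, B g → g * g = 1)
    (hno : ∀ a, A a → a * y * a⁻¹ ≠ y⁻¹) {k : G} (hk : k ∈ K) :
    Nat.card {q : G × G // A q.1 ∧ B q.2 ∧ q.1 * q.2 = y * k} = 0 := by
  have : IsEmpty {q : G × G // A q.1 ∧ B q.2 ∧ q.1 * q.2 = y * k} :=
    ⟨fun q => hno _ q.2.1 (inverts h (hA _ q.2.1) (hB _ q.2.2.1) hk q.2.2.2)⟩
  exact Nat.card_of_isEmpty

end Pairs

section Sums

variable {p : ℕ} {y : G} {K : Subgroup G} {w : G}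

open scoped Classical in
/-- The conjugates of `t` in the coset `w K`. -/
noncomputable def invSet [Fintype G] (K : Subgroup G) (w t : G) : Finset G :=
  Finset.univ.filter (fun g => IsConj t g ∧ w * g ∈ K)

theorem mem_invSet [Fintype G] {t g : G} : g ∈ invSet K w t ↔ IsConj t g ∧ w * g ∈ K := by
  classical
  unfold invSet
  rw [Finset.mem_filter]
  simp

/-- The structure sum. -/
noncomputable def structSum [Fintype (IrrCharacter G)] (t t' z : G) : ℂ :=
  ∑ χ : IrrCharacter G, (χ : G → ℂ) t * (χ : G → ℂ) t' * conj ((χ : G → ℂ) z) / (χ : G → ℂ) 1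

theorem structSum_eq [Finite G] [Fintype (IrrCharacter G)] (t t' z : G) :
    structSum t t' z = (Nat.card (centralizer ({t} : Set G)) : ℂ) *
      (Nat.card (centralizer ({t'} : Set G)) : ℂ) / (Nat.card G : ℂ) *
      (Nat.card {q : G × G // IsConj t q.1 ∧ IsConj t' q.2 ∧ q.1 * q.2 = z} : ℂ) := by
  rw [Cfsg.Agent.Characters.ClassMul.card_class_mul t t' z]
  change structSum t t' z = _ * (_ * structSum t t' z)
  have hx := Cfsg.Agent.Characters.ClassMul.card_centralizer_mul_index t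
  have hy := Cfsg.Agent.Characters.ClassMul.card_centralizer_mul_index t'
  have hne : (Nat.card G : ℂ) ≠ 0 := by exact_mod_cast Nat.card_pos.ne'
  set S := structSum t t' z
  have : (Nat.card (centralizer ({t} : Set G)) : ℂ) * (Nat.card (centralizer ({t'} : Set G)) : ℂ) /
      (Nat.card G : ℂ) * (((centralizer ({t} : Set G)).index : ℂ) *
      ((centralizer ({t'} : Set G)).index : ℂ) / (Nat.card G : ℂ) * S) =
      ((Nat.card (centralizer ({t} : Set G)) : ℂ) * ((centralizer ({t} : Set G)).index : ℂ)) *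
      ((Nat.card (centralizer ({t'} : Set G)) : ℂ) * ((centralizer ({t'} : Set G)).index : ℂ)) /
      (Nat.card G : ℂ) / (Nat.card G : ℂ) * S := by ring
  rw [this, hx, hy]
  field_simp

theorem sq_of_isConj {t g : G} (ht : t * t = 1) (h : IsConj t g) : g * g = 1 := by
  obtain ⟨c, hc⟩ := isConj_iff.1 h
  rw [← hc]
  calc c * t * c⁻¹ * (c * t * c⁻¹) = c * (t * t) * c⁻¹ := by group
    _ = 1 := by rw [ht]; group

theorem isConj_conj {t g : G} (c : G) (h : IsConj t g) : IsConj t (c * g * c⁻¹) :=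
  h.trans (isConj_iff.2 ⟨c, rfl⟩)

open scoped Classical in
theorem card_pairs [Fintype G] (h : CentData p y K) (hw : InvData y K w) {t t' : G}
    (ht : t * t = 1) (ht' : t' * t' = 1) {k : G} (hk : k ∈ K) :
    Nat.card {q : G × G // IsConj t q.1 ∧ IsConj t' q.2 ∧ q.1 * q.2 = y * k} =
      p * ∑ g ∈ invSet K w t, ∑ g' ∈ invSet K w t', if g * g' = k then 1 else 0 := by
  classical
  rw [card_pairs_aux h hw (IsConj t) (IsConj t') (fun g => sq_of_isConj ht)
    (fun g => sq_of_isConj ht') (fun g c => isConj_conj c) (fun g c => isConj_conj c) hk]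
  congr 1
  rw [← Finset.sum_product', ← Finset.card_filter]
  rw [Nat.card_eq_fintype_card, Fintype.card_subtype]
  congr 1
  ext q
  simp only [Finset.mem_filter, Finset.mem_univ, true_and, Finset.mem_product, mem_invSet]
  tauto

/-- **Pair identity.** -/
theorem sum_pairs [Fintype G] [Fintype K] [Fintype (IrrCharacter G)] (h : CentData p y K)
    (hw : InvData y K w) {t t' : G} (ht : t * t = 1) (ht' : t' * t' = 1) (f : G → ℂ) :
    ∑ k : K, f k * structSum t t' (y * k) =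
      (Nat.card (centralizer ({t} : Set G)) : ℂ) * (Nat.card (centralizer ({t'} : Set G)) : ℂ) /
        (Nat.card G : ℂ) * (p * ∑ g ∈ invSet K w t, ∑ g' ∈ invSet K w t', f (g * g')) := by
  classical
  have h1 : ∀ k : K, f k * structSum t t' (y * k) =
      (Nat.card (centralizer ({t} : Set G)) : ℂ) * (Nat.card (centralizer ({t'} : Set G)) : ℂ) /
        (Nat.card G : ℂ) * (p * ∑ g ∈ invSet K w t, ∑ g' ∈ invSet K w t',
          if g * g' = k then f (g * g') else 0) := by
    intro k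
    rw [structSum_eq, card_pairs h hw ht ht' k.2]
    push_cast
    have h2 : ∑ g ∈ invSet K w t, ∑ g' ∈ invSet K w t',
        (if g * g' = (k : G) then f (g * g') else 0) =
        f k * ∑ g ∈ invSet K w t, ∑ g' ∈ invSet K w t', (if g * g' = (k : G) then (1 : ℂ) else 0) := by
      rw [Finset.mul_sum]
      refine Finset.sum_congr rfl fun g _ => ?_
      rw [Finset.mul_sum]
      refine Finset.sum_congr rfl fun g' _ => ?_
      by_cases hgg : g * g' = k
      · rw [if_pos hgg, if_pos hgg, hgg, mul_one]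
      · rw [if_neg hgg, if_neg hgg, mul_zero]
    rw [h2]; ring
  rw [Finset.sum_congr rfl fun k _ => h1 k, ← Finset.mul_sum, ← Finset.mul_sum]
  congr 2
  rw [Finset.sum_comm]
  refine Finset.sum_congr rfl fun g hg => ?_
  rw [Finset.sum_comm]
  refine Finset.sum_congr rfl fun g' hg' => ?_
  have hmem : g * g' ∈ K := mul_mem hw (mem_invSet.1 hg).2 (mem_invSet.1 hg').2
  rw [Finset.sum_eq_single (⟨g * g', hmem⟩ : K)]
  · simp
  · intro b _ hb
    rw [if_neg]
    intro hgb
    exact hb (Subtype.ext hgb.symm)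
  · intro hcon
    exact absurd (Finset.mem_univ _) hcon

/-- The same when no conjugate of `t` inverts `y`. -/
theorem structSum_eq_zero [Finite G] [Fintype (IrrCharacter G)] (h : CentData p y K)
    {t t' : G} (ht : t * t = 1) (ht' : t' * t' = 1)
    (hno : ∀ a, IsConj t a → a * y * a⁻¹ ≠ y⁻¹) {k : G} (hk : k ∈ K) :
    structSum t t' (y * k) = 0 := by
  rw [structSum_eq, card_pairs_eq_zero h (IsConj t) (IsConj t') (fun g => sq_of_isConj ht)
    (fun g => sq_of_isConj ht') hno hk]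
  simp

/-- Interchange of the two summations. -/
theorem sum_structSum [Finite G] [Fintype K] [Fintype (IrrCharacter G)] (t t' : G) (f : G → ℂ) :
    ∑ k : K, f k * structSum t t' (y * k) =
      ∑ χ : IrrCharacter G, (χ : G → ℂ) t * (χ : G → ℂ) t' / (χ : G → ℂ) 1 *
        ∑ k : K, f k * conj ((χ : G → ℂ) (y * k)) := by
  unfold structSum
  simp_rw [Finset.mul_sum]
  rw [Finset.sum_comm]
  refine Finset.sum_congr rfl fun χ _ => Finset.sum_congr rfl fun k _ => ?_
  ring

/-- Column orthogonality as a count. -/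
theorem sum_mul_conj_eq_card [Fintype G] [Fintype (IrrCharacter G)] (a b : G) :
    ∑ χ : IrrCharacter G, (χ : G → ℂ) a * conj ((χ : G → ℂ) b) =
      (Nat.card {g : G // g * a * g⁻¹ = b} : ℂ) := by
  have h := Cfsg.Agent.S0145.result a b
  rw [finsum_eq_sum_of_fintype] at h
  by_cases hc : IsConj a b
  · rw [h.1 hc, Cfsg.Agent.Characters.ClassMul.card_fiber_conj a b hc]
  · rw [h.2 hc]
    have : IsEmpty {g : G // g * a * g⁻¹ = b} := ⟨fun g => hc (isConj_iff.2 ⟨g.1, g.2⟩)⟩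
    rw [Nat.card_of_isEmpty, Nat.cast_zero]

/-- If `g` conjugates `y k'` to `y k` then it centralises `y`. -/
theorem commute_of_conj (h : CentData p y K) {k k' g : G} (hk : k ∈ K) (hk' : k' ∈ K)
    (hg : g * (y * k') * g⁻¹ = y * k) : g * y = y * g := by
  obtain ⟨n, hn1, hn2⟩ := Nat.chineseRemainder
    (Nat.Coprime.mul_left (h.cop k hk) (h.cop k' hk')) 0 1
  have hpow : ∀ {c : G}, c ∈ K → c ^ n = 1 → (y * c) ^ n = y := by
    intro c hc hcn
    rw [((h.commute hc).symm).mul_pow, hcn, mul_one]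
    have h4 : y ^ n = y ^ 1 := by
      rw [pow_eq_pow_iff_modEq, h.ord]; exact hn2
    rw [h4, pow_one]
  have hkn : k ^ n = 1 := orderOf_dvd_iff_pow_eq_one.1
    (dvd_trans (dvd_mul_right _ _) ((Nat.modEq_zero_iff_dvd).1 hn1))
  have hkn' : k' ^ n = 1 := orderOf_dvd_iff_pow_eq_one.1
    (dvd_trans (dvd_mul_left _ _) ((Nat.modEq_zero_iff_dvd).1 hn1))
  have h1 : g * y * g⁻¹ = y := by
    calc g * y * g⁻¹ = g * (y * k') ^ n * g⁻¹ := by rw [hpow hk' hkn']
      _ = (g * (y * k') * g⁻¹) ^ n := by rw [conj_pow]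
      _ = y := by rw [hg, hpow hk hkn]
  calc g * y = (g * y * g⁻¹) * g := by group
    _ = y * g := by rw [h1]

/-- `K` is normal in `C(y)`. -/
theorem conj_mem_of_commute (h : CentData p y K) {k g : G} (hk : k ∈ K) (hg : g * y = y * g) :
    ∃ c ∈ K, g * k * g⁻¹ = c * k * c⁻¹ := by
  obtain ⟨i, c, hc, rfl⟩ := h.cent g hg
  refine ⟨c, hc, ?_⟩
  have h1 : Commute (c * k * c⁻¹) (y ^ i) :=
    (h.commute (K.mul_mem (K.mul_mem hc hk) (K.inv_mem hc))).zpow_right i
  calc y ^ i * c * k * (y ^ i * c)⁻¹ = y ^ i * (c * k * c⁻¹) * (y ^ i)⁻¹ := by group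
    _ = c * k * c⁻¹ := by rw [← h1.eq]; group

theorem card_centralizer [Finite G] (h : CentData p y K) :
    Nat.card (centralizer ({y} : Set G)) = p * Nat.card K := by
  have hp0 : 0 < p := h.odd.pos
  have hcard : p = Nat.card (Fin p) := by simp
  conv_rhs => rw [hcard, ← Nat.card_prod]
  symm
  have hmem : ∀ (j : ℕ) (k : K), y ^ j * (k : G) ∈ centralizer ({y} : Set G) := by
    intro j k
    rw [mem_centralizer_singleton_iff]
    have h1 := h.commute k.2
    exact ((Commute.pow_self y j).mul_left h1).eq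
  refine Nat.card_congr (Equiv.ofBijective (fun x : Fin p × K => ⟨y ^ (x.1 : ℕ) * (x.2 : G),
    hmem _ _⟩) ⟨?_, ?_⟩)
  · rintro ⟨j, k⟩ ⟨j', k'⟩ heq
    have heq' : y ^ (j : ℕ) * (k : G) = y ^ (j' : ℕ) * (k' : G) := congrArg Subtype.val heq
    have h2 : y ^ ((j : ℤ) - (j' : ℤ)) = (k' : G) * (k : G)⁻¹ := by
      have h3 : (y ^ (j' : ℕ))⁻¹ * y ^ (j : ℕ) = (k' : G) * (k : G)⁻¹ := by
        calc (y ^ (j' : ℕ))⁻¹ * y ^ (j : ℕ)
            = (y ^ (j' : ℕ))⁻¹ * (y ^ (j : ℕ) * k) * (k : G)⁻¹ := by group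
          _ = (y ^ (j' : ℕ))⁻¹ * (y ^ (j' : ℕ) * k') * (k : G)⁻¹ := by rw [heq']
          _ = _ := by group
      rw [← h3, zpow_sub, zpow_natCast, zpow_natCast]
      exact ((Commute.pow_pow_self y _ _).inv_right).eq
    have h4 : y ^ ((j : ℤ) - (j' : ℤ)) ∈ K := by
      rw [h2]; exact K.mul_mem k'.2 (K.inv_mem k.2)
    have h5 := h.eq_one h4
    have h6 : j = j' := by
      have h7 : (p : ℤ) ∣ (j : ℤ) - (j' : ℤ) := by
        have := orderOf_dvd_iff_zpow_eq_one.2 h5
        have ho := h.ord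
        generalize hz : ((j : ℤ) - (j' : ℤ)) = zz at this ⊢
        rw [← ho]; exact this
      have hj := j.2
      have hj' := j'.2
      obtain ⟨c, hc⟩ := h7
      apply Fin.ext
      have : c = 0 := by
        by_contra hne
        rcases lt_or_gt_of_ne hne with hlt | hgt
        · have : c ≤ -1 := by omega
          nlinarith
        · have : 1 ≤ c := by omega
          nlinarith
      subst this
      omega
    subst h6
    have h8 : k = k' := Subtype.ext (mul_left_cancel heq')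
    rw [h8]
  · rintro ⟨c, hc⟩
    rw [mem_centralizer_singleton_iff] at hc
    obtain ⟨i, k, hk, rfl⟩ := h.cent c hc
    have hemod : 0 ≤ i % (p : ℤ) := Int.emod_nonneg _ (by omega)
    have hlt : i % (p : ℤ) < p := Int.emod_lt_of_pos _ (by omega)
    have hyp : y ^ (p : ℤ) = 1 := by rw [zpow_natCast, ← h.ord, pow_orderOf_eq_one]
    have hjc : (((i % (p : ℤ)).toNat : ℕ) : ℤ) = i % (p : ℤ) := Int.toNat_of_nonneg hemod
    refine ⟨⟨⟨(i % (p : ℤ)).toNat, by omega⟩, ⟨k, hk⟩⟩, ?_⟩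
    apply Subtype.ext
    change y ^ (i % (p : ℤ)).toNat * k = y ^ i * k
    congr 1
    rw [← zpow_natCast, hjc]
    conv_rhs => rw [← Int.mul_ediv_add_emod i p, zpow_add, zpow_mul, hyp, one_zpow, one_mul]

/-- Norm of the averages of the columns `y k`. -/
theorem sum_avg_norm [Fintype G] [Fintype K] [Fintype (IrrCharacter G)] (h : CentData p y K)
    (f : G → ℂ) (hf : ∀ k ∈ K, ∀ c ∈ K, f (c * k * c⁻¹) = f k) :
    ∑ χ : IrrCharacter G, (∑ k : K, f k * conj ((χ : G → ℂ) (y * k))) *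
      conj (∑ k : K, f k * conj ((χ : G → ℂ) (y * k))) =
      ((p * Nat.card K : ℕ) : ℂ) * ∑ k : K, f k * conj (f k) := by
  classical
  have h1 : ∀ k' : K, ∑ k : K, f k * (Nat.card {g : G // g * (y * (k' : G)) * g⁻¹ = y * k} : ℂ) =
      ((p * Nat.card K : ℕ) : ℂ) * f k' := by
    intro k'
    have h2 : ∀ k : K, (Nat.card {g : G // g * (y * (k' : G)) * g⁻¹ = y * k} : ℂ) =
        ∑ g : G, if g * (y * (k' : G)) * g⁻¹ = y * k then (1 : ℂ) else 0 := by
      intro k
      rw [Nat.card_eq_fintype_card, Fintype.card_subtype, Finset.card_filter]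
      push_cast
      rfl
    simp_rw [h2, Finset.mul_sum]
    rw [Finset.sum_comm]
    have h3 : ∀ g : G, (∑ k : K, f k * if g * (y * (k' : G)) * g⁻¹ = y * k then (1 : ℂ) else 0) =
        if g ∈ centralizer ({y} : Set G) then f k' else 0 := by
      intro g
      by_cases hg : g ∈ centralizer ({y} : Set G)
      · rw [if_pos hg]
        rw [mem_centralizer_singleton_iff] at hg
        obtain ⟨c, hc, hce⟩ := conj_mem_of_commute h k'.2 hg
        have hmem : g * (k' : G) * g⁻¹ ∈ K := by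
          rw [hce]; exact K.mul_mem (K.mul_mem hc k'.2) (K.inv_mem hc)
        have hconj : g * (y * (k' : G)) * g⁻¹ = y * (g * (k' : G) * g⁻¹) := by
          calc g * (y * (k' : G)) * g⁻¹ = (g * y) * (k' : G) * g⁻¹ := by group
            _ = _ := by rw [hg]; group
        rw [Finset.sum_eq_single (⟨_, hmem⟩ : K)]
        · rw [if_pos hconj, mul_one]
          change f (g * (k' : G) * g⁻¹) = f k'
          rw [hce, hf _ k'.2 _ hc]
        · intro b _ hb
          rw [if_neg, mul_zero]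
          intro hcon
          rw [hconj] at hcon
          exact hb (Subtype.ext (mul_left_cancel hcon).symm)
        · intro hcon
          exact absurd (Finset.mem_univ _) hcon
      · rw [if_neg hg]
        refine Finset.sum_eq_zero fun k _ => ?_
        rw [if_neg, mul_zero]
        intro hcon
        apply hg
        rw [mem_centralizer_singleton_iff]
        exact commute_of_conj h k.2 k'.2 hcon
    rw [Finset.sum_congr rfl fun g _ => h3 g, ← Finset.sum_filter, Finset.sum_const,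
      nsmul_eq_mul]
    congr 1
    rw [← card_centralizer h, Nat.card_eq_fintype_card, Fintype.card_subtype]
  have h4 : ∀ χ : IrrCharacter G, (∑ k : K, f k * conj ((χ : G → ℂ) (y * k))) *
      conj (∑ k : K, f k * conj ((χ : G → ℂ) (y * k))) =
      ∑ k' : K, conj (f k') * ∑ k : K, f k *
        ((χ : G → ℂ) (y * k') * conj ((χ : G → ℂ) (y * k))) := by
    intro χ
    rw [map_sum, Finset.mul_sum]
    refine Finset.sum_congr rfl fun k' _ => ?_
    rw [map_mul, Complex.conj_conj, Finset.sum_mul, Finset.mul_sum]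
    refine Finset.sum_congr rfl fun k _ => ?_
    ring
  rw [Finset.sum_congr rfl fun χ _ => h4 χ, Finset.sum_comm]
  rw [Finset.mul_sum]
  refine Finset.sum_congr rfl fun k' _ => ?_
  rw [← Finset.mul_sum, Finset.sum_comm]
  have h5 : ∑ k : K, ∑ χ : IrrCharacter G, f k *
        ((χ : G → ℂ) (y * k') * conj ((χ : G → ℂ) (y * k))) = ((p * Nat.card K : ℕ) : ℂ) * f k' := by
    rw [← h1 k']
    refine Finset.sum_congr rfl fun k _ => ?_
    rw [← Finset.mul_sum, sum_mul_conj_eq_card]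
  rw [h5]; ring

end Sums

end Cfsg.Agent.SmallSimple.InvolPairs
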