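import Mathlib
import Cfsg.Prelude.Def_Characters
import Cfsg.Agent.Characters.Core
import Cfsg.Agent.Characters.Central
import Cfsg.Agent.Characters.ClassMul
import Cfsg.Agent.S0139
import Cfsg.Agent.S0944
import Cfsg.Agent.S1019
import Cfsg.Agent.SmallSimple.SylowPrime
import Cfsg.Agent.SmallSimple.DihedralNormChar
set_option linter.all false

/-!
# Simple groups with a self-centralizing subgroup `P` of odd prime order `p` and `|N(P)| = 2p`

* `isConj_of_orderOf_eq_two` : all involutions are conjugate;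
* `exists_sq` : `p |G| d (d+1)` is the square of a multiple of the number of involutions,
  for some `d ≥ 1`;
* `not_isSquare` : `p |G|` is not a perfect square;
* `card_le` : `p |G| ≤ 2 m (n + p - 1)` where `m` is the odd part of `|G|`, `n = |G : N(P)|`.
-/

set_option autoImplicit false

namespace Cfsg.Agent.SmallSimple.DihedralNormalizer

open Subgroup Cfsg Cfsg.Agent.Characters.Core Cfsg.Agent.SmallSimple.DihedralNormGroup
  Cfsg.Agent.SmallSimple.DihedralNormChar
open scoped ComplexConjugate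

universe u

variable {G : Type u} [Group G] {p : ℕ} {P : Subgroup G}

/-- In a simple group, an irreducible character `≠ 1` takes the value of its degree only at `1`. -/
theorem eq_one_of_apply_eq [Fintype G] [IsSimpleGroup G] {α : G → ℂ} (hα : IsIrrCharacter G α)
    (hα1 : α ≠ 1) {s : G} (hs : α s = α 1) : s = 1 := by
  classical
  obtain ⟨n, ρ, hρ, rfl⟩ := hα
  have hiff : ∀ g : G, ρ.character g = ρ.character 1 ↔ ρ g = LinearMap.id := by
    intro g
    rw [Representation.char_one]
    exact Cfsg.Agent.S0139.result ρ g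
  have hker : ∀ g : G, g ∈ ρ.ker ↔ ρ.character g = ρ.character 1 := by
    intro g
    rw [hiff]
    exact MonoidHom.mem_ker
  rcases Subgroup.Normal.eq_bot_or_eq_top (H := ρ.ker) inferInstance with h | h
  · have : s ∈ ρ.ker := (hker s).2 hs
    rw [h] at this
    exact Subgroup.mem_bot.1 this
  · exfalso
    have hconst : ∀ g : G, ρ.character g = ρ.character 1 := by
      intro g
      rw [← hker, h]; exact Subgroup.mem_top g
    have hirr : IsIrrCharacter G ρ.character := ⟨n, ρ, hρ, rfl⟩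
    have h0 := classInner_irr_ne hirr isIrr_one hα1
    rw [classInner_def] at h0
    simp only [Pi.one_apply, map_one, mul_one, hconst, Finset.sum_const, Finset.card_univ,
      nsmul_eq_mul] at h0
    have h1 := isIrr_apply_one_ne_zero hirr
    have h2 : (Nat.card G : ℂ) ≠ 0 := card_ne_zero_complex
    rw [Nat.card_eq_fintype_card] at h2 h0
    rw [← mul_assoc, inv_mul_cancel₀ h2, one_mul] at h0
    exact h1 h0

/-- Elements of order two are not conjugate to elements of `P`. -/
theorem conj_mem_eq_one (hp : p.Prime) (hp2 : p ≠ 2) (hP : Nat.card P = p) {s : G}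
    (hs : s ^ 2 = 1) (x : G) (hx : x⁻¹ * s * x ∈ P) : x⁻¹ * s * x = 1 := by
  apply sq_ne_one_of_mem hp hp2 hP hx
  have : (x⁻¹ * s * x) ^ 2 = x⁻¹ * s ^ 2 * x := by rw [pow_two, pow_two]; group
  rw [this, hs]; group

/-- If a product `u * v` of two involutions is conjugate to a nontrivial element of `P`,
then `v` is conjugate into `N(P)`. -/
theorem conj_mem_normalizer (hp : p.Prime) (hP : Nat.card P = p) {u v : G}
    (hu : u ^ 2 = 1) (hv : v ^ 2 = 1) (x : G) (hx : x⁻¹ * (u * v) * x ∈ P)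
    (hx1 : x⁻¹ * (u * v) * x ≠ 1) : x⁻¹ * v * x ∈ normalizer (P : Set G) := by
  apply mem_normalizer_of_conj_mem hp hP hx hx1
  have hu' : u⁻¹ = u := inv_eq_of_mul_eq_one_right (by rw [← pow_two, hu])
  have hv' : v⁻¹ = v := inv_eq_of_mul_eq_one_right (by rw [← pow_two, hv])
  have : x⁻¹ * v * x * (x⁻¹ * (u * v) * x) * (x⁻¹ * v * x)⁻¹ = (x⁻¹ * (u * v) * x)⁻¹ := by
    calc x⁻¹ * v * x * (x⁻¹ * (u * v) * x) * (x⁻¹ * v * x)⁻¹ = x⁻¹ * (v * u) * x := by group
      _ = x⁻¹ * (v⁻¹ * u⁻¹) * x := by rw [hu', hv']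
      _ = (x⁻¹ * (u * v) * x)⁻¹ := by group
  rw [this]
  exact P.inv_mem hx

theorem orderOf_conj (x s : G) : orderOf (x⁻¹ * s * x) = orderOf s := by
  have h := orderOf_injective (MulAut.conj x⁻¹).toMonoidHom (MulAut.conj x⁻¹).injective s
  have h' : orderOf (x⁻¹ * s * x⁻¹⁻¹) = orderOf s := h
  rwa [inv_inv] at h'

section

variable (hp : p.Prime) (hp2 : p ≠ 2) (hP : Nat.card P = p)
  (hC : centralizer (P : Set G) = P) (hN : Nat.card (normalizer (P : Set G)) = 2 * p)

include hp hp2 hP hC hN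

/-- Every involution of a simple group `G` is conjugate into `N(P)`. -/
theorem exists_conj_mem_normalizer [Finite G] [IsSimpleGroup G] {s : G} (hs : orderOf s = 2) :
    ∃ x : G, x⁻¹ * s * x ∈ normalizer (P : Set G) := by
  classical
  have := Fintype.ofFinite G
  by_contra hcon
  push Not at hcon
  have hs2 : s ^ 2 = 1 := hs ▸ pow_orderOf_eq_one s
  obtain ⟨α, β, hα, hβ, hα1, hβ1, hαβ, hv, hdeg, -⟩ := exists_characters hp hp2 hP hC hN
  have hval : ∀ a : G, 1 + α (a * s * a⁻¹ * s) - β (a * s * a⁻¹ * s) = 0 := by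
    intro a
    rw [sub_eq_zero]
    apply hv
    intro x hx
    by_contra hx1
    have ha : (a * s * a⁻¹) ^ 2 = 1 := by
      have : (a * s * a⁻¹) ^ 2 = a * s ^ 2 * a⁻¹ := by rw [pow_two, pow_two]; group
      rw [this, hs2]; group
    exact hcon x (conj_mem_normalizer hp hP ha hs2 x hx hx1)
  have hsum : ∑ a : G, (1 + α (a * s * a⁻¹ * s) - β (a * s * a⁻¹ * s)) = 0 :=
    Finset.sum_eq_zero fun a _ => hval a
  rw [Finset.sum_sub_distrib, Finset.sum_add_distrib,
    Cfsg.Agent.Characters.Central.sum_char_conj_mul hα,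
    Cfsg.Agent.Characters.Central.sum_char_conj_mul hβ, Finset.sum_const, Finset.card_univ,
    nsmul_eq_mul, mul_one, ← Nat.card_eq_fintype_card] at hsum
  have hβs : 1 + α s = β s := hv s (fun x hx => conj_mem_eq_one hp hp2 hP hs2 x hx)
  have hα0 : α 1 ≠ 0 := isIrr_apply_one_ne_zero hα
  have hβ0 : β 1 ≠ 0 := isIrr_apply_one_ne_zero hβ
  have hG0 : (Nat.card G : ℂ) ≠ 0 := card_ne_zero_complex
  rw [hdeg] at hβ0 hsum
  rw [← hβs] at hsum
  field_simp at hsum
  have h0 : (α 1 + α s ^ 2) * (α 1 + 1) - α 1 * (1 + α s) ^ 2 = 0 := by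
    rw [mul_zero] at hsum
    exact (mul_eq_zero.1 hsum).resolve_left hG0
  have h1 : (α s - α 1) ^ 2 = 0 := by
    linear_combination h0
  have h2 : α s = α 1 := sub_eq_zero.1 (pow_eq_zero_iff (two_ne_zero) |>.1 h1)
  have h3 := eq_one_of_apply_eq hα hα1 h2
  rw [h3, orderOf_one] at hs
  exact absurd hs (by norm_num)

/-- All involutions of a simple group with a self-centralizing subgroup `P` of odd prime order `p`
and `|N(P)| = 2p` are conjugate. -/
theorem isConj_of_orderOf_eq_two [Finite G] [IsSimpleGroup G] {s t : G} (hs : orderOf s = 2)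
    (ht : orderOf t = 2) : IsConj s t := by
  obtain ⟨x, hx⟩ := exists_conj_mem_normalizer hp hp2 hP hC hN hs
  obtain ⟨y, hy⟩ := exists_conj_mem_normalizer hp hp2 hP hC hN ht
  have hord : ∀ (x s : G), orderOf s = 2 → orderOf (x⁻¹ * s * x) = 2 := by
    intro x s hs
    rw [orderOf_conj, hs]
  have h1 := (orderOf_eq_two_iff hp hp2 hP hC hN hx).1 (hord x s hs)
  have h2 := (orderOf_eq_two_iff hp hp2 hP hC hN hy).1 (hord y t ht)
  have h3 := isConj_of_mem hp hp2 hP hC hN hx h1 hy h2
  have h4 : IsConj s (x⁻¹ * s * x) := isConj_iff.2 ⟨x⁻¹, by group⟩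
  have h5 : IsConj t (y⁻¹ * t * y) := isConj_iff.2 ⟨y⁻¹, by group⟩
  exact h4.trans (h3.trans h5.symm)

/-- The number of ways to write a conjugate of a nontrivial element of `P` as a product of two
involutions is `p`. -/
theorem card_inverting {x g : G} (hx : g⁻¹ * x * g ∈ P) (hx1 : g⁻¹ * x * g ≠ 1) :
    Nat.card {v : G // orderOf v = 2 ∧ orderOf (x * v⁻¹) = 2} = p := by
  rw [← card_diff hp hP hN]
  refine Nat.card_congr ⟨fun v => ⟨g⁻¹ * v.1 * g, ?_, ?_⟩, fun w => ⟨g * w.1 * g⁻¹, ?_, ?_⟩,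
    fun v => ?_, fun w => ?_⟩
  · have hu : (x * v.1⁻¹) ^ 2 = 1 := orderOf_dvd_iff_pow_eq_one.1 v.2.2.dvd
    have hv : v.1 ^ 2 = 1 := orderOf_dvd_iff_pow_eq_one.1 v.2.1.dvd
    exact conj_mem_normalizer hp hP hu hv g (by rwa [inv_mul_cancel_right])
      (by rwa [inv_mul_cancel_right])
  · have hu : (x * v.1⁻¹) ^ 2 = 1 := orderOf_dvd_iff_pow_eq_one.1 v.2.2.dvd
    have hv : v.1 ^ 2 = 1 := orderOf_dvd_iff_pow_eq_one.1 v.2.1.dvd
    have hmem : g⁻¹ * v.1 * g ∈ normalizer (P : Set G) :=
      conj_mem_normalizer hp hP hu hv g (by rwa [inv_mul_cancel_right])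
        (by rwa [inv_mul_cancel_right])
    rw [← orderOf_eq_two_iff hp hp2 hP hC hN hmem, orderOf_conj, v.2.1]
  · have h1 := orderOf_conj g⁻¹ w.1
    rw [inv_inv] at h1
    rw [h1, orderOf_eq_two_iff hp hp2 hP hC hN w.2.1]
    exact w.2.2
  · have h1 := orderOf_conj g (x * (g * w.1 * g⁻¹)⁻¹)
    have h2 : g⁻¹ * (x * (g * w.1 * g⁻¹)⁻¹) * g = g⁻¹ * x * g * w.1⁻¹ := by group
    rw [h2] at h1
    have h3 : w.1⁻¹ ∉ P := fun h => w.2.2 (inv_mem_iff.1 h)
    have h4 : g⁻¹ * x * g * w.1⁻¹ ∈ normalizer (P : Set G) :=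
      mul_mem (le_normalizer hx) (inv_mem w.2.1)
    rw [← h1, orderOf_eq_two_iff hp hp2 hP hC hN h4]
    intro h
    exact h3 ((Subgroup.mul_mem_cancel_left P hx).1 h)
  · apply Subtype.ext
    change g * (g⁻¹ * v.1 * g) * g⁻¹ = v.1
    group
  · apply Subtype.ext
    change g⁻¹ * (g * w.1 * g⁻¹) * g = w.1
    group

/-- The number of involutions `i` satisfies `p |G| d (d+1) = ((d - a) i)^2` for the degree `d` of
an irreducible character and its value `a` at an involution. -/
theorem exists_sq_int [Finite G] [IsSimpleGroup G] :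
    ∃ (d : ℕ) (a : ℤ), 1 ≤ d ∧
      ((p * Nat.card G * (d * (d + 1)) : ℕ) : ℤ) =
        (((d : ℤ) - a) * Nat.card {t : G // orderOf t = 2}) ^ 2 := by
  classical
  have := Fintype.ofFinite G
  obtain ⟨t, ht⟩ : ∃ t : G, orderOf t = 2 := by
    have h1 := card_diff hp hP hN
    have h2 : Nat.card {x : G // x ∈ normalizer (P : Set G) ∧ x ∉ P} ≠ 0 := by
      rw [h1]; exact hp.ne_zero
    obtain ⟨⟨x, hx, hxP⟩⟩ := (Nat.card_ne_zero.1 h2).1
    exact ⟨x, orderOf_eq_two hp hp2 hP hC hN hx hxP⟩
  have hconj : ∀ u : G, IsConj t u ↔ orderOf u = 2 := by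
    intro u
    refine ⟨fun h => ?_, fun h => isConj_of_orderOf_eq_two hp hp2 hP hC hN ht h⟩
    obtain ⟨c, hc⟩ := isConj_iff.1 h
    rw [← hc, ← ht]
    have := orderOf_conj c⁻¹ t
    rwa [inv_inv] at this
  obtain ⟨α, β, hα, hβ, hα1, hβ1, hαβ, hv, hdeg, hsumG⟩ := exists_characters hp hp2 hP hC hN
  set F : G → ℂ := fun g => 1 + α g - β g with hF
  set K : Finset G := Finset.univ.filter (IsConj t) with hK
  have hcardK : (K.card : ℂ) = Nat.card {t : G // orderOf t = 2} := by
    rw [Nat.card_eq_fintype_card, Fintype.card_subtype]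
    congr 2
    ext u
    simp only [hK, Finset.mem_filter, Finset.mem_univ, true_and, hconj]
  have hidx : ((centralizer ({t} : Set G)).index : ℂ) = K.card := by
    rw [Cfsg.Agent.Characters.ClassMul.card_filter_isConj]
  -- first evaluation
  have hfirst : ∑ v ∈ K, ∑ u ∈ K, F (u * v) =
      (K.card : ℂ) ^ 2 * (1 + α t * α t / α 1 - β t * β t / β 1) := by
    have h1 : ∀ v ∈ K, ∑ u ∈ K, F (u * v) =
        (K.card : ℂ) * (1 + α t * α t / α 1 - β t * β t / β 1) := by
      intro v hvK
      have hvt : IsConj t v := (Finset.mem_filter.1 hvK).2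
      simp only [hF]
      rw [Finset.sum_sub_distrib, Finset.sum_add_distrib,
        Cfsg.Agent.Characters.ClassMul.sum_class_char_mul hα,
        Cfsg.Agent.Characters.ClassMul.sum_class_char_mul hβ, hidx,
        ← classFunction_apply_eq (isIrr_isClassFunction hα) hvt,
        ← classFunction_apply_eq (isIrr_isClassFunction hβ) hvt, Finset.sum_const, nsmul_eq_mul]
      ring
    rw [Finset.sum_congr rfl h1, Finset.sum_const, nsmul_eq_mul]
    ring
  -- second evaluation
  have hsecond : ∑ v ∈ K, ∑ u ∈ K, F (u * v) = p * Nat.card G := by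
    have h1 : ∀ v ∈ K, ∑ u ∈ K, F (u * v) = ∑ x : G, if x * v⁻¹ ∈ K then F x else 0 := by
      intro v _
      rw [← Finset.sum_filter]
      refine Finset.sum_bij' (fun u _ => u * v) (fun x _ => x * v⁻¹) ?_ ?_ ?_ ?_ ?_
      · intro u hu
        rw [Finset.mem_filter]
        exact ⟨Finset.mem_univ _, by rwa [mul_inv_cancel_right]⟩
      · intro x hx
        exact (Finset.mem_filter.1 hx).2
      · intro u _; exact mul_inv_cancel_right u v
      · intro x _; exact inv_mul_cancel_right x v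
      · intro u _; rfl
    rw [Finset.sum_congr rfl h1, Finset.sum_comm, ← hsumG, Finset.mul_sum]
    refine Finset.sum_congr rfl fun x _ => ?_
    rw [← Finset.sum_filter, Finset.sum_const, nsmul_eq_mul]
    by_cases hx : ∀ g : G, g⁻¹ * x * g ∈ P → g⁻¹ * x * g = 1
    · have hFx : F x = 0 := by
        simp only [hF]
        rw [hv x hx, sub_self]
      rw [hFx, mul_zero]
      simp only [hF] at hFx
      rw [hFx, mul_zero]
    · push Not at hx
      obtain ⟨g, hg, hg1⟩ := hx
      have h2 := card_inverting hp hp2 hP hC hN hg hg1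
      rw [Nat.card_eq_fintype_card, Fintype.card_subtype] at h2
      have h3 : Finset.filter (fun v => x * v⁻¹ ∈ K) K =
          Finset.univ.filter (fun v => orderOf v = 2 ∧ orderOf (x * v⁻¹) = 2) := by
        ext v
        simp only [hK, Finset.mem_filter, Finset.mem_univ, true_and, hconj]
      rw [h3, h2]
  obtain ⟨d, hd, hd'⟩ := isIrr_apply_one hα
  obtain ⟨a, ha, -⟩ := Cfsg.Agent.S0944.result (⟨α, hα⟩ : IrrCharacter G) t ht
  have ha' : α t = (a : ℂ) := ha
  have ht2 : t ^ 2 = 1 := ht ▸ pow_orderOf_eq_one t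
  have hβt : 1 + α t = β t := hv t (fun x hx => conj_mem_eq_one hp hp2 hP ht2 x hx)
  refine ⟨d, a, hd, ?_⟩
  rw [hfirst, hdeg, ← hβt, hd', ha', hcardK] at hsecond
  have hd0 : (d : ℂ) ≠ 0 := by exact_mod_cast hd.ne'
  have hd1 : (d : ℂ) + 1 ≠ 0 := by exact_mod_cast (Nat.succ_ne_zero d)
  field_simp at hsecond
  have h5 : ((p * Nat.card G * (d * (d + 1)) : ℕ) : ℂ) =
      (((d : ℂ) - a) * Nat.card {t : G // orderOf t = 2}) ^ 2 := by
    push_cast
    linear_combination -hsecond
  exact_mod_cast h5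

/-- For some `d ≥ 1`, `p |G| d (d+1)` is the square of a multiple of the number of involutions. -/
theorem exists_sq [Finite G] [IsSimpleGroup G] :
    ∃ d m : ℕ, 1 ≤ d ∧
      p * Nat.card G * (d * (d + 1)) = (m * Nat.card {t : G // orderOf t = 2}) ^ 2 := by
  obtain ⟨d, a, hd, h⟩ := exists_sq_int (G := G) hp hp2 hP hC hN
  refine ⟨d, ((d : ℤ) - a).natAbs, hd, ?_⟩
  have h2 : ((((d : ℤ) - a).natAbs * Nat.card {t : G // orderOf t = 2} : ℕ) : ℤ) ^ 2 =
      (((d : ℤ) - a) * Nat.card {t : G // orderOf t = 2}) ^ 2 := by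
    rw [Nat.cast_mul, Int.natCast_natAbs, mul_pow, sq_abs, ← mul_pow]
  rw [← h] at h2
  exact_mod_cast h2.symm

/-- `p |G|` is not a perfect square. -/
theorem not_isSquare [Finite G] [IsSimpleGroup G] : ¬ IsSquare (p * Nat.card G) := by
  rintro ⟨r, hr⟩
  obtain ⟨d, m, hd, h⟩ := exists_sq (G := G) hp hp2 hP hC hN
  rw [hr] at h
  set q := m * Nat.card {t : G // orderOf t = 2} with hq
  have hr0 : 0 < r := by
    rcases Nat.eq_zero_or_pos r with h0 | h0
    · rw [h0, mul_zero] at hr
      exact absurd hr (mul_ne_zero hp.ne_zero Nat.card_pos.ne')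
    · exact h0
  -- `r² d (d+1) = q²`, so `r ∣ q`
  have h1 : r ^ 2 ∣ q ^ 2 := ⟨d * (d + 1), by rw [← h]; ring⟩
  obtain ⟨c, hc⟩ := (Nat.pow_dvd_pow_iff two_ne_zero).1 h1
  rw [hc] at h
  have h2 : d * (d + 1) = c * c := by
    have : r * r * (d * (d + 1)) = r * r * (c * c) := by rw [h]; ring
    exact Nat.eq_of_mul_eq_mul_left (Nat.mul_pos hr0 hr0) this
  rcases Nat.lt_or_ge d c with h3 | h3
  · have h4 : d + 1 ≤ c := h3
    have := Nat.mul_le_mul h4 h4
    nlinarith
  · have := Nat.mul_le_mul h3 h3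
    nlinarith

/-- A nontrivial element of `P` fixes exactly one coset of `N(P)`. -/
theorem card_fixedBy_eq_one [Finite G] {y : G} (hy : y ∈ P) (hy1 : y ≠ 1) :
    Nat.card (MulAction.fixedBy (G ⧸ normalizer (P : Set G)) y) = 1 := by
  rw [Nat.card_eq_one_iff_unique]
  refine ⟨⟨?_⟩, ⟨⟨((1 : G) : G ⧸ normalizer (P : Set G)), ?_⟩⟩⟩
  · have key : ∀ x : MulAction.fixedBy (G ⧸ normalizer (P : Set G)) y,
        x.1 = ((1 : G) : G ⧸ normalizer (P : Set G)) := by
      rintro ⟨x, hx⟩
      obtain ⟨g, rfl⟩ := QuotientGroup.mk_surjective x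
      have h1 : ((y * g : G) : G ⧸ normalizer (P : Set G)) = (g : G ⧸ normalizer (P : Set G)) := hx
      rw [QuotientGroup.eq] at h1
      have h2 : g⁻¹ * y * g ∈ normalizer (P : Set G) := by
        have := inv_mem h1
        have e : ((y * g)⁻¹ * g)⁻¹ = g⁻¹ * y * g := by group
        rwa [e] at this
      have h3 : g⁻¹ * y * g ∈ P := by
        by_contra h4
        have h5 := orderOf_eq_two hp hp2 hP hC hN h2 h4
        rw [orderOf_conj] at h5
        have h6 : y ^ 2 = 1 := orderOf_dvd_iff_pow_eq_one.1 h5.dvd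
        exact hy1 (sq_ne_one_of_mem hp hp2 hP hy h6)
      have h7 : g⁻¹ ∈ normalizer (P : Set G) :=
        mem_normalizer_of_conj_mem hp hP hy hy1 (by rwa [inv_inv])
      change (g : G ⧸ normalizer (P : Set G)) = ((1 : G) : G ⧸ normalizer (P : Set G))
      rw [QuotientGroup.eq, mul_one]
      exact h7
    intro a b
    exact Subtype.ext ((key a).trans (key b).symm)
  · change ((y * 1 : G) : G ⧸ normalizer (P : Set G)) = ((1 : G) : G ⧸ normalizer (P : Set G))
    rw [QuotientGroup.eq, mul_one, mul_one]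
    exact inv_mem (le_normalizer hy)

/-- `p` times the number of `P`-orbits on the cosets of `N(P)` is `n + p - 1`. -/
theorem card_orbits [Finite G] :
    Nat.card (MulAction.orbitRel.Quotient P (G ⧸ normalizer (P : Set G))) * p =
      (normalizer (P : Set G)).index + (p - 1) := by
  classical
  have := Fintype.ofFinite G
  have := Fintype.ofFinite (G ⧸ normalizer (P : Set G))
  have := Fintype.ofFinite (MulAction.orbitRel.Quotient P (G ⧸ normalizer (P : Set G)))
  have : ∀ a : P, Fintype (MulAction.fixedBy (G ⧸ normalizer (P : Set G)) a) :=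
    fun a => Fintype.ofFinite _
  have h := MulAction.sum_card_fixedBy_eq_card_orbits_mul_card_group P
    (G ⧸ normalizer (P : Set G))
  rw [← Finset.add_sum_erase Finset.univ _ (Finset.mem_univ (1 : P))] at h
  have h1 : Fintype.card (MulAction.fixedBy (G ⧸ normalizer (P : Set G)) (1 : P)) =
      (normalizer (P : Set G)).index := by
    rw [← Nat.card_eq_fintype_card, Subgroup.index]
    refine Nat.card_congr ((Equiv.setCongr ?_).trans (Equiv.Set.univ _))
    ext x
    simp
  have h2 : ∀ a ∈ Finset.univ.erase (1 : P),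
      Fintype.card (MulAction.fixedBy (G ⧸ normalizer (P : Set G)) a) = 1 := by
    intro a ha
    rw [← Nat.card_eq_fintype_card]
    exact card_fixedBy_eq_one hp hp2 hP hC hN a.2
      (fun h => (Finset.mem_erase.1 ha).1 (Subtype.ext h))
  rw [h1, Finset.sum_congr rfl h2, Finset.sum_const, Finset.card_erase_of_mem (Finset.mem_univ _),
    Finset.card_univ, smul_eq_mul, mul_one, ← Nat.card_eq_fintype_card (α := P), hP] at h
  rw [Nat.card_eq_fintype_card]
  exact h.symm

omit hp hp2 hP hC hN in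
/-- In a finite group with `|G| = 2^k m`, `k ≥ 1`, some involution has at most `m` conjugates. -/
theorem exists_involution_index_dvd [Finite G] {k m : ℕ} (hG : Nat.card G = 2 ^ k * m)
    (hk : k ≠ 0) (hm : Odd m) :
    ∃ t : G, orderOf t = 2 ∧ (centralizer ({t} : Set G)).index ∣ m := by
  have h2 : Fact (Nat.Prime 2) := ⟨Nat.prime_two⟩
  obtain ⟨S⟩ : Nonempty (Sylow 2 G) := inferInstance
  have hS : Nat.card S = 2 ^ k := by
    rw [S.card_eq_multiplicity, hG, Nat.factorization_mul (by positivity) hm.pos.ne',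
      Nat.factorization_pow]
    simp [Nat.prime_two.factorization_self,
      Nat.factorization_eq_zero_of_not_dvd hm.not_two_dvd_nat]
  have hnt : Nontrivial S := by
    rw [← Finite.one_lt_card_iff_nontrivial, hS]
    exact Nat.one_lt_two_pow hk
  have hcn : Nontrivial (center S) := S.isPGroup'.center_nontrivial
  have hdvd : 2 ∣ Nat.card (center S) := by
    have h3 : IsPGroup 2 (center S) := S.isPGroup'.to_subgroup _
    obtain ⟨j, hj⟩ := IsPGroup.iff_card.1 h3
    have : j ≠ 0 := by
      rintro rfl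
      rw [pow_zero] at hj
      have := Finite.one_lt_card_iff_nontrivial.2 hcn
      omega
    rw [hj]
    exact dvd_pow_self 2 this
  obtain ⟨z, hz⟩ := exists_prime_orderOf_dvd_card' 2 hdvd
  refine ⟨((z : S) : G), ?_, ?_⟩
  · rw [Subgroup.orderOf_coe, Subgroup.orderOf_coe, hz]
  · have hle : (S : Subgroup G) ≤ centralizer ({((z : S) : G)} : Set G) := by
      intro s hs
      rw [mem_centralizer_singleton_iff]
      have h4 := (mem_center_iff.1 z.2) ⟨s, hs⟩
      have h5 := congrArg (fun w : S => (w : G)) h4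
      exact h5
    have h6 := Subgroup.card_dvd_of_le hle
    have h6' : 2 ^ k ∣ Nat.card (centralizer ({((z : S) : G)} : Set G)) := by
      rw [← hS]; exact h6
    obtain ⟨c, hc⟩ := h6'
    have h7 := (centralizer ({((z : S) : G)} : Set G)).card_mul_index
    rw [hc, hG, mul_assoc] at h7
    exact ⟨c, by rw [mul_comm]; exact (Nat.eq_of_mul_eq_mul_left (by positivity) h7).symm⟩

/-- The bound `p |G| ≤ 2 m (n + p - 1)`, where `m` is the odd part of `|G|` and `n` is the
number of conjugates of `P`. -/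
theorem card_le [Finite G] [IsSimpleGroup G] {k m : ℕ} (hG : Nat.card G = 2 ^ k * m)
    (hm : Odd m) :
    p * Nat.card G ≤ 2 * m * ((normalizer (P : Set G)).index + (p - 1)) := by
  classical
  have hk : k ≠ 0 := by
    rintro rfl
    rw [pow_zero, one_mul] at hG
    have h1 : 2 ∣ Nat.card G := by
      have h2 := Subgroup.card_subgroup_dvd_card (normalizer (P : Set G))
      rw [hN] at h2
      exact (Dvd.intro _ rfl).trans h2
    rw [hG] at h1
    exact hm.not_two_dvd_nat h1
  obtain ⟨s, hs, hsm⟩ := exists_involution_index_dvd hG hk hm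
  obtain ⟨t, htN, htP⟩ : ∃ t : G, t ∈ normalizer (P : Set G) ∧ t ∉ P := by
    have h1 := card_diff hp hP hN
    have h2 : Nat.card {x : G // x ∈ normalizer (P : Set G) ∧ x ∉ P} ≠ 0 := by
      rw [h1]; exact hp.ne_zero
    obtain ⟨⟨x, hx, hxP⟩⟩ := (Nat.card_ne_zero.1 h2).1
    exact ⟨x, hx, hxP⟩
  have ht2 := orderOf_eq_two hp hp2 hP hC hN htN htP
  have hst : IsConj s t := isConj_of_orderOf_eq_two hp hp2 hP hC hN hs ht2
  have hI : Nat.card {g : G // IsConj t g} ≤ m := by
    have h1 : Nat.card {g : G // IsConj t g} = Nat.card {g : G // IsConj s g} :=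
      Nat.card_congr (Equiv.subtypeEquivRight fun g => ⟨fun h => hst.trans h, fun h =>
        hst.symm.trans h⟩)
    have := Fintype.ofFinite G
    have h2 := Cfsg.Agent.Characters.ClassMul.card_filter_isConj s
    rw [h1, Nat.card_eq_fintype_card, Fintype.card_subtype]
    have h3 : (Finset.univ.filter (fun g => IsConj s g)).card =
        (centralizer ({s} : Set G)).index := by
      rw [← h2]
    rw [h3]
    exact Nat.le_of_dvd hm.pos hsm
  have h1019 := Cfsg.Agent.S1019.result (normalizer (P : Set G)) t htN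
  have hcnt : Nat.card {g : G // IsConj t g ∧ g ∈ normalizer (P : Set G)} = p := by
    rw [← card_diff hp hP hN]
    refine Nat.card_congr (Equiv.subtypeEquivRight fun g => ⟨fun h => ⟨h.2, ?_⟩, fun h =>
      ⟨isConj_of_mem hp hp2 hP hC hN htN htP h.1 h.2, h.1⟩⟩)
    rw [← orderOf_eq_two_iff hp hp2 hP hC hN h.2]
    obtain ⟨c, hc⟩ := isConj_iff.1 h.1
    rw [← hc, ← ht2]
    have := orderOf_conj c⁻¹ t
    rwa [inv_inv] at this
  rw [hcnt] at h1019
  have hfix : Nat.card (MulAction.fixedBy (G ⧸ normalizer (P : Set G)) t) ≤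
      Nat.card (MulAction.orbitRel.Quotient P (G ⧸ normalizer (P : Set G))) :=
    Cfsg.Agent.SmallSimple.SylowPrime.card_fixedBy_le_card_orbits hp hP htN
      (by rw [hC]; exact htP)
  have horb := card_orbits (G := G) hp hp2 hP hC hN
  have hGn : Nat.card G = 2 * p * (normalizer (P : Set G)).index := by
    rw [← hN]; exact (card_mul_index _).symm
  set n := (normalizer (P : Set G)).index
  set f := Nat.card (MulAction.fixedBy (G ⧸ normalizer (P : Set G)) t)
  set o := Nat.card (MulAction.orbitRel.Quotient P (G ⧸ normalizer (P : Set G)))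
  set i := Nat.card {g : G // IsConj t g}
  calc p * Nat.card G = 2 * (p * (n * p)) := by rw [hGn]; ring
    _ = 2 * (p * (f * i)) := by rw [h1019]
    _ ≤ 2 * (p * (o * m)) := by gcongr
    _ = 2 * m * (o * p) := by ring
    _ = 2 * m * (n + (p - 1)) := by rw [horb]

end

end Cfsg.Agent.SmallSimple.DihedralNormalizer
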