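import Mathlib
import Cfsg.Agent.SmallSimple.Simple504
import Cfsg.Agent.SmallSimple.ClassDvd
set_option linter.all false

-- part: SmallSimple/Simple504B
section
/-!
A simple group of order 504 has no element of order 4.
-/

set_option autoImplicit false

namespace Cfsg.Agent.SmallSimple.Simple504B

open Subgroup MulAction Cfsg.Agent.SmallSimple.PSqQR Cfsg.Agent.SmallSimple.BurnsideNC
open Cfsg.Agent.SmallSimple.Simple504 Cfsg.Agent.SmallSimple.ClassDvd

variable {G : Type*} [Group G] [Finite G] [IsSimpleGroup G] (h : Nat.card G = 504)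
include h

/-- If there is an element `v` of order 4, all involutions are conjugate to `v ^ 2`. -/
theorem isConj_of_orderOf_four {v : G} (hv : orderOf v = 4) {w : G} (hw : orderOf w = 2) :
    IsConj w (v ^ 2) := by
  by_contra hcon
  have hidx : (zpowers v).index = 2 * 63 := by
    have h1 := (zpowers v).card_mul_index
    rw [Nat.card_zpowers, hv, h] at h1
    omega
  obtain ⟨f, hf⟩ := Cfsg.Agent.Transfer.ThompsonTransfer.exists_hom_eq_neg_one (zpowers v) hidx
    (by decide) w (by rw [← hw, pow_orderOf_eq_one]) (by
    intro g hg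
    apply hcon
    rw [isConj_iff]
    refine ⟨g, ?_⟩
    have ho : orderOf (g * w * g⁻¹) = 2 := by rw [orderOf_conj, hw]
    classical
    obtain ⟨k, hk1, hk2⟩ := Finset.mem_image.1 (mem_zpowers_iff_mem_range_orderOf.1 hg)
    rw [Finset.mem_range, hv] at hk1
    rw [← hk2] at ho ⊢
    interval_cases k
    · simp at ho
    · rw [pow_one, hv] at ho
      norm_num at ho
    · rfl
    · exfalso
      rw [orderOf_pow, hv] at ho
      norm_num at ho)
  rw [Parity.unitsInt_hom_eq_one (by rw [h]; norm_num) f w] at hf
  exact absurd hf (by decide)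

/-- If there is an element of order 4 every involution has centralizer of order 8. -/
theorem card_centralizer_of_four {v : G} (hv : orderOf v = 4) {w : G} (hw : orderOf w = 2) :
    Nat.card (centralizer ({w} : Set G)) = 8 := by
  have f2 : Fact (Nat.Prime 2) := ⟨by norm_num⟩
  have hG2 : Nat.card G = 63 * 2 ^ 3 := by rw [h]; norm_num
  -- upper bound
  obtain ⟨P⟩ : Nonempty (Sylow 7 G) := inferInstance
  obtain ⟨t, ht, htN⟩ := exists_involution h P
  have hle := card_centralizer_involution_le h P ht htN
  rw [card_centralizer_conj (isConj_of_orderOf_four h hv ht)] at hle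
  rw [card_centralizer_conj (isConj_of_orderOf_four h hv hw)]
  -- lower bound
  obtain ⟨S⟩ : Nonempty (Sylow 2 G) := inferInstance
  have hS : Nat.card S = 8 := by rw [card_sylow_of_card_eq hG2 (by norm_num) S]; norm_num
  have hnt : Nontrivial S := by
    rw [← Finite.one_lt_card_iff_nontrivial]
    have : Nat.card S = 8 := hS
    omega
  have hc := S.isPGroup'.center_nontrivial
  have hcard : 2 ∣ Nat.card (center S) := by
    have h1 : IsPGroup 2 (center S) := S.isPGroup'.to_subgroup _
    have h2 := h1.card_eq_or_dvd
    rcases h2 with h2 | h2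
    · exfalso
      have := Finite.one_lt_card_iff_nontrivial.2 hc
      omega
    · exact h2
  obtain ⟨z, hz⟩ := exists_prime_orderOf_dvd_card' (G := center S) 2 hcard
  have hz' : orderOf ((z : S) : G) = 2 := by
    rw [Subgroup.orderOf_coe, Subgroup.orderOf_coe, hz]
  have hle2 : (S : Subgroup G) ≤ centralizer ({((z : S) : G)} : Set G) := by
    intro x hx
    rw [mem_centralizer_singleton]
    have h1 := (mem_center_iff.mp z.2) ⟨x, hx⟩
    exact (congrArg Subtype.val h1).symm
  have hdvd := Subgroup.card_dvd_of_le hle2
  have hS' : Nat.card (S : Subgroup G) = 8 := hS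
  rw [hS', card_centralizer_conj (isConj_of_orderOf_four h hv hz')] at hdvd
  have hpos : 0 < Nat.card (centralizer ({v ^ 2} : Set G)) := Nat.card_pos
  omega

/-- orders of elements if there is an element of order 4 -/
theorem orderOf_dvd_of_four {v : G} (hv : orderOf v = 4) (g : G) :
    orderOf g ∣ 8 ∨ orderOf g ∣ 7 ∨ orderOf g ∣ 9 := by
  have f2 : Fact (Nat.Prime 2) := ⟨by norm_num⟩
  have f7 : Fact (Nat.Prime 7) := ⟨by norm_num⟩
  have hg : orderOf g ∣ 504 := h ▸ orderOf_dvd_natCard g
  have hpos : 0 < orderOf g := orderOf_pos g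
  by_cases h2 : 2 ∣ orderOf g
  · left
    have hw : orderOf (g ^ (orderOf g / 2)) = 2 := orderOf_pow_orderOf_div hpos.ne' h2
    have hmem : g ∈ centralizer ({g ^ (orderOf g / 2)} : Set G) := by
      rw [mem_centralizer_singleton]
      exact ((Commute.refl g).pow_left _).eq
    have := Subgroup.orderOf_dvd_natCard _ hmem
    rwa [card_centralizer_of_four h hv hw] at this
  · by_cases h7 : 7 ∣ orderOf g
    · right; left
      have hw : orderOf (g ^ (orderOf g / 7)) = 7 := orderOf_pow_orderOf_div hpos.ne' h7
      exact orderOf_dvd_seven h hw ((Commute.refl g).pow_left _)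
    · right; right
      have c2 : Nat.Coprime (orderOf g) 8 := by
        have : Nat.Coprime (orderOf g) 2 := by
          rw [Nat.coprime_comm, Nat.Prime.coprime_iff_not_dvd Nat.prime_two]; exact h2
        have h8 : (8 : ℕ) = 2 ^ 3 := by norm_num
        rw [h8]
        exact Nat.Coprime.pow_right 3 this
      have c7 : Nat.Coprime (orderOf g) 7 := by
        rw [Nat.coprime_comm, Nat.Prime.coprime_iff_not_dvd (by norm_num)]; exact h7
      have h504 : (504 : ℕ) = 8 * (7 * 9) := by norm_num
      rw [h504] at hg
      exact c7.dvd_of_dvd_mul_left (c2.dvd_of_dvd_mul_left hg)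

/-- A simple group of order 504 has no element of order 4. -/
theorem orderOf_ne_four (v : G) : orderOf v ≠ 4 := by
  intro hv
  have f2 : Fact (Nat.Prime 2) := ⟨by norm_num⟩
  have f3 : Fact (Nat.Prime 3) := ⟨by norm_num⟩
  have f7 : Fact (Nat.Prime 7) := ⟨by norm_num⟩
  have hord := orderOf_dvd_of_four h hv
  have hC := fun {w : G} (hw : orderOf w = 2) => card_centralizer_of_four h hv hw
  -- the four classes of elements
  have c1 : 63 ∣ Nat.card {x : G // orderOf x = 2} := by
    apply dvd_card_of_centralizer (fun x : G => orderOf x = 2)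
      (fun g x hx => by rw [orderOf_conj, hx]) 63 8 (by rw [h])
    intro x hx
    rw [hC hx]
  have c2 : 63 ∣ Nat.card {x : G // orderOf x = 4 ∨ orderOf x = 8} := by
    apply dvd_card_of_centralizer (fun x : G => orderOf x = 4 ∨ orderOf x = 8)
      (fun g x hx => by rw [orderOf_conj]; exact hx) 63 8 (by rw [h])
    intro x hx
    have h2 : 2 ∣ orderOf x := by omega
    have hw : orderOf (x ^ (orderOf x / 2)) = 2 :=
      orderOf_pow_orderOf_div (orderOf_pos x).ne' h2
    rw [← hC hw]
    exact Subgroup.card_dvd_of_le (centralizer_pow_le x _)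
  have c7 : 72 ∣ Nat.card {x : G // orderOf x = 7} := by
    apply dvd_card_of_centralizer (fun x : G => orderOf x = 7)
      (fun g x hx => by rw [orderOf_conj, hx]) 72 7 (by rw [h])
    intro x hx
    rw [card_centralizer_of_orderOf_seven h hx]
  have c3 : 56 ∣ Nat.card {x : G // orderOf x = 3 ∨ orderOf x = 9} := by
    apply dvd_card_of_centralizer (fun x : G => orderOf x = 3 ∨ orderOf x = 9)
      (fun g x hx => by rw [orderOf_conj]; exact hx) 56 9 (by rw [h])
    intro x hx
    have hd : Nat.card (centralizer ({x} : Set G)) ∣ 504 := by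
      rw [← h]; exact Subgroup.card_subgroup_dvd_card _
    have n2 : ¬ 2 ∣ Nat.card (centralizer ({x} : Set G)) := by
      intro hd2
      obtain ⟨w, hw⟩ := exists_prime_orderOf_dvd_card' (G := centralizer ({x} : Set G)) 2 hd2
      have hw' : orderOf (w : G) = 2 := (Subgroup.orderOf_coe w).trans hw
      have hxw : x ∈ centralizer ({(w : G)} : Set G) := by
        rw [mem_centralizer_singleton]
        exact (mem_centralizer_singleton.1 w.2).symm
      have := Subgroup.orderOf_dvd_natCard _ hxw
      rw [hC hw'] at this
      rcases hx with hx | hx <;> rw [hx] at this <;> norm_num at this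
    have n7 : ¬ 7 ∣ Nat.card (centralizer ({x} : Set G)) := by
      intro hd2
      obtain ⟨w, hw⟩ := exists_prime_orderOf_dvd_card' (G := centralizer ({x} : Set G)) 7 hd2
      have hw' : orderOf (w : G) = 7 := (Subgroup.orderOf_coe w).trans hw
      have := orderOf_dvd_seven h hw' (show Commute (w : G) x from (mem_centralizer_singleton.1 w.2).symm)
      rcases hx with hx | hx <;> rw [hx] at this <;> norm_num at this
    have k2 : Nat.Coprime (Nat.card (centralizer ({x} : Set G))) 8 := by
      have : Nat.Coprime (Nat.card (centralizer ({x} : Set G))) 2 := by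
        rw [Nat.coprime_comm, Nat.Prime.coprime_iff_not_dvd Nat.prime_two]; exact n2
      have h8 : (8 : ℕ) = 2 ^ 3 := by norm_num
      rw [h8]
      exact Nat.Coprime.pow_right 3 this
    have k7 : Nat.Coprime (Nat.card (centralizer ({x} : Set G))) 7 := by
      rw [Nat.coprime_comm, Nat.Prime.coprime_iff_not_dvd (by norm_num)]; exact n7
    have h504 : (504 : ℕ) = 8 * (7 * 9) := by norm_num
    rw [h504] at hd
    exact k7.dvd_of_dvd_mul_left (k2.dvd_of_dvd_mul_left hd)
  -- the total count
  have hsum : Nat.card G = 1 + Nat.card {x : G // orderOf x = 2}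
      + Nat.card {x : G // orderOf x = 4 ∨ orderOf x = 8}
      + Nat.card {x : G // orderOf x = 7} + Nat.card {x : G // orderOf x = 3 ∨ orderOf x = 9} := by
    classical
    have _ : Fintype G := Fintype.ofFinite G
    have e1 : 1 = ∑ x : G, (if orderOf x = 1 then 1 else 0) := by
      rw [← Finset.card_filter]
      have : (Finset.univ.filter (fun x : G => orderOf x = 1)) = {1} := by
        ext x
        simp
      rw [this, Finset.card_singleton]
    rw [Nat.card_eq_fintype_card, Nat.card_eq_fintype_card, Nat.card_eq_fintype_card,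
      Nat.card_eq_fintype_card, Nat.card_eq_fintype_card,
      Fintype.card_subtype, Fintype.card_subtype, Fintype.card_subtype, Fintype.card_subtype,
      Finset.card_filter, Finset.card_filter, Finset.card_filter, Finset.card_filter]
    conv_rhs => rw [e1]
    rw [← Finset.sum_add_distrib, ← Finset.sum_add_distrib, ← Finset.sum_add_distrib,
      ← Finset.sum_add_distrib, ← Finset.card_univ, Finset.card_eq_sum_ones]
    apply Finset.sum_congr rfl
    intro x _
    have hpos := orderOf_pos x
    have hcases : orderOf x = 1 ∨ orderOf x = 2 ∨ orderOf x = 4 ∨ orderOf x = 8 ∨ orderOf x = 7 ∨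
        orderOf x = 3 ∨ orderOf x = 9 := by
      rcases hord x with hx | hx | hx
      · have := Nat.le_of_dvd (by norm_num) hx
        set n := orderOf x
        clear_value n
        interval_cases n <;> omega
      · have := Nat.le_of_dvd (by norm_num) hx
        set n := orderOf x
        clear_value n
        interval_cases n <;> omega
      · have := Nat.le_of_dvd (by norm_num) hx
        set n := orderOf x
        clear_value n
        interval_cases n <;> omega
    rcases hcases with hx | hx | hx | hx | hx | hx | hx <;> simp [hx]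
  -- nonemptiness
  have p1 : 0 < Nat.card {x : G // orderOf x = 2} := by
    have : Nonempty {x : G // orderOf x = 2} := ⟨⟨v ^ 2, by
      rw [orderOf_pow, hv]; norm_num⟩⟩
    exact Nat.card_pos
  have p2 : 0 < Nat.card {x : G // orderOf x = 4 ∨ orderOf x = 8} := by
    have : Nonempty {x : G // orderOf x = 4 ∨ orderOf x = 8} := ⟨⟨v, Or.inl hv⟩⟩
    exact Nat.card_pos
  rw [h] at hsum
  omega

end Cfsg.Agent.SmallSimple.Simple504B
end

-- part: SmallSimple/Simple504C
section
/-!
A simple group of order 504: the Sylow `2`-subgroup is elementary abelian with normalizer of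
order 56, and the group is isomorphic to `PSL(2, 8)`.
-/

set_option autoImplicit false

namespace Cfsg.Agent.SmallSimple.Simple504C

open Subgroup MulAction Cfsg.Agent.SmallSimple.PSqQR Cfsg.Agent.SmallSimple.BurnsideNC
open Cfsg.Agent.SmallSimple.Simple504 Cfsg.Agent.SmallSimple.ClassDvd
open Cfsg.Agent.SmallSimple.Simple504B

variable {G : Type*} [Group G] [Finite G] [IsSimpleGroup G] (h : Nat.card G = 504)
include h

theorem card_sylow_two_eq (S : Sylow 2 G) : Nat.card (S : Subgroup G) = 8 := by
  have f2 : Fact (Nat.Prime 2) := ⟨by norm_num⟩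
  have hG2 : Nat.card G = 63 * 2 ^ 3 := by rw [h]; norm_num
  rw [card_sylow_of_card_eq hG2 (by norm_num) S]; norm_num

theorem mul_self_of_mem (S : Sylow 2 G) {s : G} (hs : s ∈ (S : Subgroup G)) : s * s = 1 := by
  have h1 := Subgroup.orderOf_dvd_natCard _ hs
  rw [card_sylow_two_eq h S] at h1
  have h4 := orderOf_ne_four h s
  have h8 : orderOf s ≠ 8 := by
    intro h8
    apply orderOf_ne_four h (s ^ 2)
    rw [orderOf_pow, h8]
    norm_num
  have hle := Nat.le_of_dvd (by norm_num) h1
  have h2 : orderOf s ∣ 2 := by
    have hpos := orderOf_pos s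
    set n := orderOf s
    clear_value n
    interval_cases n <;> omega
  rw [← pow_two]
  exact orderOf_dvd_iff_pow_eq_one.1 h2

theorem comm_of_mem (S : Sylow 2 G) {a b : G} (ha : a ∈ (S : Subgroup G))
    (hb : b ∈ (S : Subgroup G)) : a * b = b * a := by
  have h1 := mul_self_of_mem h S ha
  have h2 := mul_self_of_mem h S hb
  have h3 := mul_self_of_mem h S (mul_mem ha hb)
  have ha : (a : G)⁻¹ = a := inv_eq_of_mul_eq_one_left h1
  have hb : (b : G)⁻¹ = b := inv_eq_of_mul_eq_one_left h2
  have hab : ((a : G) * b)⁻¹ = a * b := inv_eq_of_mul_eq_one_left h3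
  rw [← hab, mul_inv_rev, ha, hb]

theorem not_comm : ¬ ∀ a b : G, a * b = b * a := by
  intro hc
  let _ : CommGroup G := { (inferInstance : Group G) with mul_comm := hc }
  have := IsSimpleGroup.prime_card (α := G)
  rw [h] at this
  norm_num at this

open scoped IsMulCommutative in
/-- the normalizer of a Sylow `2`-subgroup has no fixed point -/
theorem not_normalizer_le (S : Sylow 2 G) {u : G} (hu : u ∈ (S : Subgroup G)) (hu1 : u ≠ 1) :
    ¬ normalizer (S : Set G) ≤ centralizer ({u} : Set G) := by
  intro hle
  have f2 : Fact (Nat.Prime 2) := ⟨by norm_num⟩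
  have : IsMulCommutative S := ⟨⟨fun a b => Subtype.ext (comm_of_mem h S a.2 b.2)⟩⟩
  have key : ∀ (k : ℕ) (g₀ : G), g₀⁻¹ * u ^ k * g₀ ∈ (S : Subgroup G) → g₀⁻¹ * u ^ k * g₀ = u ^ k := by
    intro k g₀ hk
    obtain ⟨n, hn, hn2⟩ := S.conj_eq_normalizer_conj_of_mem (u ^ k) g₀
      (Subgroup.pow_mem (S : Subgroup G) hu k) hk
    rw [hn2]
    have h1 := mem_centralizer_singleton.1 (hle hn)
    have h2 : Commute (u ^ k) n := Commute.pow_left h1 k
    rw [mul_assoc, h2.eq, inv_mul_cancel_left]
  have h1 := MonoidHom.transfer_eq_pow (MonoidHom.id (S : Subgroup G)) u key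
  have h2 := Parity.commHom_eq_one (not_comm h) (MonoidHom.transfer (MonoidHom.id (S : Subgroup G))) u
  rw [h2] at h1
  have h3 : (1 : G) = u ^ (S : Subgroup G).index := congrArg Subtype.val h1
  have hidx : (S : Subgroup G).index = 63 := by
    have := (S : Subgroup G).card_mul_index
    rw [card_sylow_two_eq h S, h] at this
    omega
  rw [hidx] at h3
  have h4 := mul_self_of_mem h S hu
  rw [← pow_two] at h4
  apply hu1
  have h5 : u ^ 63 = u ^ (2 * 31 + 1) := by norm_num
  rw [h5, pow_add, pow_mul, h4, one_pow, pow_one, one_mul] at h3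
  exact h3.symm

/-- There is a Sylow `2`-subgroup which is the centralizer of one of its elements. -/
theorem exists_sylow_centralizer : ∃ (S : Sylow 2 G) (t : G), t ∈ (S : Subgroup G) ∧ t ≠ 1 ∧
    centralizer ({t} : Set G) = (S : Subgroup G) := by
  have f2 : Fact (Nat.Prime 2) := ⟨by norm_num⟩
  obtain ⟨P⟩ : Nonempty (Sylow 7 G) := inferInstance
  obtain ⟨t, ht, htN⟩ := exists_involution h P
  have hle := card_centralizer_involution_le h P ht htN
  have hpg : IsPGroup 2 (zpowers t) :=
    IsPGroup.of_card (n := 1) (by rw [Nat.card_zpowers, ht, pow_one])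
  obtain ⟨S, hS⟩ := hpg.exists_le_sylow
  have htS : t ∈ (S : Subgroup G) := hS (mem_zpowers t)
  have hSC : (S : Subgroup G) ≤ centralizer ({t} : Set G) := by
    intro s hs
    rw [mem_centralizer_singleton]
    exact comm_of_mem h S htS hs
  refine ⟨S, t, htS, ?_, ?_⟩
  · rintro rfl
    rw [orderOf_one] at ht
    norm_num at ht
  · symm
    apply Subgroup.eq_of_le_of_card_ge hSC
    have h1 := Subgroup.card_dvd_of_le hSC
    rw [card_sylow_two_eq h S] at h1 ⊢
    have hpos : 0 < Nat.card (centralizer ({t} : Set G)) := Nat.card_pos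
    omega

/-- the normalizer of a Sylow `2`-subgroup has order 56 -/
theorem card_normalizer_two (S : Sylow 2 G) (t : G) (htS : t ∈ (S : Subgroup G)) (ht1 : t ≠ 1)
    (hC : centralizer ({t} : Set G) = (S : Subgroup G)) :
    Nat.card (normalizer ((S : Subgroup G) : Set G)) = 56 := by
  have f2 : Fact (Nat.Prime 2) := ⟨by norm_num⟩
  have f3 : Fact (Nat.Prime 3) := ⟨by norm_num⟩
  have hS8 := card_sylow_two_eq h S
  have hSle : (S : Subgroup G) ≤ normalizer ((S : Subgroup G) : Set G) := le_normalizer
  have h8 := Subgroup.card_dvd_of_le hSle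
  rw [hS8] at h8
  have hmul := card_sylow_mul_card_normalizer S
  have hmul' : Nat.card (Sylow 2 G) * Nat.card (normalizer ((S : Subgroup G) : Set G)) = 504 := by
    rw [← h]; exact hmul
  -- upper bound
  have hle : Nat.card (normalizer ((S : Subgroup G) : Set G)) ≤ 56 := by
    let N := normalizer ((S : Subgroup G) : Set G)
    let t' : (S : Subgroup G) := ⟨t, htS⟩
    have h1 : (stabilizer N t').index * Nat.card (stabilizer N t') = Nat.card N :=
      Subgroup.index_mul_card _
    have h2 : (stabilizer N t').index = Nat.card (orbit N t') := MulAction.index_stabilizer N t'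
    have h3 : Nat.card (orbit N t') ≤ 7 := by
      have h4 : Nat.card {x : (S : Subgroup G) // x ≠ 1} = 7 := by
        classical
        have h5 : Nat.card {x : (S : Subgroup G) // x ≠ 1} + 1 = Nat.card (S : Subgroup G) := by
          rw [← Finite.card_option]
          exact Nat.card_congr (Equiv.optionSubtypeNe _)
        rw [hS8] at h5
        omega
      rw [← h4]
      refine Nat.card_le_card_of_injective (fun x => (⟨x.1, ?_⟩ : {x : (S : Subgroup G) // x ≠ 1})) ?_
      · obtain ⟨⟨y, hy⟩, n, hn⟩ := x
        intro h6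
        have h7 : n • t' = 1 := by
          rw [← h6]; exact hn
        have h8 : (n : G) * t * (n : G)⁻¹ = 1 := congrArg Subtype.val h7
        rw [conj_eq_one_iff] at h8
        exact ht1 h8
      · intro x y hxy
        have := congrArg Subtype.val hxy
        exact Subtype.ext this
    have h4 : Nat.card (stabilizer N t') ≤ 8 := by
      have hC8 : Nat.card (centralizer ({t} : Set G)) = 8 := by rw [hC, hS8]
      refine le_trans ?_ (le_of_eq hC8)
      refine Nat.card_le_card_of_injective (fun x => (⟨((x : N) : G), ?_⟩ : centralizer ({t} : Set G))) ?_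
      · rw [mem_centralizer_singleton]
        have h5 : (x : N) • t' = t' := x.2
        have h6 : ((x : N) : G) * t * ((x : N) : G)⁻¹ = t := congrArg Subtype.val h5
        exact (mul_inv_eq_iff_eq_mul.1 h6).symm
      · intro x y hxy
        have := congrArg Subtype.val hxy
        exact Subtype.ext (Subtype.ext this)
    show Nat.card N ≤ 56
    rw [← h1, h2]
    calc _ ≤ 7 * 8 := Nat.mul_le_mul h3 h4
      _ = 56 := by norm_num
  -- three cases
  obtain ⟨k, hk⟩ := h8
  have hk7 : k ≤ 7 := by omega
  have hk3 : k = 1 ∨ k = 3 ∨ k = 7 := by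
    rw [hk] at hmul'
    have : Nat.card (Sylow 2 G) * k = 63 := by
      have h1 : 8 * (Nat.card (Sylow 2 G) * k) = 8 * 63 := by
        rw [← mul_assoc, mul_comm 8, mul_assoc, hmul']
      omega
    have hkd : k ∣ 63 := Dvd.intro_left _ this
    interval_cases k <;> omega
  rcases hk3 with rfl | rfl | rfl
  · exfalso
    have hSN : (S : Subgroup G) = normalizer ((S : Subgroup G) : Set G) := by
      apply Subgroup.eq_of_le_of_card_ge hSle
      rw [hk, hS8]
    apply not_normalizer_le h S htS ht1
    have h1 : normalizer ((S : Subgroup G) : Set G) ≤ centralizer ({t} : Set G) := by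
      rw [← hSN, hC]
    exact h1
  · exfalso
    obtain ⟨x, hx⟩ := exists_prime_orderOf_dvd_card' (G := normalizer ((S : Subgroup G) : Set G)) 3
      (by rw [hk]; norm_num)
    have hfix := card_fixedBy_modEq (X := (S : Subgroup G)) hx
    rw [hS8] at hfix
    -- a fixed point different from 1
    have h1 : ∃ u : (S : Subgroup G), u ≠ 1 ∧ x • u = u := by
      by_contra hcon
      push Not at hcon
      have h2 : Nat.card (fixedBy (S : Subgroup G) x) ≤ 1 := by
        rw [Finite.card_le_one_iff_subsingleton]
        refine ⟨?_⟩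
        rintro ⟨a, ha⟩ ⟨b, hb⟩
        have ha1 : a = 1 := by
          by_contra hne
          exact hcon a hne ha
        have hb1 : b = 1 := by
          by_contra hne
          exact hcon b hne hb
        subst ha1 hb1
        rfl
      unfold Nat.ModEq at hfix
      omega
    obtain ⟨u, hu1, hxu⟩ := h1
    apply not_normalizer_le h S u.2 (fun hh => hu1 (Subtype.ext hh))
    have hxu' : (x : G) * u * (x : G)⁻¹ = u := congrArg Subtype.val hxu
    have hxC : (x : G) ∈ centralizer ({(u : G)} : Set G) ⊓ normalizer ((S : Subgroup G) : Set G) := by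
      have hx1 : (x : G) ∈ centralizer ({(u : G)} : Set G) := by
        rw [mem_centralizer_singleton]
        exact (mul_inv_eq_iff_eq_mul.1 hxu').symm
      exact ⟨hx1, x.2⟩
    have hSC : (S : Subgroup G) ≤ centralizer ({(u : G)} : Set G) ⊓ normalizer ((S : Subgroup G) : Set G) := by
      refine le_inf ?_ hSle
      intro s hs
      rw [mem_centralizer_singleton]
      exact comm_of_mem h S u.2 hs
    have d8 := Subgroup.card_dvd_of_le hSC
    rw [hS8] at d8
    have d3 := Subgroup.orderOf_dvd_natCard _ hxC
    rw [(Subgroup.orderOf_coe x).trans hx] at d3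
    have d24 : 24 ∣ Nat.card (centralizer ({(u : G)} : Set G) ⊓ normalizer ((S : Subgroup G) : Set G) : Subgroup G) := by
      have : Nat.Coprime 8 3 := by norm_num
      exact this.mul_dvd_of_dvd_of_dvd d8 d3
    have heq : centralizer ({(u : G)} : Set G) ⊓ normalizer ((S : Subgroup G) : Set G) =
        normalizer ((S : Subgroup G) : Set G) := by
      apply Subgroup.eq_of_le_of_card_ge inf_le_right
      rw [hk]
      exact Nat.le_of_dvd Nat.card_pos d24
    exact inf_eq_right.1 heq
  · exact hk

end Cfsg.Agent.SmallSimple.Simple504C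
end
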