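import Mathlib
import Cfsg.Agent.SmallSimple.BurnsideNC
import Cfsg.Agent.SmallSimple.SylowCount
import Cfsg.Agent.SmallSimple.DihedralNormalizer
set_option linter.all false

/-!
# Simple groups with `|G| = 2 p n_p`: Sylow forms of the results of `DihedralNormalizer`
-/

set_option autoImplicit false

namespace Cfsg.Agent.SmallSimple.DihedralNormSylow

open Subgroup

variable {G : Type*} [Group G] [Finite G] [IsSimpleGroup G] {p : ℕ} [hp : Fact p.Prime]

omit [IsSimpleGroup G] in
/-- the order of a Sylow subgroup -/
theorem card_sylow_eq {m : ℕ} (hG : Nat.card G = p * m) (hm : ¬ p ∣ m) (P : Sylow p G) :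
    Nat.card P = p := by
  have hm0 : m ≠ 0 := by rintro rfl; exact hm (dvd_zero p)
  rw [P.card_eq_multiplicity, hG, Nat.factorization_mul hp.out.ne_zero hm0, Finsupp.add_apply,
    hp.out.factorization_self, Nat.factorization_eq_zero_of_not_dvd hm, add_zero, pow_one]

/-- If `|P| = p`, `|N(P)| = 2p` in a simple group, then `P` is self-centralizing. -/
theorem centralizer_eq (P : Sylow p G) (hP : Nat.card P = p) (hne : Nat.card G ≠ p)
    (hN : Nat.card (normalizer (P : Set G)) = 2 * p) :
    centralizer (P : Set G) = (P : Subgroup G) := by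
  obtain ⟨e, he1, he2, he3, he4, he5, he6⟩ :=
    BurnsideNC.exists_automizer_of_card_eq_prime hne P hP
  rw [hN] at he4
  obtain ⟨c, hc⟩ := he6
  have hc1 : c = 1 := by
    rw [hc] at he4
    have h1 : 2 = c * e := by
      apply Nat.eq_of_mul_eq_mul_left hp.out.pos
      rw [mul_comm p 2, he4]; ring
    have h2 : c ∣ 2 := ⟨e, h1⟩
    rcases (Nat.dvd_prime Nat.prime_two).1 h2 with h | h
    · exact h
    · exfalso; apply he2; rw [h] at h1; omega
  rw [hc1, mul_one] at hc
  have hle : (P : Subgroup G) ≤ centralizer (P : Set G) := by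
    intro x hx
    rw [mem_centralizer_iff]
    intro y hy
    exact DihedralNormGroup.comm_of_mem hp.out hP hy hx
  exact (Subgroup.eq_of_le_of_card_ge hle (by rw [hc]; exact hP.ge)).symm

variable (hp2 : p ≠ 2) (P : Sylow p G) (hP : Nat.card P = p)
  (hn : Nat.card (Sylow p G) * (2 * p) = Nat.card G)

omit [IsSimpleGroup G] in
include hn in
theorem card_normalizer : Nat.card (normalizer (P : Set G)) = 2 * p := by
  have h := BurnsideNC.card_sylow_mul_card_normalizer P
  rw [← hn] at h
  exact Nat.eq_of_mul_eq_mul_left Nat.card_pos h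

omit [Finite G] [IsSimpleGroup G] in
include hn in
theorem card_ne_prime : Nat.card G ≠ p := by
  intro h
  rw [h] at hn
  have h1 : p * (Nat.card (Sylow p G) * 2) = p * 1 := by linarith
  have := Nat.eq_of_mul_eq_mul_left hp.out.pos h1
  omega

include hp2 P hP hn

/-- If `|G| = 2 p n_p` with `|P| = p` odd and `G` simple with odd part `m` of the order, then
`p |G| ≤ 2 m (n_p + p - 1)`. -/
theorem card_le {k m : ℕ} (hG : Nat.card G = 2 ^ k * m) (hm : Odd m) :
    p * Nat.card G ≤ 2 * m * (Nat.card (Sylow p G) + (p - 1)) := by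
  have hN := card_normalizer P hn
  have hC := centralizer_eq P hP (card_ne_prime hn) hN
  have h := DihedralNormalizer.card_le hp.out hp2 hP hC hN hG hm
  rw [P.card_eq_index_normalizer]
  exact h

/-- If `|G| = 2 p n_p` with `|P| = p` odd and `G` simple, then `p |G|` is not a square. -/
theorem not_isSquare : ¬ IsSquare (p * Nat.card G) := by
  have hN := card_normalizer P hn
  have hC := centralizer_eq P hP (card_ne_prime hn) hN
  exact DihedralNormalizer.not_isSquare hp.out hp2 hP hC hN

/-- If `|G| = 2 p n_p` with `|P| = p` odd and `G` simple, all involutions are conjugate. -/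
theorem isConj_of_orderOf_eq_two {s t : G} (hs : orderOf s = 2) (ht : orderOf t = 2) :
    IsConj s t := by
  have hN := card_normalizer P hn
  have hC := centralizer_eq P hP (card_ne_prime hn) hN
  exact DihedralNormalizer.isConj_of_orderOf_eq_two hp.out hp2 hP hC hN hs ht

/-- The perfect square relation. -/
theorem exists_sq : ∃ d m : ℕ, 1 ≤ d ∧
    p * Nat.card G * (d * (d + 1)) = (m * Nat.card {t : G // orderOf t = 2}) ^ 2 := by
  have hN := card_normalizer P hn
  have hC := centralizer_eq P hP (card_ne_prime hn) hN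
  exact DihedralNormalizer.exists_sq hp.out hp2 hP hC hN

end Cfsg.Agent.SmallSimple.DihedralNormSylow
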