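import Mathlib
import Cfsg.Prelude.Def_Characters
import Cfsg.Agent.Characters.Core
import Cfsg.Agent.SmallSimple.BrauerTypesBasic
import Cfsg.Agent.SmallSimple.SelfCentPrime
import Cfsg.Agent.S0995
import Cfsg.Agent.SmallSimple.PSL2Recog
set_option linter.all false

-- part: SmallSimple/BrauerTypesArith
section
/-!
Arithmetic for groups with a self-centralizing Sylow `p`-subgroup of order `p` and
`1 + n p` Sylow `p`-subgroups, `2 n < p + 3` (Brauer 1943, Brauer-Reynolds 1958).
-/

set_option autoImplicit false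

namespace Cfsg.Agent.SmallSimple.BrauerTypesArith

/-- The divisor lemma: a divisor `D ≡ 1 (mod p)` of `(p - 1)(1 + n p)`. -/
theorem master {p n D s : ℕ} (hp : 2 ≤ p) (hn : 2 * n < p + 3) (hD : D % p = 1)
    (h : D * s = (p - 1) * (1 + n * p)) : D = 1 ∨ D = 1 + n * p := by
  obtain ⟨q, rfl⟩ : ∃ q, p = q + 1 := ⟨p - 1, by omega⟩
  have hq : 1 ≤ q := by omega
  have hqq : q + 1 - 1 = q := by omega
  rw [hqq] at h
  obtain ⟨u, hu⟩ : ∃ u, D = u * (q + 1) + 1 := by
    refine ⟨D / (q + 1), ?_⟩
    have := Nat.mod_add_div D (q + 1)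
    rw [hD] at this
    rw [Nat.mul_comm (D / (q + 1)) (q + 1)]
    omega
  -- s + 1 is divisible by p
  have hs : (q + 1) ∣ (s + 1) := by
    have h1 : ((q + 1 : ℕ) : ℤ) ∣ ((s + 1 : ℕ) : ℤ) := by
      have h2 : (D : ℤ) * s = q * (1 + n * (q + 1)) := by exact_mod_cast h
      have h3 : (D : ℤ) = u * (q + 1) + 1 := by exact_mod_cast hu
      rw [h3] at h2
      refine ⟨1 + q * n - u * s, ?_⟩
      push_cast
      linarith
    exact_mod_cast h1
  obtain ⟨v, hv⟩ := hs
  have hv0 : 1 ≤ v := by
    rcases Nat.eq_zero_or_pos v with h0 | h0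
    · rw [h0] at hv; omega
    · exact h0
  -- main identity in ℤ
  have hmain : (q : ℤ) * (n - u * v) = (u + 1) * (v - 1) := by
    have h2 : (D : ℤ) * s = q * (1 + n * (q + 1)) := by exact_mod_cast h
    have h3 : (D : ℤ) = u * (q + 1) + 1 := by exact_mod_cast hu
    have h4 : (s : ℤ) = (q + 1) * v - 1 := by
      have : ((s + 1 : ℕ) : ℤ) = (((q + 1) * v : ℕ) : ℤ) := by exact_mod_cast hv
      push_cast at this
      linarith
    rw [h3, h4] at h2
    have h5 : ((q : ℤ) + 1) * ((q : ℤ) * (n - u * v) - (u + 1) * (v - 1)) = 0 := by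
      linarith [h2]
    have h6 : ((q : ℤ) + 1) ≠ 0 := by positivity
    have h7 := (mul_eq_zero.mp h5).resolve_left h6
    linarith
  rcases Nat.eq_zero_or_pos u with h0 | hu1
  · left; rw [hu, h0]; omega
  right
  rcases Nat.lt_or_ge 1 v with hv2 | hv2
  · exfalso
    have hpos : 0 < (q : ℤ) * (n - u * v) := by
      rw [hmain]
      have : (1 : ℤ) < v := by exact_mod_cast hv2
      have h1 : (0 : ℤ) < (v : ℤ) - 1 := by linarith
      positivity
    have hh : 0 < (n : ℤ) - u * v := by
      have hq0 : (0 : ℤ) < q := by exact_mod_cast hq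
      exact (pos_iff_pos_of_mul_pos hpos).mp hq0
    have hu1' : (1 : ℤ) ≤ u := by exact_mod_cast hu1
    have hv2' : (1 : ℤ) ≤ (v : ℤ) - 1 := by
      have : (2 : ℤ) ≤ v := by exact_mod_cast hv2
      linarith
    have hn' : 2 * (n : ℤ) < q + 1 + 3 := by exact_mod_cast hn
    have hq' : (1 : ℤ) ≤ q := by exact_mod_cast hq
    -- 2 n = 2 u v + 2 h
    have e1 : (u : ℤ) * v = u + u * (v - 1) := by ring
    have e2 : 0 ≤ ((u : ℤ) - 1) * (v - 1) := mul_nonneg (by linarith) (by linarith)
    have e3 : 0 ≤ ((q : ℤ)) * ((n : ℤ) - u * v - 1) := mul_nonneg (by linarith) (by linarith)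
    nlinarith
  · have hv1 : v = 1 := by omega
    subst hv1
    have h1 : (q : ℤ) * (n - u) = 0 := by
      have := hmain
      push_cast at this
      linarith [this]
    have hq0 : (q : ℤ) ≠ 0 := by
      have : (1 : ℤ) ≤ q := by exact_mod_cast hq
      linarith
    have h2 := (mul_eq_zero.mp h1).resolve_left hq0
    have h3 : (n : ℤ) = u := by linarith
    have h4 : n = u := by exact_mod_cast h3
    rw [hu, h4]; ring

variable {p n e t : ℕ}

/-- Degrees `≡ 1 (mod p)`. -/
theorem deg_pos {d : ℕ} (hp : 2 ≤ p) (hn : 2 * n < p + 3) (het : e * t = p - 1)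
    (hd : d % p = 1) (hdvd : d ∣ e * (1 + n * p)) : d = 1 ∨ d = 1 + n * p := by
  obtain ⟨s, hs⟩ := hdvd
  refine master (s := s * t) hp hn hd ?_
  rw [← mul_assoc, ← hs, ← het]; ring

theorem mod_of_mul {a b : ℕ} (hp : 2 ≤ p) (ha : (a + 1) % p = 0) (hab : (a * b + 1) % p = 0) :
    b % p = 1 := by
  have h1 : p ∣ a + 1 := Nat.dvd_of_mod_eq_zero ha
  have h2 : p ∣ a * b + 1 := Nat.dvd_of_mod_eq_zero hab
  have h3 : (p : ℤ) ∣ (b : ℤ) - 1 := by
    have h1' : (p : ℤ) ∣ (a : ℤ) + 1 := by exact_mod_cast h1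
    have h2' : (p : ℤ) ∣ (a : ℤ) * b + 1 := by exact_mod_cast h2
    have : (b : ℤ) - 1 = ((a : ℤ) + 1) * b - ((a : ℤ) * b + 1) := by ring
    rw [this]
    exact dvd_sub (h1'.mul_right _) h2'
  have h4 : (b : ℤ) % p = 1 % p :=
    Int.emod_eq_emod_iff_emod_sub_eq_zero.mpr (Int.emod_eq_zero_of_dvd h3)
  have h5 : (1 : ℤ) % p = 1 := Int.emod_eq_of_lt (by norm_num) (by exact_mod_cast hp)
  rw [h5] at h4
  exact_mod_cast h4

theorem prod_mod (hp : 2 ≤ p) : ((p - 1) * (1 + n * p) + 1) % p = 0 := by
  obtain ⟨q, rfl⟩ : ∃ q, p = q + 1 := ⟨p - 1, by omega⟩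
  have : q + 1 - 1 = q := by omega
  rw [this]
  have h : q * (1 + n * (q + 1)) + 1 = (q + 1) * (1 + q * n) := by ring
  rw [h]
  exact Nat.mul_mod_right _ _

theorem not_big (hp : 2 ≤ p) (hn1 : 1 ≤ n) (he : 1 ≤ e)
    (hsq : (e * (1 + n * p)) * (e * (1 + n * p)) ≤ p * e * (1 + n * p)) : False := by
  have h1 : 0 < e * (1 + n * p) := by positivity
  have h2 : e * (1 + n * p) ≤ p := by
    apply Nat.le_of_mul_le_mul_right _ h1
    calc (e * (1 + n * p)) * (e * (1 + n * p)) ≤ p * e * (1 + n * p) := hsq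
      _ = p * (e * (1 + n * p)) := by ring
  have h3 : p < 1 + n * p := by nlinarith
  have h4 : 1 + n * p ≤ e * (1 + n * p) := Nat.le_mul_of_pos_left _ he
  omega

/-- Degrees `≡ -1 (mod p)`. -/
theorem deg_neg {d : ℕ} (hp : 2 ≤ p) (hn : 2 * n < p + 3) (hn1 : 1 ≤ n) (he : 1 ≤ e)
    (het : e * t = p - 1)
    (hd : (d + 1) % p = 0) (hdvd : d ∣ e * (1 + n * p)) (hsq : d * d ≤ p * e * (1 + n * p)) :
    d = p - 1 := by
  obtain ⟨s, hs⟩ := hdvd
  have hprod : d * (s * t) = (p - 1) * (1 + n * p) := by
    rw [← mul_assoc, ← hs, ← het]; ring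
  have hmod : (s * t) % p = 1 := by
    apply mod_of_mul hp hd
    rw [hprod]
    exact prod_mod hp
  rcases master (D := s * t) (s := d) hp hn hmod (by rw [mul_comm, hprod]) with h | h
  · exfalso
    have hs1 : s = 1 := Nat.eq_one_of_mul_eq_one_right h
    rw [hs1, mul_one] at hs
    rw [← hs] at hsq
    exact not_big hp hn1 he hsq
  · rw [h] at hprod
    have h1 : 0 < 1 + n * p := by positivity
    exact Nat.eq_of_mul_eq_mul_right h1 hprod

/-- Exceptional degree, positive sign. -/
theorem exc_pos {c m : ℕ} (hp : 2 ≤ p) (hn : 2 * n < p + 3) (hn1 : 1 ≤ n) (he : 1 ≤ e)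
    (het : e * t = p - 1)
    (hc : c = p * m + e) (hdvd : c ∣ e * (1 + n * p)) (hsq : c * c ≤ p * e * (1 + n * p)) :
    c = e ∧ m = 0 := by
  obtain ⟨s, hs⟩ := hdvd
  have hprod : (c * t) * s = (p - 1) * (1 + n * p) := by
    rw [← het]
    calc (c * t) * s = (c * s) * t := by ring
      _ = (e * (1 + n * p)) * t := by rw [← hs]
      _ = _ := by ring
  have hct : (c * t + 1) % p = 0 := by
    rw [hc]
    have : (p * m + e) * t + 1 = p * (m * t + 1) := by
      have : e * t + 1 = p := by omega
      calc (p * m + e) * t + 1 = p * m * t + (e * t + 1) := by ring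
        _ = p * m * t + p := by rw [this]
        _ = _ := by ring
    rw [this]; exact Nat.mul_mod_right _ _
  have hmod : s % p = 1 := by
    apply mod_of_mul hp hct
    rw [hprod]
    exact prod_mod hp
  rcases master (D := s) (s := c * t) hp hn hmod (by rw [mul_comm, hprod]) with h | h
  · exfalso
    rw [h, mul_one] at hs
    rw [← hs] at hsq
    exact not_big hp hn1 he hsq
  · rw [h] at hs
    have h1 : 0 < 1 + n * p := by positivity
    have h2 := Nat.eq_of_mul_eq_mul_right h1 hs
    refine ⟨h2.symm, ?_⟩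
    have h3 : p * m = 0 := by omega
    rcases Nat.mul_eq_zero.mp h3 with h4 | h4
    · omega
    · exact h4

/-- Exceptional degree, negative sign. -/
theorem exc_neg {c m : ℕ} (hp : 2 ≤ p) (hn : 2 * n < p + 3)
    (het : e * t = p - 1) (hc1 : c ≠ 1)
    (hc : c + e = p * m) (hdvd : c ∣ e * (1 + n * p)) :
    c * t = 1 + n * p ∧ m * t = n + 1 := by
  obtain ⟨s, hs⟩ := hdvd
  have hprod : (c * t) * s = (p - 1) * (1 + n * p) := by
    rw [← het]
    calc (c * t) * s = (c * s) * t := by ring
      _ = (e * (1 + n * p)) * t := by rw [← hs]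
      _ = _ := by ring
  have hct0 : c * t + p = p * (m * t) + 1 := by
    have h1 : (c + e) * t = p * m * t := by rw [hc]
    have h2 : c * t + e * t = p * (m * t) := by rw [← add_mul, h1]; ring
    omega
  have hct : (c * t) % p = 1 := by
    have h1 : (c * t + p) % p = (p * (m * t) + 1) % p := by rw [hct0]
    rw [Nat.add_mod_right, Nat.mul_add_mod] at h1
    rw [h1]
    exact Nat.mod_eq_of_lt (by omega)
  rcases master (D := c * t) (s := s) hp hn hct hprod with h | h
  · exfalso
    exact hc1 (Nat.eq_one_of_mul_eq_one_right h)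
  · refine ⟨h, ?_⟩
    rw [h] at hct0
    have h1 : p * (m * t) = p * (n + 1) := by
      have : 1 + n * p + p = p * (n + 1) + 1 := by ring
      omega
    exact Nat.eq_of_mul_eq_mul_left (by omega) h1

/-- Case 2: exceptional degree `e`. -/
theorem case_two {x y : ℤ} {p n e : ℤ} (hp : 2 ≤ p) (hxy : x + y + 1 = e)
    (hrel : 1 + x * (1 + n * p) - y * (p - 1) = e) :
    x * (n + 1) = e - 1 := by
  have hy : y = e - 1 - x := by linarith
  rw [hy] at hrel
  have h1 : p * (x * (n + 1) - (e - 1)) = 0 := by linarith [hrel]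
  have h2 : p ≠ 0 := by linarith
  have := (mul_eq_zero.mp h1).resolve_left h2
  linarith

theorem case_two_sum {x y s : ℤ} {p n e t : ℤ} (hp : 2 ≤ p) (hxy : x + y + 1 = e)
    (het : e * t = p - 1)
    (hx : x * (n + 1) = e - 1)
    (hsum : 1 + x * (1 + n * p) ^ 2 + y * (p - 1) ^ 2 + t * e ^ 2 + p ^ 2 * s =
      p * e * (1 + n * p)) : s = n := by
  have hy : y = x * n := by linarith
  have h1 : t * e ^ 2 = e * (p - 1) := by rw [← het]; ring
  rw [h1, hy] at hsum
  have he : e = 1 + x * (n + 1) := by linarith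
  rw [he] at hsum
  have h2 : p ^ 2 * (s - n) = 0 := by linarith [hsum]
  have h3 : p ^ 2 ≠ 0 := by positivity
  have := (mul_eq_zero.mp h2).resolve_left h3
  linarith

/-- Case 1: exceptional degree `(1 + n p)/t`. -/
theorem case_one {x y c : ℤ} {p n e t : ℤ} (hp : 2 ≤ p) (hxy : x + y + 1 = e)
    (het : e * t = p - 1) (hc : c * t = 1 + n * p)
    (hrel : 1 + x * (1 + n * p) - y * (p - 1) = - c) :
    (n + 1) * (t * x + 1) = t * (e - 1) := by
  have hy : y = e - 1 - x := by linarith
  rw [hy] at hrel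
  have h0 : t * (1 + x * (1 + n * p) - (e - 1 - x) * (p - 1)) = - (c * t) := by rw [hrel]; ring
  rw [hc] at h0
  have h1 : p * ((n + 1) * (t * x + 1) - t * (e - 1)) = 0 := by
    have e1 : t * (1 + x * (1 + n * p) - (e - 1 - x) * (p - 1)) =
      t + t * x * (1 + n * p) - (e * t) * (p - 1) + t * (p - 1) + t * x * (p - 1) := by ring
    rw [e1, het] at h0
    have e2 : p * ((n + 1) * (t * x + 1) - t * (e - 1)) =
      p * ((n + 1) * (t * x + 1)) - p * (e * t) + p * t := by ring
    rw [e2, het]
    linarith [h0]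
  have h2 : p ≠ 0 := by linarith
  have := (mul_eq_zero.mp h1).resolve_left h2
  linarith

theorem case_one_sum {x y c s : ℤ} {p n e t : ℤ} (hp : 2 ≤ p) (ht : 1 ≤ t)
    (hxy : x + y + 1 = e)
    (het : e * t = p - 1) (hc : c * t = 1 + n * p)
    (hx : (n + 1) * (t * x + 1) = t * (e - 1))
    (hsum : 1 + x * (1 + n * p) ^ 2 + y * (p - 1) ^ 2 + t * c ^ 2 + p ^ 2 * s =
      p * e * (1 + n * p)) : s = n := by
  have hy : y = e - 1 - x := by linarith
  have h0 : t * (1 + x * (1 + n * p) ^ 2 + y * (p - 1) ^ 2 + t * c ^ 2 + p ^ 2 * s) =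
      t * (p * e * (1 + n * p)) := by rw [hsum]
  rw [hy] at h0
  have e0 : t * (1 + x * (1 + n * p) ^ 2 + (e - 1 - x) * (p - 1) ^ 2 + t * c ^ 2 + p ^ 2 * s) =
      t + t * x * ((1 + n * p) ^ 2 - (p - 1) ^ 2) + (e * t) * (p - 1) ^ 2 - t * (p - 1) ^ 2 +
        (c * t) ^ 2 + t * p ^ 2 * s := by ring
  have e1 : t * (p * e * (1 + n * p)) = (e * t) * (p * (1 + n * p)) := by ring
  rw [e0, e1, het, hc] at h0
  have e2 : (1 + n * p) ^ 2 - (p - 1) ^ 2 = p * (n + 1) * (2 + (n - 1) * p) := by ring
  have e3 : t * x * (p * (n + 1) * (2 + (n - 1) * p)) =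
      ((n + 1) * (t * x + 1)) * (p * (2 + (n - 1) * p)) - (n + 1) * (p * (2 + (n - 1) * p)) := by
    ring
  have e4 : t * (e - 1) = p - 1 - t := by rw [mul_sub, mul_comm t e, het]; ring
  rw [e2, e3, hx, e4] at h0
  have h2 : t * p ^ 2 * (s - n) = 0 := by linarith [h0]
  have h3 : t * p ^ 2 ≠ 0 := by
    have : (0 : ℤ) < t := by linarith
    positivity
  have := (mul_eq_zero.mp h2).resolve_left h3
  linarith

/-- C3: the product `Θ conj Θ`. -/
theorem c_three {p n e t M F : ℤ} (hn : 1 ≤ n) (he : 2 ≤ e) (ht : 2 ≤ t) (het : e * t = p - 1)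
    (hM : 0 ≤ M) (hF : 0 ≤ F)
    (h1 : e - 1 = (n + 1) * M + F) (h2 : 1 + M * (1 + n * p) + p * F ≤ e ^ 2) :
    n = 1 ∧ t = 2 := by
  have hp : p = e * t + 1 := by linarith
  subst hp
  -- M (e - n (p-1-e)) ≥ F (p - 1 - e)
  have h3 : F * (e * t - e) ≤ M * (e - n * (e * t - e)) := by
    have : (e - 1) * (e + 1) = ((n + 1) * M + F) * (e + 1) := by rw [h1]
    nlinarith
  have h4 : 0 ≤ F * (e * t - e) := by
    apply mul_nonneg hF
    nlinarith
  have hM1 : 1 ≤ M := by
    by_contra hcon
    have hM0 : M = 0 := by omega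
    rw [hM0] at h1 h3
    have hF1 : F = e - 1 := by linarith
    rw [hF1] at h3
    have : 0 < (e - 1) * (e * t - e) := by
      apply mul_pos (by linarith)
      nlinarith
    linarith
  have h5 : 0 ≤ e - n * (e * t - e) := by
    by_contra hcon
    push Not at hcon
    have : M * (e - n * (e * t - e)) < 0 := mul_neg_of_pos_of_neg (by linarith) hcon
    linarith
  have h6 : n * (t - 1) ≤ 1 := by
    have h7 : e * (n * (t - 1)) ≤ e * 1 := by nlinarith
    exact le_of_mul_le_mul_left h7 (by linarith)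
  constructor
  · nlinarith
  · nlinarith

end Cfsg.Agent.SmallSimple.BrauerTypesArith
end

-- part: SmallSimple/BrauerTypes
section
/-!
The characters half of Brauer's theorem S0996: from the structure of the characters not vanishing
on a self-centralizing Sylow subgroup `P` of prime order (`BData`) to
* `|N ∩ N^x| = e` for all `x ∉ N`, and
* case 2: `t ≥ 2 → n = 1 ∧ t = 2` and `x (n+1) = e - 1`; case 1: `k t = n + 1`,
  `(n+1)(t x + 1) = t (e-1)`.
-/

set_option autoImplicit false
set_option linter.unusedSectionVars false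
open Cfsg
open scoped ComplexConjugate

namespace Cfsg.Agent.SmallSimple.BrauerTypes

open Cfsg.Agent.Characters.Core Cfsg.Agent.SmallSimple.BrauerTypesBasic
  Cfsg.Agent.SmallSimple.BrauerTypesArith

universe u

/-- The characters not vanishing on a self-centralizing Sylow subgroup `P` of prime order `p`,
`e = |N(P) : P|`, `e t = p - 1`: `e` nonexceptional and `t` exceptional characters. -/
structure BData {G : Type u} [Group G] (p : ℕ) (P : Subgroup G) (e t : ℕ) where
  NE : Finset (IrrCharacter G)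
  X : Finset (IrrCharacter G)
  ε : IrrCharacter G → ℤ
  d : ℤ
  S : IrrCharacter G → Finset (P →* ℂˣ)
  disj : Disjoint NE X
  card_NE : NE.card = e
  card_X : X.card = t
  ε_eq : ∀ χ ∈ NE, ε χ = 1 ∨ ε χ = -1
  d_eq : d = 1 ∨ d = -1
  one_mem : triv G ∈ NE ∧ ε (triv G) = 1
  val_NE : ∀ χ ∈ NE, ∀ x ∈ P, x ≠ 1 → (χ : G → ℂ) x = ε χ
  card_S : ∀ Θ ∈ X, (S Θ).card = e
  one_notMem_S : ∀ Θ ∈ X, 1 ∉ S Θ
  val_X : ∀ Θ ∈ X, ∀ x : P, x ≠ 1 → (Θ : G → ℂ) x = d * ∑ l ∈ S Θ, (l x : ℂ)
  rel : ∀ Θ ∈ X, ∀ g : G, ¬ p ∣ orderOf g →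
    ∑ χ ∈ NE, (ε χ : ℂ) * (χ : G → ℂ) g = d * (Θ : G → ℂ) g
  val_rest : ∀ χ : IrrCharacter G, χ ∉ NE → χ ∉ X → ∀ x ∈ P, x ≠ 1 → (χ : G → ℂ) x = 0

variable {G : Type u} [Group G]

/-- Sum over a subgroup of a function with constant values on nonidentity elements. -/
theorem sum_const_off {P : Subgroup G} [Fintype P] {p : ℕ} (hP : Nat.card P = p) {f : G → ℂ}
    {c : ℂ} (hf : ∀ x ∈ P, x ≠ 1 → f x = c) : ∑ x : P, f x = f 1 + (p - 1) * c := by
  classical
  rw [← Finset.add_sum_erase _ _ (Finset.mem_univ (1 : P))]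
  have h2 : ∑ x ∈ Finset.univ.erase (1 : P), f x = ∑ x ∈ Finset.univ.erase (1 : P), c := by
    refine Finset.sum_congr rfl fun x hx => ?_
    exact hf x x.2 (fun h => (Finset.ne_of_mem_erase hx) (Subtype.ext h))
  rw [h2, Finset.sum_const, Finset.card_erase_of_mem (Finset.mem_univ _), Finset.card_univ,
    nsmul_eq_mul, OneMemClass.coe_one, ← Nat.card_eq_fintype_card, hP]
  have hp : 1 ≤ p := by
    rw [← hP]; exact Nat.card_pos
  rw [Nat.cast_sub hp, Nat.cast_one]

theorem sum_linear {P : Subgroup G} [Fintype P] {l : P →* ℂˣ} (hl : l ≠ 1) :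
    ∑ x : P, (l x : ℂ) = 0 := by
  have h1 : (Units.coeHom ℂ).comp l ≠ 1 := by
    intro h
    apply hl
    ext x
    have := DFunLike.congr_fun h x
    simpa using this
  exact sum_hom_units_eq_zero _ h1

section
variable [Finite G] {p n e t : ℕ} {P N : Subgroup G} [Fintype P] [Fintype N]

/-- The hypotheses on the group. -/
structure Hyp {G : Type u} [Group G] (p n e t : ℕ) (P N : Subgroup G) : Prop where
  prime : p.Prime
  le : P ≤ N
  cardP : Nat.card P = p
  cardN : Nat.card N = p * e
  cardG : Nat.card G = p * e * (1 + n * p)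
  het : e * t = p - 1
  n_pos : 1 ≤ n
  hn : 2 * n < p + 3
  he : 2 ≤ e
  ti : ∀ y ∈ P, y ≠ 1 → ∀ x : G, x⁻¹ * y * x ∈ N → x ∈ N
  memP : ∀ y ∈ N, orderOf y = p → y ∈ P
  perf : ∀ f : G →* ℂˣ, f = 1

variable (H : Hyp p n e t P N) (D : BData p P e t)
include H D

theorem t_pos : 1 ≤ t := by
  rcases Nat.eq_zero_or_pos t with h | h
  · have h1 := H.het
    have h2 := H.prime.two_le
    rw [h] at h1
    omega
  · exact h

theorem m0_NE {χ : IrrCharacter G} (hχ : χ ∈ D.NE) :
    (p : ℤ) * mult P χ = deg χ + (p - 1) * D.ε χ := by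
  have h1 := mult_spec P χ
  rw [sum_const_off H.cardP (D.val_NE χ hχ), deg_spec, H.cardP] at h1
  exact_mod_cast h1.symm

theorem m0_X {χ : IrrCharacter G} (hχ : χ ∈ D.X) :
    (p : ℤ) * mult P χ = deg χ - D.d * e := by
  classical
  have h1 := mult_spec P χ
  rw [← Finset.add_sum_erase _ _ (Finset.mem_univ (1 : P))] at h1
  have h2 : ∑ x ∈ Finset.univ.erase (1 : P), (χ : G → ℂ) x = - D.d * e := by
    have h3 : ∑ x ∈ Finset.univ.erase (1 : P), (χ : G → ℂ) x =
        ∑ x ∈ Finset.univ.erase (1 : P), (D.d : ℂ) * ∑ l ∈ D.S χ, (l x : ℂ) := by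
      refine Finset.sum_congr rfl fun x hx => ?_
      exact D.val_X χ hχ x (Finset.ne_of_mem_erase hx)
    have h4 : ∑ x : P, (D.d : ℂ) * ∑ l ∈ D.S χ, (l x : ℂ) = 0 := by
      rw [← Finset.mul_sum, Finset.sum_comm]
      rw [Finset.sum_eq_zero, mul_zero]
      intro l hl
      exact sum_linear (fun h => D.one_notMem_S χ hχ (h ▸ hl))
    rw [← Finset.add_sum_erase _ _ (Finset.mem_univ (1 : P))] at h4
    rw [h3]
    have h5 : (D.d : ℂ) * ∑ l ∈ D.S χ, ((l 1 : ℂˣ) : ℂ) = D.d * e := by
      simp only [map_one, Units.val_one, Finset.sum_const, nsmul_eq_mul, mul_one]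
      rw [D.card_S χ hχ]
    rw [h5] at h4
    linear_combination h4
  rw [h2, OneMemClass.coe_one, deg_spec, H.cardP] at h1
  have h6 : ((p : ℤ) * mult P χ : ℂ) = deg χ - D.d * e := by
    push_cast
    rw [← h1]; ring
  exact_mod_cast h6

theorem m0_rest {χ : IrrCharacter G} (h1 : χ ∉ D.NE) (h2 : χ ∉ D.X) :
    p * mult P χ = deg χ := by
  have h3 := mult_spec P χ
  rw [sum_const_off H.cardP (D.val_rest χ h1 h2), deg_spec, H.cardP, mul_zero, add_zero] at h3
  exact_mod_cast h3.symm

theorem deg_sq_le (χ : IrrCharacter G) : deg χ * deg χ ≤ p * e * (1 + n * p) := by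
  have := finite_irr (G := G)
  have := Fintype.ofFinite (IrrCharacter G)
  rw [← H.cardG, ← sum_deg_sq (G := G), ← sq]
  exact Finset.single_le_sum (f := fun χ : IrrCharacter G => deg χ ^ 2)
    (fun _ _ => Nat.zero_le _) (Finset.mem_univ χ)

theorem deg_dvd' {χ : IrrCharacter G} (h : ¬ p ∣ deg χ) : deg χ ∣ e * (1 + n * p) := by
  have h1 := deg_dvd χ
  rw [H.cardG, mul_assoc] at h1
  exact Nat.Coprime.dvd_of_dvd_mul_left
    ((Nat.Prime.coprime_iff_not_dvd H.prime).mpr h).symm h1

theorem NE_pos {χ : IrrCharacter G} (hχ : χ ∈ D.NE) (hε : D.ε χ = 1) :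
    (χ = triv G ∧ mult P χ = 1) ∨ (deg χ = 1 + n * p ∧ mult P χ = n + 1) := by
  have h1 := m0_NE H D hχ
  rw [hε, mul_one] at h1
  have hp := H.prime.two_le
  have h2 : p * mult P χ + 1 = deg χ + p := by
    have : (p : ℤ) * mult P χ + 1 = deg χ + p := by linarith
    exact_mod_cast this
  have hmod : deg χ % p = 1 := by
    have h3 : (deg χ + p) % p = (p * mult P χ + 1) % p := by rw [h2]
    rw [Nat.add_mod_right, Nat.mul_add_mod] at h3
    rw [h3]; exact Nat.mod_eq_of_lt (by omega)
  have hnd : ¬ p ∣ deg χ := by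
    intro h
    rw [Nat.mod_eq_zero_of_dvd h] at hmod
    exact absurd hmod (by norm_num)
  rcases deg_pos hp H.hn H.het hmod (deg_dvd' H D hnd) with h | h
  · left
    refine ⟨eq_triv_of_deg H.perf χ h, ?_⟩
    rw [h] at h2
    have h3 : p * mult P χ = p * 1 := by omega
    exact Nat.eq_of_mul_eq_mul_left (by omega) h3
  · right
    refine ⟨h, ?_⟩
    rw [h] at h2
    have h3 : p * mult P χ = p * (n + 1) := by
      have : 1 + n * p + p = p * (n + 1) + 1 := by ring
      omega
    exact Nat.eq_of_mul_eq_mul_left (by omega) h3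

theorem NE_neg {χ : IrrCharacter G} (hχ : χ ∈ D.NE) (hε : D.ε χ = -1) :
    deg χ = p - 1 ∧ mult P χ = 0 := by
  have h1 := m0_NE H D hχ
  rw [hε] at h1
  have hp := H.prime.two_le
  have h2 : p * mult P χ + p = deg χ + 1 := by
    have : (p : ℤ) * mult P χ + p = deg χ + 1 := by linarith
    exact_mod_cast this
  have hmod : (deg χ + 1) % p = 0 := by
    rw [← h2]; simp
  have hnd : ¬ p ∣ deg χ := by
    intro h
    have h3 : p ∣ 1 := (Nat.dvd_add_right h).mp (Nat.dvd_of_mod_eq_zero hmod)
    have := Nat.le_of_dvd (by norm_num) h3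
    omega
  have h4 := deg_neg hp H.hn H.n_pos (by have := H.he; omega) H.het hmod (deg_dvd' H D hnd)
    (deg_sq_le H D χ)
  refine ⟨h4, ?_⟩
  rw [h4] at h2
  have h5 : p * mult P χ = p * 0 := by omega
  exact Nat.eq_of_mul_eq_mul_left (by omega) h5

theorem e_lt : e < p := by
  have h1 := H.het
  have h2 := t_pos H D
  have h3 := H.prime.two_le
  have h4 : e ≤ e * t := Nat.le_mul_of_pos_right _ h2
  omega

theorem X_pos (hd : D.d = 1) {χ : IrrCharacter G} (hχ : χ ∈ D.X) :
    deg χ = e ∧ mult P χ = 0 := by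
  have h1 := m0_X H D hχ
  rw [hd, one_mul] at h1
  have hp := H.prime.two_le
  have h2 : deg χ = p * mult P χ + e := by
    have : (deg χ : ℤ) = p * mult P χ + e := by linarith
    exact_mod_cast this
  have he := H.he
  have hep := e_lt H D
  have hnd : ¬ p ∣ deg χ := by
    rw [h2]
    intro h
    have h3 := (Nat.dvd_add_right (dvd_mul_right p _)).mp h
    have := Nat.le_of_dvd (by omega) h3
    omega
  exact exc_pos hp H.hn H.n_pos (by omega) H.het h2 (deg_dvd' H D hnd) (deg_sq_le H D χ)

theorem X_neg (hd : D.d = -1) {χ : IrrCharacter G} (hχ : χ ∈ D.X) :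
    deg χ * t = 1 + n * p ∧ mult P χ * t = n + 1 := by
  have h1 := m0_X H D hχ
  rw [hd] at h1
  have hp := H.prime.two_le
  have h2 : deg χ + e = p * mult P χ := by
    have : (deg χ : ℤ) + e = p * mult P χ := by linarith
    exact_mod_cast this
  have he := H.he
  have hep := e_lt H D
  have hnd : ¬ p ∣ deg χ := by
    intro h
    have h4 : p ∣ deg χ + e := h2 ▸ dvd_mul_right p _
    have h3 := (Nat.dvd_add_right h).mp h4
    have := Nat.le_of_dvd (by omega) h3
    omega
  have hc1 : deg χ ≠ 1 := by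
    intro h
    have h3 := eq_triv_of_deg H.perf χ h
    exact Finset.disjoint_left.mp D.disj D.one_mem.1 (h3 ▸ hχ)
  exact exc_neg hp H.hn H.het hc1 h2 (deg_dvd' H D hnd)

end

end Cfsg.Agent.SmallSimple.BrauerTypes
end

-- part: SmallSimple/BrauerTypesSetup
section
/-!
Setup for Brauer's theorem S0996: the numerical hypotheses `Hyp` from `G` perfect,
`C(z) = ⟨z⟩`, `z` of prime order `p`.
-/

set_option autoImplicit false
set_option linter.unusedSectionVars false
open Cfsg

namespace Cfsg.Agent.SmallSimple.BrauerTypesSetup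

open Subgroup Cfsg.Agent.SmallSimple.SelfCentPrime Cfsg.Agent.SmallSimple.BrauerTypes

universe u
variable {G : Type u} [Group G] [Finite G] {p : ℕ} [hp : Fact p.Prime] {z : G}

theorem eq_of_commutator_le (hperf : commutator G = ⊤) (hz : orderOf z = p)
    (h : commutator G ≤ zpowers z) : False := by
  have h1 : (⊤ : Subgroup G) ≤ zpowers z := hperf ▸ h
  have hcomm : ∀ a b : G, a * b = b * a := by
    intro a b
    obtain ⟨i, rfl⟩ := mem_zpowers_iff.1 (h1 (mem_top a))
    obtain ⟨j, rfl⟩ := mem_zpowers_iff.1 (h1 (mem_top b))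
    rw [← zpow_add, ← zpow_add, add_comm]
  have h2 : commutator G = ⊥ := by
    rw [eq_bot_iff, commutator_def, commutator_le]
    intro a _ b _
    rw [Subgroup.mem_bot, commutatorElement_def, hcomm a b]
    group
  have h3 : z ∈ (⊥ : Subgroup G) := by
    rw [← h2, hperf]
    exact mem_top z
  rw [Subgroup.mem_bot] at h3
  rw [h3, orderOf_one] at hz
  exact hp.out.one_lt.ne hz

theorem not_normal (hperf : commutator G = ⊤) (hz : orderOf z = p)
    (hC : centralizer ({z} : Set G) = zpowers z) (hN : ∀ g : G, g * z * g⁻¹ ∈ zpowers z) :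
    False := by
  refine eq_of_commutator_le hperf hz ?_
  rw [commutator_def, commutator_le]
  intro a _ b _
  rw [← hC, mem_centralizer_singleton_iff]
  obtain ⟨i, hi⟩ := mem_zpowers_iff.1 (hN a⁻¹)
  obtain ⟨j, hj⟩ := mem_zpowers_iff.1 (hN b⁻¹)
  rw [inv_inv] at hi hj
  have h1 : b⁻¹ * (a⁻¹ * z * a) * b = a⁻¹ * (b⁻¹ * z * b) * a := by
    have e1 : b⁻¹ * (z ^ i) * b = (b⁻¹ * z * b) ^ i := by
      have := conj_zpow (i := i) (a := b⁻¹) (b := z)
      rw [inv_inv] at this
      exact this.symm
    have e2 : a⁻¹ * (z ^ j) * a = (a⁻¹ * z * a) ^ j := by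
      have := conj_zpow (i := j) (a := a⁻¹) (b := z)
      rw [inv_inv] at this
      exact this.symm
    rw [← hi, ← hj, e1, e2, ← hi, ← hj, ← zpow_mul, ← zpow_mul, mul_comm]
  rw [commutatorElement_def]
  have h2 : z * (a * b * a⁻¹ * b⁻¹) =
      (a * b) * ((b⁻¹ * (a⁻¹ * z * a) * b)) * (a⁻¹ * b⁻¹) := by group
  rw [h2, h1]
  group

/-- The numerical setup. -/
theorem setup (hperf : commutator G = ⊤) (hz : orderOf z = p)
    (hC : centralizer ({z} : Set G) = zpowers z)
    (hn : 2 * Nat.card (Sylow p G) < (p + 1) * (p + 2)) :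
    ∃ (P : Sylow p G) (n e t : ℕ), (P : Subgroup G) = zpowers z ∧
      Nat.card P = p ∧
      centralizer (P : Set G) = P ∧
      (centralizer (P : Set G)).relIndex (normalizer (P : Set G)) = e ∧
      n * p + 1 = Nat.card (Sylow p G) ∧ p ≠ 2 ∧
      Hyp p n e t (P : Subgroup G) (normalizer (P : Set G)) := by
  obtain ⟨P, hP⟩ := exists_sylow_eq_zpowers hz hC
  obtain ⟨n, t, -, -, hnS, hGt⟩ := Cfsg.Agent.S0995.result hperf p z hz hC
  have hcP : Nat.card P = p := card_sylow_eq hz hC P
  have hcent : centralizer (P : Set G) = P := by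
    have h1 : centralizer ((zpowers z : Subgroup G) : Set G) = zpowers z := by
      rw [centralizer_zpowers, hC]
    rw [← hP] at h1
    exact h1
  have hPN : (P : Subgroup G) ≤ normalizer (P : Set G) := le_normalizer
  have hcN : Nat.card (normalizer (P : Set G)) =
      p * (centralizer (P : Set G)).relIndex (normalizer (P : Set G)) := by
    rw [hcent]
    have h1 := relIndex_mul_relIndex ⊥ (P : Subgroup G) (normalizer (P : Set G)) bot_le hPN
    have h2 : Nat.card (P : Subgroup G) = p := hcP
    rw [relIndex_bot_left, relIndex_bot_left, h2] at h1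
    exact h1.symm
  set e := (centralizer (P : Set G)).relIndex (normalizer (P : Set G)) with he
  have hidx : Nat.card (Sylow p G) = (normalizer (P : Set G)).index :=
    P.card_eq_index_normalizer
  have hcG : Nat.card G = p * e * (1 + n * p) := by
    have h1 := (normalizer (P : Set G)).card_mul_index
    rw [← hidx, hcN, hnS] at h1
    exact h1.symm
  have hp0 := hp.out.pos
  have het : e * t = p - 1 := by
    rw [hcG] at hGt
    have h2 : (p * (1 + n * p)) * (e * t) = (p * (1 + n * p)) * (p - 1) := by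
      linarith [hGt]
    exact Nat.eq_of_mul_eq_mul_left (Nat.mul_pos hp0 (by omega)) h2
  have hmemP : ∀ y ∈ normalizer (P : Set G), orderOf y = p → y ∈ (P : Subgroup G) := by
    intro y hy hyo
    have hpg : IsPGroup p (zpowers y) := by
      apply IsPGroup.of_card (n := 1)
      rw [Nat.card_zpowers, hyo, pow_one]
    have h1 := IsPGroup.inf_normalizer_sylow hpg P
    have h2 : y ∈ zpowers y ⊓ normalizer (P : Set G) := ⟨mem_zpowers y, hy⟩
    rw [h1] at h2
    exact h2.2
  have hordP : ∀ y ∈ (P : Subgroup G), y ≠ 1 → orderOf y = p := by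
    intro y hy hy1
    have h1 : orderOf y ∣ p := by
      have := Subgroup.orderOf_dvd_natCard (P : Subgroup G) hy
      rwa [show Nat.card (P : Subgroup G) = p from hcP] at this
    rcases (Nat.dvd_prime hp.out).1 h1 with h2 | h2
    · exact absurd (orderOf_eq_one_iff.1 h2) hy1
    · exact h2
  have hzP : z ∈ (P : Subgroup G) := hP ▸ mem_zpowers z
  -- `n ≥ 1`
  have hn1 : 1 ≤ n := by
    by_contra h
    have hn0 : n = 0 := by omega
    rw [hn0, zero_mul, add_zero] at hnS
    rw [hidx, Subgroup.index_eq_one] at hnS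
    refine not_normal hperf hz hC ?_
    intro g
    have hg : g ∈ normalizer (P : Set G) := hnS ▸ mem_top g
    rw [← hP]
    exact (mem_normalizer_iff.1 hg z).1 hzP
  have hperf' : ∀ f : G →* ℂˣ, f = 1 := by
    intro f
    have h1 := Abelianization.commutator_subset_ker f
    rw [hperf] at h1
    ext g
    have := h1 (mem_top g)
    rw [MonoidHom.mem_ker] at this
    rw [this]
    rfl
  -- `e ≥ 2`
  have he2 : 2 ≤ e := by
    by_contra h
    have he0 : e ≠ 0 := by
      intro h0
      rw [h0, mul_zero, zero_mul] at hcG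
      exact Nat.card_pos.ne' hcG
    have he1 : e = 1 := by omega
    have h1 : normalizer (P : Set G) ≤ centralizer (P : Set G) := by
      rw [← Subgroup.relIndex_eq_one, ← he, he1]
    have h2 := MonoidHom.ker_transferSylow_isComplement' P h1
    have h3 : commutator G ≤ (MonoidHom.transferSylow P h1).ker := by
      have hcommP : ∀ a b : P, a * b = b * a := by
        have : IsMulCommutative (P : Subgroup G) := by
          rw [hP]; infer_instance
        intro a b
        exact mul_comm' a b
      rw [_root_.commutator_def, commutator_le]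
      intro a _ b _
      rw [MonoidHom.mem_ker, commutatorElement_def]
      simp only [map_mul, map_inv]
      rw [hcommP (MonoidHom.transferSylow P h1 a) (MonoidHom.transferSylow P h1 b)]
      group
    rw [hperf, top_le_iff] at h3
    rw [h3] at h2
    have h4 : (P : Subgroup G) = ⊥ := by
      have := h2.disjoint
      rwa [top_disjoint] at this
    rw [h4, Subgroup.mem_bot] at hzP
    rw [hzP, orderOf_one] at hz
    exact hp.out.one_lt.ne hz
  have hp2 : p ≠ 2 := by
    rintro rfl
    have : e ∣ 1 := Dvd.intro t het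
    have := Nat.le_of_dvd (by norm_num) this
    omega
  refine ⟨P, n, e, t, hP, hcP, hcent, rfl, by rw [hnS, add_comm], hp2, ?_⟩
  refine ⟨hp.out, hPN, hcP, hcN, hcG, het, hn1, ?_, he2, ?_, hmemP, hperf'⟩
  · rw [hnS] at hn
    by_contra h
    have h1 : p + 3 ≤ 2 * n := by omega
    have h2 : (p + 3) * p ≤ 2 * n * p := Nat.mul_le_mul_right p h1
    have h3 : 2 * (1 + n * p) = 2 + 2 * n * p := by ring
    have h4 : (p + 1) * (p + 2) = (p + 3) * p + 2 := by ring
    omega
  · intro y hy hy1 x hx
    have hyo := hordP y hy hy1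
    have hyx : orderOf (x⁻¹ * y * x) = p := by
      rw [← hyo]
      have h7 : SemiconjBy x⁻¹ y (x⁻¹ * y * x) := by
        unfold SemiconjBy; group
      exact (SemiconjBy.orderOf_eq _ h7).symm
    have h1 := hmemP _ hx hyx
    -- `P = ⟨y⟩ = ⟨x⁻¹ y x⟩`
    have hy' : y ∈ zpowers z := hP ▸ hy
    have e1 : zpowers y = (P : Subgroup G) := by
      rw [hP]; exact zpowers_eq_of_mem hz hy' hy1
    have hx1 : x⁻¹ * y * x ≠ 1 := by
      intro h
      rw [h, orderOf_one] at hyx
      exact hp.out.one_lt.ne hyx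
    have e2 : zpowers (x⁻¹ * y * x) = (P : Subgroup G) := by
      rw [hP]; exact zpowers_eq_of_mem hz (hP ▸ h1) hx1
    have e3 : ∀ w : G, w ∈ (P : Subgroup G) → x⁻¹ * w * x ∈ (P : Subgroup G) := by
      intro w hw
      rw [← e1] at hw
      obtain ⟨i, rfl⟩ := mem_zpowers_iff.1 hw
      have := conj_zpow (i := i) (a := x⁻¹) (b := y)
      rw [inv_inv] at this
      rw [← this, ← e2]
      exact zpow_mem (mem_zpowers _) i
    have e4 : ∀ w : G, w ∈ (P : Subgroup G) → x * w * x⁻¹ ∈ (P : Subgroup G) := by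
      intro w hw
      rw [← e2] at hw
      obtain ⟨i, rfl⟩ := mem_zpowers_iff.1 hw
      have h5 : x * (x⁻¹ * y * x) ^ i * x⁻¹ = y ^ i := by
        have := conj_zpow (i := i) (a := x) (b := x⁻¹ * y * x)
        rw [← this]
        congr 1
        group
      rw [h5, ← e1]
      exact zpow_mem (mem_zpowers _) i
    refine mem_normalizer_iff.2 ?_
    intro w
    constructor
    · exact e4 w
    · intro hw
      have := e3 _ hw
      have h6 : x⁻¹ * (x * w * x⁻¹) * x = w := by group
      rwa [h6] at this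

end Cfsg.Agent.SmallSimple.BrauerTypesSetup
end

-- part: SmallSimple/PSL2Perfect
section
set_option autoImplicit false

/-!
# Recognition of PSL(2,p) among perfect groups
-/

namespace Cfsg.Agent.SmallSimple.PSL2Perfect

open OnePoint

/-- A perfect group with a faithful 2-transitive action whose point stabiliser is solvable is
simple. -/
theorem isSimpleGroup_of_two_transitive {G X : Type*} [Group G] [Nontrivial G]
    [MulAction G X] [FaithfulSMul G X] (hperf : commutator G = ⊤)
    (h2 : MulAction.IsMultiplyPretransitive G X 2) (a : X)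
    (hs : Group.IsSolvable (MulAction.stabilizer G a)) : IsSimpleGroup G := by
  have hprim : MulAction.IsPreprimitive G X := MulAction.isPreprimitive_of_is_two_pretransitive h2
  have hq : MulAction.IsQuasiPreprimitive G X := MulAction.IsPreprimitive.isQuasiPreprimitive
  refine ⟨fun N hN => ?_⟩
  by_cases hfix : MulAction.fixedPoints N X = Set.univ
  · left
    rw [Subgroup.eq_bot_iff_forall]
    intro g hg
    apply FaithfulSMul.eq_of_smul_eq_smul (α := X)
    intro x
    rw [one_smul]
    have hx : x ∈ MulAction.fixedPoints N X := by rw [hfix]; trivial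
    exact hx ⟨g, hg⟩
  · right
    have htr : MulAction.IsPretransitive N X := hq.isPretransitive_of_normal hfix
    -- the stabiliser maps onto the quotient
    have hsurj : Function.Surjective
        ((QuotientGroup.mk' N).comp (MulAction.stabilizer G a).subtype) := by
      intro q
      obtain ⟨g, rfl⟩ := QuotientGroup.mk'_surjective N q
      obtain ⟨n, hn⟩ := MulAction.exists_smul_eq N (g • a) a
      have hng : (n : G) * g ∈ MulAction.stabilizer G a := by
        rw [MulAction.mem_stabilizer_iff, mul_smul]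
        exact hn
      refine ⟨⟨(n : G) * g, hng⟩, ?_⟩
      change (QuotientGroup.mk' N) ((n : G) * g) = (QuotientGroup.mk' N) g
      rw [map_mul]
      have : (QuotientGroup.mk' N) (n : G) = 1 := by
        rw [QuotientGroup.mk'_apply, QuotientGroup.eq_one_iff]
        exact n.2
      rw [this, one_mul]
    have hsol : Group.IsSolvable (G ⧸ N) := Group.isSolvable_of_surjective hsurj
    by_contra hne
    have hnt : Nontrivial (G ⧸ N) := QuotientGroup.nontrivial_iff.2 hne
    have hlt := Group.IsSolvable.commutator_lt_top_of_nontrivial (G ⧸ N)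
    apply hlt.ne
    have h1 : Subgroup.map (QuotientGroup.mk' N) (commutator G) = commutator (G ⧸ N) := by
      rw [commutator_def, commutator_def, Subgroup.map_commutator,
        Subgroup.map_top_of_surjective _ (QuotientGroup.mk'_surjective N)]
    rw [← h1, hperf, Subgroup.map_top_of_surjective _ (QuotientGroup.mk'_surjective N)]

/-- The normaliser of a self-centralising cyclic subgroup is solvable. -/
theorem isSolvable_normalizer {G : Type*} [Group G] (P : Subgroup G) [IsCyclic P]
    (hC : Subgroup.centralizer (P : Set G) ≤ P) :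
    Group.IsSolvable (Subgroup.normalizer (P : Set G)) := by
  have h1 : Group.IsSolvable (MulAut P) :=
    Group.isSolvable_of_isSolvable_injective (f := (IsCyclic.mulAutMulEquiv P).toMonoidHom)
      (IsCyclic.mulAutMulEquiv P).injective
  have h0 : Group.IsSolvable P := by
    apply Group.isSolvable_of_comm
    intro a b
    exact (IsCyclic.isMulCommutative (α := P)).is_comm.comm a b
  refine Group.isSolvable_of_ker_le_range (Subgroup.inclusion Subgroup.le_normalizer)
    P.normalizerMonoidHom ?_
  intro g hg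
  rw [Subgroup.normalizerMonoidHom_ker, Subgroup.mem_subgroupOf] at hg
  exact ⟨⟨g.1, hC hg⟩, rfl⟩

/-- A perfect group of order `p (p^2 - 1) / 2` with a self-centralising element of order `p` and
with `p + 1` Sylow `p`-subgroups is simple. -/
theorem isSimpleGroup_of_perfect_card {p : ℕ} [Fact p.Prime] (hp : p ≠ 2) {G : Type*} [Group G]
    [Finite G] (hperf : commutator G = ⊤) {z : G} (hz : orderOf z = p)
    (hC : Subgroup.centralizer ({z} : Set G) = Subgroup.zpowers z)
    (hcard : Nat.card G * 2 = (p + 1) * p * (p - 1))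
    (hsyl : Nat.card (Sylow p G) = p + 1) : IsSimpleGroup G := by
  have hpp : p.Prime := Fact.out
  have hp3 : 3 ≤ p := by
    have := hpp.two_le
    omega
  have hz1 : z ≠ 1 := by
    rintro rfl
    rw [orderOf_one] at hz
    omega
  have hnt : Nontrivial G := ⟨z, 1, hz1⟩
  have hPp : IsPGroup p (Subgroup.zpowers z) := by
    apply IsPGroup.of_card (n := 1)
    rw [Nat.card_zpowers, hz, pow_one]
  obtain ⟨P, hP⟩ := hPp.exists_le_sylow
  have hPcard : Nat.card P = p := by
    rw [Sylow.card_eq_multiplicity]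
    have h1 : (Nat.card G * 2).factorization p = ((p + 1) * p * (p - 1)).factorization p := by
      rw [hcard]
    rw [Nat.factorization_mul Nat.card_pos.ne' (by norm_num),
      Nat.factorization_mul (by positivity) (by omega),
      Nat.factorization_mul (by omega) hpp.ne_zero, Finsupp.add_apply, Finsupp.add_apply,
      Finsupp.add_apply, hpp.factorization_self,
      Nat.factorization_eq_zero_of_not_dvd (n := 2) (p := p)
        (by
          intro h
          have := Nat.le_of_dvd (by norm_num) h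
          omega),
      Nat.factorization_eq_zero_of_not_dvd (n := p + 1) (p := p)
        (by
          intro h
          have := (Nat.dvd_add_right (dvd_refl p)).1 h
          have := Nat.le_of_dvd (by norm_num) this
          omega),
      Nat.factorization_eq_zero_of_not_dvd (n := p - 1) (p := p)
        (by
          intro h
          have := Nat.le_of_dvd (by omega) h
          omega)] at h1
    rw [show (Nat.card G).factorization p = 1 by omega, pow_one]
  have hPeq : Subgroup.zpowers z = P := by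
    apply Subgroup.eq_of_le_of_card_ge hP
    rw [hPcard, Nat.card_zpowers, hz]
  have hcent : Subgroup.centralizer ((P : Subgroup G) : Set G) ≤ P := by
    intro g hg
    rw [← hPeq, ← hC]
    rw [Subgroup.mem_centralizer_singleton_iff]
    rw [Subgroup.mem_centralizer_iff] at hg
    exact (hg z (hP (Subgroup.mem_zpowers z))).symm
  have hPcyc : IsCyclic (P : Subgroup G) := by
    rw [← hPeq]; infer_instance
  -- fixed points of `z`
  have hfix : ∀ Q : Sylow p G, z • Q = Q → Q = P := by
    intro Q hQ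
    have h1 : z ∈ Subgroup.normalizer ((Q : Subgroup G) : Set G) :=
      Sylow.smul_eq_iff_mem_normalizer.1 hQ
    have h2 : Subgroup.zpowers z ≤ (Q : Subgroup G) := by
      have h3 := hPp.inf_normalizer_sylow Q
      have h4 : Subgroup.zpowers z ≤ Subgroup.normalizer ((Q : Subgroup G) : Set G) := by
        rw [Subgroup.zpowers_le]; exact h1
      exact (le_inf le_rfl h4).trans (h3.le.trans inf_le_right)
    rw [hPeq] at h2
    have h5 : Nat.card Q = Nat.card P := by
      rw [Sylow.card_eq_multiplicity, Sylow.card_eq_multiplicity]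
    have h6 : (P : Subgroup G) = Q := Subgroup.eq_of_le_of_card_ge h2 h5.le
    exact Sylow.ext h6.symm
  have hsylnt : Nontrivial (Sylow p G) := by
    rw [← Finite.one_lt_card_iff_nontrivial, hsyl]; omega
  -- faithfulness
  have hfaith : FaithfulSMul G (Sylow p G) := by
    constructor
    intro g h hgh
    set K := (MulAction.toPermHom G (Sylow p G)).ker with hK
    have hKmem : ∀ k, k ∈ K ↔ ∀ Q : Sylow p G, k • Q = Q := by
      intro k
      rw [hK, MonoidHom.mem_ker]
      constructor
      · intro h Q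
        have := DFunLike.congr_fun h Q
        exact this
      · intro h
        ext Q : 1
        exact h Q
    have hKbot : ∀ k ∈ K, k = 1 := by
      have hint : ∀ k ∈ K, k ∈ (P : Subgroup G) → k = 1 := by
        intro k hkK hkP
        by_contra hk1
        have hzk : z ∈ Subgroup.zpowers k := by
          have h1 : orderOf k = p := by
            have h2 : orderOf k ∣ p := by
              rw [← hPcard]
              have := orderOf_dvd_natCard (⟨k, hkP⟩ : (P : Subgroup G))
              rwa [Subgroup.orderOf_mk] at this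
            rcases (Nat.dvd_prime hpp).1 h2 with h3 | h3
            · exact (hk1 (orderOf_eq_one_iff.1 h3)).elim
            · exact h3
          have h4 : Subgroup.zpowers k = P := by
            apply Subgroup.eq_of_le_of_card_ge
            · rw [Subgroup.zpowers_le]; exact hkP
            · rw [hPcard, Nat.card_zpowers, h1]
          rw [h4]
          exact hP (Subgroup.mem_zpowers z)
        have hzK : z ∈ K := (Subgroup.zpowers_le.2 hkK) hzk
        have hall : ∀ Q : Sylow p G, Q = P := fun Q => hfix Q ((hKmem z).1 hzK Q)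
        obtain ⟨Q, hQ⟩ := exists_ne P
        exact hQ (hall Q)
      intro k hk
      have h1 : k * z * k⁻¹ * z⁻¹ ∈ K := by
        have h2 : z * k⁻¹ * z⁻¹ ∈ K := by
          have hKn : K.Normal := by rw [hK]; infer_instance
          exact hKn.conj_mem _ (inv_mem hk) z
        have h3 := mul_mem hk h2
        have h4 : k * (z * k⁻¹ * z⁻¹) = k * z * k⁻¹ * z⁻¹ := by group
        rwa [h4] at h3
      have h2 : k * z * k⁻¹ * z⁻¹ ∈ (P : Subgroup G) := by
        have h3 : k ∈ Subgroup.normalizer ((P : Subgroup G) : Set G) :=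
          Sylow.smul_eq_iff_mem_normalizer.1 ((hKmem k).1 hk P)
        have h4 : k * z * k⁻¹ ∈ (P : Subgroup G) :=
          (Subgroup.mem_normalizer_iff.1 h3 z).1 (hP (Subgroup.mem_zpowers z))
        exact mul_mem h4 (inv_mem (hP (Subgroup.mem_zpowers z)))
      have h3 := hint _ h1 h2
      have h4 : k ∈ Subgroup.centralizer ({z} : Set G) := by
        rw [Subgroup.mem_centralizer_singleton_iff]
        have h5 : k * z * k⁻¹ = z := by
          rw [mul_inv_eq_one] at h3
          exact h3
        exact mul_inv_eq_iff_eq_mul.1 h5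
      rw [hC, hPeq] at h4
      exact hint k hk h4
    have hgk : g * h⁻¹ ∈ K := by
      rw [hKmem]
      intro Q
      rw [mul_smul, hgh, smul_inv_smul]
    exact mul_inv_eq_one.1 (hKbot _ hgk)
  -- transitivity of `zpowers z` on the other Sylow subgroups
  have htransP : ∀ Q R : Sylow p G, Q ≠ P → R ≠ P → ∃ g : G, g • P = P ∧ g • Q = R := by
    intro Q R hQ hR
    have hPfix : ∀ g : Subgroup.zpowers z, (g : G) • P = P := by
      intro g
      rw [Sylow.smul_eq_iff_mem_normalizer]
      apply Subgroup.le_normalizer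
      rw [← hPeq]
      exact g.2
    have horb : Nat.card (MulAction.orbit (Subgroup.zpowers z) Q) = p := by
      have h1 : Nat.card (MulAction.orbit (Subgroup.zpowers z) Q) ∣ p := by
        have h0 := MulAction.index_stabilizer (Subgroup.zpowers z) Q
        rw [← Nat.card_coe_set_eq] at h0
        rw [← h0]
        have h00 := (MulAction.stabilizer (Subgroup.zpowers z) Q).index_dvd_card
        rwa [Nat.card_zpowers, hz] at h00
      rcases (Nat.dvd_prime hpp).1 h1 with h2 | h2
      · exfalso
        apply hQ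
        apply hfix
        have h3 : (MulAction.orbit (Subgroup.zpowers z) Q).Subsingleton := by
          rw [← Set.subsingleton_coe]
          exact (Nat.card_eq_one_iff_unique.1 h2).1
        exact h3 ⟨⟨z, Subgroup.mem_zpowers z⟩, rfl⟩ (MulAction.mem_orbit_self Q)
      · exact h2
    have hsub : MulAction.orbit (Subgroup.zpowers z) Q ⊆ ({P}ᶜ : Set (Sylow p G)) := by
      rintro _ ⟨g, rfl⟩ h
      apply hQ
      have h' : (g : G) • Q = P := h
      have := hPfix g
      rw [← h'] at this
      have h4 := MulAction.injective (g : G) this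
      rw [h4] at h'
      exact h'
    have hcompl : ({P}ᶜ : Set (Sylow p G)).ncard = p := by
      rw [Set.ncard_compl, Set.ncard_singleton, hsyl]
      omega
    have heq : MulAction.orbit (Subgroup.zpowers z) Q = ({P}ᶜ : Set (Sylow p G)) := by
      apply Set.eq_of_subset_of_ncard_le hsub
      rw [hcompl]
      rw [Nat.card_coe_set_eq] at horb
      rw [horb]
    have hRmem : R ∈ MulAction.orbit (Subgroup.zpowers z) Q := by
      rw [heq]; exact hR
    obtain ⟨g, hg⟩ := hRmem
    exact ⟨g, hPfix g, hg⟩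
  have h2 : MulAction.IsMultiplyPretransitive G (Sylow p G) 2 := by
    rw [MulAction.is_two_pretransitive_iff]
    intro a b c d hab hcd
    obtain ⟨g1, hg1⟩ := MulAction.exists_smul_eq G a P
    obtain ⟨g2, hg2⟩ := MulAction.exists_smul_eq G c P
    have hb : g1 • b ≠ P := by
      intro h
      rw [← hg1] at h
      exact hab (MulAction.injective g1 h).symm
    have hd : g2 • d ≠ P := by
      intro h
      rw [← hg2] at h
      exact hcd (MulAction.injective g2 h).symm
    obtain ⟨k, hk1, hk2⟩ := htransP _ _ hb hd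
    refine ⟨g2⁻¹ * k * g1, ?_, ?_⟩
    · rw [mul_smul, mul_smul, hg1, hk1, inv_smul_eq_iff, hg2]
    · rw [mul_smul, mul_smul, hk2, inv_smul_smul]
  have hsol : Group.IsSolvable (MulAction.stabilizer G P) := by
    rw [Sylow.stabilizer_eq_normalizer]
    exact isSolvable_normalizer (P : Subgroup G) hcent
  exact isSimpleGroup_of_two_transitive hperf h2 P hsol

/-- A perfect group of order `p (p^2 - 1) / 2` with a self-centralising element of order `p` and
with `p + 1` Sylow `p`-subgroups is isomorphic to `PSL(2,p)`. -/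
theorem psl2_of_perfect_card {p : ℕ} [Fact p.Prime] (hp : p ≠ 2) {G : Type*} [Group G]
    [Finite G] (hperf : commutator G = ⊤) {z : G} (hz : orderOf z = p)
    (hC : Subgroup.centralizer ({z} : Set G) = Subgroup.zpowers z)
    (hcard : Nat.card G * 2 = (p + 1) * p * (p - 1))
    (hsyl : Nat.card (Sylow p G) = p + 1) {F : Type*} [Field F] [Fintype F]
    (hF : Fintype.card F = p) :
    Nonempty (G ≃* Matrix.ProjectiveSpecialLinearGroup (Fin 2) F) := by
  have := isSimpleGroup_of_perfect_card hp hperf hz hC hcard hsyl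
  exact PSL2Recog.psl2_of_simple_card hp hcard hsyl hF

end Cfsg.Agent.SmallSimple.PSL2Perfect
end
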