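import Mathlib
import Cfsg.Agent.SmallSimple.SylowEight
import Cfsg.Agent.SmallSimple.Simple168Klein
import Cfsg.Agent.SmallSimple.SylowPrimeCount
import Cfsg.Agent.SmallSimple.SylowPrime
import Cfsg.Agent.SmallSimple.SylFiveReduce
import Cfsg.Agent.SmallSimple.DegreePPlusOne
import Cfsg.Agent.SmallSimple.PrimeLocal
import Cfsg.Agent.SmallSimple.PrimeOrderData
import Cfsg.Agent.SmallSimple.Parity
import Cfsg.Agent.SmallSimple.RelSylow
import Cfsg.Agent.SmallSimple.SylowInter
import Cfsg.Agent.SmallSimple.SylowMaxInter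
import Cfsg.Agent.SmallSimple.Embed
import Cfsg.Agent.SmallSimple.BurnsideNC
set_option linter.all false

-- part: SmallSimple/Order3960
section
set_option autoImplicit false

/-! There is no simple group of order 3960. -/

namespace Cfsg.Agent.SmallSimple.Order3960

open Subgroup

/-- A permutation of order dividing 4 of a set with `4m+1` points, `m` odd, whose square has only
one fixed point, is odd. -/
theorem sign_eq_neg_one {Ω : Type*} [Fintype Ω] [DecidableEq Ω] (σ : Equiv.Perm Ω)
    (h4 : σ ^ 4 = 1) (ω : Ω) (hω : σ ω = ω) (huniq : ∀ a, (σ ^ 2) a = a → a = ω) (m : ℕ)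
    (hm : Odd m) (hcard : Fintype.card Ω = 4 * m + 1) : Equiv.Perm.sign σ = -1 := by
  have hsupp : σ.support = Finset.univ.erase ω := by
    ext a
    rw [Equiv.Perm.mem_support, Finset.mem_erase]
    constructor
    · intro ha
      exact ⟨fun h => ha (by rw [h, hω]), Finset.mem_univ a⟩
    · rintro ⟨ha, -⟩ h
      apply ha
      apply huniq
      rw [pow_two, Equiv.Perm.mul_apply, h, h]
  have hsum : σ.cycleType.sum = 4 * m := by
    rw [Equiv.Perm.sum_cycleType, hsupp, Finset.card_erase_of_mem (Finset.mem_univ ω),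
      Finset.card_univ, hcard]
    rfl
  have hall : ∀ n ∈ σ.cycleType, n = 4 := by
    intro n hn
    have h2 : 2 ≤ n := Equiv.Perm.two_le_of_mem_cycleType hn
    have hd : n ∣ 4 := (Equiv.Perm.dvd_of_mem_cycleType hn).trans (orderOf_dvd_of_pow_eq_one h4)
    have hn4 : n ≤ 4 := Nat.le_of_dvd (by norm_num) hd
    have hne2 : n ≠ 2 := by
      rintro rfl
      rw [Equiv.Perm.cycleType_def, Multiset.mem_map] at hn
      obtain ⟨c, hc, hc2⟩ := hn
      rw [← Finset.mem_def] at hc
      rw [Equiv.Perm.mem_cycleFactorsFinset_iff] at hc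
      obtain ⟨a, b, hab, hcab⟩ := Equiv.Perm.card_support_eq_two.1 hc2
      have ha : a ∈ c.support := by
        rw [hcab, Equiv.Perm.mem_support, Equiv.swap_apply_left]
        exact hab.symm
      have hb : b ∈ c.support := by
        rw [hcab, Equiv.Perm.mem_support, Equiv.swap_apply_right]
        exact hab
      have h1 : σ a = b := by
        rw [← hc.2 a ha, hcab, Equiv.swap_apply_left]
      have h2 : σ b = a := by
        rw [← hc.2 b hb, hcab, Equiv.swap_apply_right]
      have h3 : a = ω := huniq a (by rw [pow_two, Equiv.Perm.mul_apply, h1, h2])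
      rw [h3, hω] at h1
      exact hab (h3.trans h1)
    interval_cases n
    · exact absurd rfl hne2
    · revert hd; decide
    · rfl
  have hrep : σ.cycleType = Multiset.replicate (Multiset.card σ.cycleType) 4 :=
    Multiset.eq_replicate_card.2 hall
  have hc : Multiset.card σ.cycleType = m := by
    have h1 := congrArg Multiset.sum hrep
    rw [hsum, Multiset.sum_replicate, smul_eq_mul] at h1
    omega
  rw [Equiv.Perm.sign_of_cycleType, hsum, hc, pow_add, pow_mul]
  rw [hm.neg_one_pow]
  norm_num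

theorem eq_one_of_centralizer_eq_top {G : Type*} [Group G] [IsSimpleGroup G]
    (hG : ¬ IsMulCommutative G) (z : G) (hz : centralizer ({z} : Set G) = ⊤) : z = 1 := by
  have h1 : z ∈ center G := by
    rw [mem_center_iff]
    intro g
    have h2 : g ∈ centralizer ({z} : Set G) := by rw [hz]; exact mem_top g
    rw [mem_centralizer_singleton_iff] at h2
    exact h2
  rcases Subgroup.Normal.eq_bot_or_eq_top (H := center G) inferInstance with h | h
  · rw [h] at h1
    exact mem_bot.1 h1
  · exfalso
    apply hG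
    refine ⟨⟨fun a b => ?_⟩⟩
    have h2 : b ∈ center G := by rw [h]; exact mem_top b
    exact (mem_center_iff.1 h2) a

/-- The centralizer of a conjugate. -/
theorem centralizer_conj {G : Type*} [Group G] (g z : G) :
    centralizer ({g * z * g⁻¹} : Set G) =
      (centralizer ({z} : Set G)).map (MulAut.conj g).toMonoidHom := by
  ext x
  rw [mem_centralizer_singleton_iff, mem_map_equiv, mem_centralizer_singleton_iff]
  rw [MulAut.conj_symm_apply]
  constructor
  · intro h
    have : g⁻¹ * (x * (g * z * g⁻¹)) * g = g⁻¹ * (g * z * g⁻¹ * x) * g := by rw [h]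
    calc g⁻¹ * x * g * z = g⁻¹ * (x * (g * z * g⁻¹)) * g := by group
      _ = g⁻¹ * (g * z * g⁻¹ * x) * g := this
      _ = z * (g⁻¹ * x * g) := by group
  · intro h
    calc x * (g * z * g⁻¹) = g * (g⁻¹ * x * g * z) * g⁻¹ := by group
      _ = g * (z * (g⁻¹ * x * g)) * g⁻¹ := by rw [h]
      _ = g * z * g⁻¹ * x := by group

section main

variable {G : Type*} [Group G] [Finite G] [IsSimpleGroup G]

theorem aux (h : Nat.card G = 3960) (hG : ¬ IsMulCommutative G)
    (P : Sylow 11 G) (K : Subgroup G) (hn : Nat.card (Sylow 11 G) = 45)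
    (hp : Fact (Nat.Prime 11))
    (hN : Nat.card (normalizer ((P : Subgroup G) : Set G)) = 88)
    (hC : Nat.card (centralizer ((P : Subgroup G) : Set G)) = 44)
    (hK : Nat.card K = 4)
    (hKmem : ∀ x, x ∈ K ↔ x ∈ centralizer ((P : Subgroup G) : Set G) ∧ x ^ 4 = 1) : False := by
  classical
  set H := normalizer ((P : Subgroup G) : Set G) with hHdef
  set C := centralizer ((P : Subgroup G) : Set G) with hCdef
  have hCH : C ≤ H := centralizer_le_normalizer _
  have hPH : (P : Subgroup G) ≤ H := le_normalizer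
  have hPcard : Nat.card (P : Subgroup G) = 11 :=
    Simple168.card_sylow_of_eq 11 1 360 (by rw [h]; norm_num) (by norm_num) P
  have hCn : ∀ n ∈ H, ∀ c ∈ C, n * c * n⁻¹ ∈ C := by
    intro n hn c hc
    rw [hCdef, mem_centralizer_iff] at hc ⊢
    intro y hy
    have hy' : n⁻¹ * y * n ∈ (P : Subgroup G) := (mem_normalizer_iff''.1 hn y).1 hy
    have h1 := hc _ hy'
    calc y * (n * c * n⁻¹) = n * (n⁻¹ * y * n * c) * n⁻¹ := by group
      _ = n * (c * (n⁻¹ * y * n)) * n⁻¹ := by rw [h1]
      _ = n * c * n⁻¹ * y := by group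
  have hKN : H ≤ normalizer (K : Set G) := by
    rw [Subgroup.le_normalizer_iff]
    intro n hn k hk
    rw [hKmem] at hk ⊢
    refine ⟨hCn n hn k hk.1, ?_⟩
    rw [conj_pow, hk.2, mul_one, mul_inv_cancel]
  have hKC : K ≤ C := fun x hx => ((hKmem x).1 hx).1
  have h8 : 8 ∣ Nat.card G := by rw [h]; norm_num
  have h16 : ¬ 16 ∣ Nat.card G := by rw [h]; norm_num
  have h7 : ¬ 7 ∣ Nat.card G := by rw [h]; norm_num
  obtain ⟨T, hTH⟩ : ∃ T : Sylow 2 G, (T : Subgroup G) ≤ H := by
    obtain ⟨S⟩ : Nonempty (Sylow 2 H) := inferInstance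
    have hS : Nat.card (S : Subgroup H) = 8 :=
      Simple168.card_sylow_of_eq 2 3 11 (by rw [hN]; norm_num) (by norm_num) S
    have h1 : IsPGroup 2 ((S : Subgroup H).map H.subtype) := S.isPGroup'.map _
    obtain ⟨T, hT⟩ := h1.exists_le_sylow
    refine ⟨T, ?_⟩
    have h2 : (S : Subgroup H).map H.subtype = T := by
      apply Subgroup.eq_of_le_of_card_ge hT
      rw [SylowEight.card_sylow_eight h8 h16 T,
        ← Nat.card_congr ((S : Subgroup H).equivMapOfInjective _ H.subtype_injective).toEquiv, hS]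
    rw [← h2]
    exact map_subtype_le _
  have hTcard := SylowEight.card_sylow_eight h8 h16 T
  have hTna : ¬ ∀ x y : (T : Subgroup G), x * y = y * x := by
    intro h0
    exact SylowEight.not_comm_sylow_of_card_eight hG h8 h16 h7 T ⟨⟨h0⟩⟩
  have hK2 : IsPGroup 2 K := IsPGroup.of_card (n := 2) hK
  have hKT : K ≤ (T : Subgroup G) :=
    Simple168Klein.le_sylow_of_le_normalizer hK2 T (hTH.trans hKN)
  -- a central involution of `T` in `K`
  obtain ⟨z, hzK, hz2, hzT⟩ : ∃ z ∈ K, orderOf z = 2 ∧ ∀ t ∈ (T : Subgroup G), t * z = z * t := by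
    have hnorm : (K.subgroupOf (T : Subgroup G)).Normal :=
      (normal_subgroupOf_iff_le_normalizer hKT).2 (hTH.trans hKN)
    have hne : K.subgroupOf (T : Subgroup G) ≠ ⊥ := by
      intro h0
      have h1 := Nat.card_congr (subgroupOfEquivOfLe hKT).toEquiv
      rw [h0, hK] at h1
      simp at h1
    obtain ⟨z, hzK, hzc, hz1⟩ := SylowPrimeCount.exists_mem_center_of_normal T.isPGroup' _ hne
    refine ⟨z.1, hzK, ?_, ?_⟩
    · rw [Subgroup.orderOf_coe]
      exact Simple168Classes.orderOf_of_mem_center hTcard hTna hzc hz1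
    · intro t ht
      exact congrArg Subtype.val (mem_center_iff.1 hzc ⟨t, ht⟩)
  have hz1 : z ≠ 1 := by
    rintro rfl
    simp at hz2
  set Z := centralizer ({z} : Set G) with hZdef
  have hTZ : (T : Subgroup G) ≤ Z := by
    intro t ht
    rw [hZdef, mem_centralizer_singleton_iff]
    exact hzT t ht
  have hPZ : (P : Subgroup G) ≤ Z := by
    intro y hy
    rw [hZdef, mem_centralizer_singleton_iff]
    exact (mem_centralizer_iff.1 (hKC hzK)) y hy
  have hHZ : H ≤ Z := by
    have h1 : Nat.card (T : Subgroup G) ∣ Nat.card (H ⊓ Z : Subgroup G) :=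
      Subgroup.card_dvd_of_le (le_inf hTH hTZ)
    have h2 : Nat.card (P : Subgroup G) ∣ Nat.card (H ⊓ Z : Subgroup G) :=
      Subgroup.card_dvd_of_le (le_inf hPH hPZ)
    rw [hTcard] at h1
    rw [hPcard] at h2
    have h3 : 8 * 11 ∣ Nat.card (H ⊓ Z : Subgroup G) :=
      Nat.Coprime.mul_dvd_of_dvd_of_dvd (by norm_num) h1 h2
    have h4 : H ⊓ Z = H := by
      apply Subgroup.eq_of_le_of_card_ge inf_le_left
      rw [hN]
      exact Nat.le_of_dvd Nat.card_pos h3
    rw [← h4]
    exact inf_le_right
  -- `C(z) = N(P)`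
  have hZH : Z = H := by
    have h1 : Nat.card (Sylow 11 Z) = H.relIndex Z :=
      SylFiveReduce.card_sylow_subgroup P Z hPZ
    have h2 : H.relIndex Z * Z.index = 45 := by
      rw [relIndex_mul_index hHZ, ← hn, P.card_eq_index_normalizer]
      rfl
    have h3 : H.relIndex Z ≡ 1 [MOD 11] := by
      rw [← h1]
      exact card_sylow_modEq_one 11 Z
    have h4 : H.relIndex Z ∣ 45 := ⟨_, h2.symm⟩
    have h5 : H.relIndex Z = 1 ∨ H.relIndex Z = 45 := by
      have h6 : H.relIndex Z ≤ 45 := Nat.le_of_dvd (by norm_num) h4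
      revert h3 h4
      unfold Nat.ModEq
      generalize H.relIndex Z = m at *
      interval_cases m <;> decide
    rcases h5 with h5 | h5
    · exact le_antisymm (relIndex_eq_one.1 h5) hHZ
    · exfalso
      rw [h5] at h2
      have h6 : Z.index = 1 := by omega
      exact hz1 (eq_one_of_centralizer_eq_top hG z (index_eq_one.1 h6))
  -- every involution is associated to a Sylow 11-subgroup
  have hinv : ∀ u : G, orderOf u = 2 → ∃ g : G, u = g * z * g⁻¹ ∧
      centralizer ({u} : Set G) = normalizer (((g • P : Sylow 11 G) : Subgroup G) : Set G) := by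
    intro u hu
    obtain ⟨g, hg⟩ := isConj_iff.1
      (SylowEight.isConj_of_card_sylow_eight hG h8 h16 z u hz2 hu)
    refine ⟨g, hg.symm, ?_⟩
    rw [← hg, centralizer_conj, ← hZdef, hZH, Sylow.coe_subgroup_smul]
    exact (Simple168Klein.normalizer_map_conj (P : Subgroup G) g).symm
  have hPQ : ∀ Q : Sylow 11 G, (P : Subgroup G) ≤ normalizer ((Q : Subgroup G) : Set G) → Q = P := by
    intro Q hQ
    have h1 : (P : Subgroup G) ⊓ normalizer ((Q : Subgroup G) : Set G) =
      (P : Subgroup G) ⊓ Q := P.isPGroup'.inf_normalizer_sylow Q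
    rw [inf_eq_left.2 hQ] at h1
    have h2 : (P : Subgroup G) ≤ Q := inf_eq_left.1 h1.symm
    apply Sylow.ext
    exact P.is_maximal' Q.isPGroup' h2
  -- the only involution of `K`
  have huniqK : ∀ u ∈ K, orderOf u = 2 → u = z := by
    intro u hu hu2
    obtain ⟨g, -, hg⟩ := hinv u hu2
    have h1 : (P : Subgroup G) ≤ normalizer (((g • P : Sylow 11 G) : Subgroup G) : Set G) := by
      rw [← hg]
      intro y hy
      rw [mem_centralizer_singleton_iff]
      exact (mem_centralizer_iff.1 (hKC hu)) y hy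
    rw [hPQ _ h1] at hg
    have h2 : (⟨u, hKT hu⟩ : (T : Subgroup G)) = ⟨z, hKT hzK⟩ := by
      apply Simple168Classes.center_unique hTcard hTna
      · rw [mem_center_iff]
        rintro ⟨t, ht⟩
        apply Subtype.ext
        show t * u = u * t
        have h3 : t ∈ centralizer ({u} : Set G) := by
          rw [hg]
          exact hTH ht
        exact mem_centralizer_singleton_iff.1 h3
      · intro h0
        have : u = 1 := congrArg Subtype.val h0
        rw [this] at hu2
        simp at hu2
      · rw [mem_center_iff]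
        rintro ⟨t, ht⟩
        exact Subtype.ext (hzT t ht)
      · intro h0
        exact hz1 (congrArg Subtype.val h0)
    exact congrArg Subtype.val h2
  -- an element of order 4
  obtain ⟨k, hkK, hk4⟩ : ∃ k ∈ K, orderOf k = 4 := by
    by_contra hcon
    push Not at hcon
    have h1 : ∀ x ∈ K, x = 1 ∨ x = z := by
      intro x hx
      have h2 : orderOf x ∣ 2 ^ 2 := by
        apply orderOf_dvd_of_pow_eq_one
        exact ((hKmem x).1 hx).2
      obtain ⟨j, hj, hj'⟩ := (Nat.dvd_prime_pow Nat.prime_two).1 h2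
      interval_cases j
      · left
        exact orderOf_eq_one_iff.1 hj'
      · right
        exact huniqK x hx hj'
      · exact absurd hj' (hcon x hx)
    have h2 : K ≤ zpowers z := by
      intro x hx
      rcases h1 x hx with h3 | h3
      · rw [h3]; exact one_mem _
      · rw [h3]; exact mem_zpowers z
    have h3 := Subgroup.card_le_of_le h2
    rw [hK, Nat.card_zpowers, hz2] at h3
    omega
  have hkpow : zpowers k = K := by
    apply Subgroup.eq_of_le_of_card_ge ((zpowers_le).2 hkK)
    rw [hK, Nat.card_zpowers, hk4]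
  have hk2 : k ^ 2 = z := by
    apply huniqK _ (K.pow_mem hkK 2)
    rw [orderOf_pow, hk4]
    norm_num
  have hfour : ∀ x ∈ K, x = 1 ∨ x = k ∨ x = z ∨ x = k⁻¹ := by
    intro x hx
    rw [← hkpow, mem_zpowers_iff] at hx
    obtain ⟨j, rfl⟩ := hx
    rw [← zpow_mod_orderOf, hk4]
    have h1 : 0 ≤ j % 4 := Int.emod_nonneg _ (by norm_num)
    have h2 : j % 4 < 4 := Int.emod_lt_of_pos _ (by norm_num)
    have h3 : ((4 : ℕ) : ℤ) = 4 := rfl
    rw [h3]
    interval_cases hj : j % 4
    · left; simp
    · right; left; simp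
    · right; right; left
      rw [← hk2]
      exact zpow_ofNat k 2
    · right; right; right
      rw [eq_inv_iff_mul_eq_one]
      have h5 : k ^ (3 : ℤ) = k ^ 3 := zpow_ofNat k 3
      rw [h5, ← pow_succ, show 3 + 1 = orderOf k by rw [hk4], pow_orderOf_eq_one]
  -- decomposition of elements of `C`
  have hdec : ∀ c ∈ C, ∃ y ∈ (P : Subgroup G), ∃ w ∈ K, c = y * w := by
    intro c hc
    have h1 : orderOf c ∣ 44 := by
      have h2 := orderOf_dvd_natCard (⟨c, hc⟩ : C)
      rwa [hC, Subgroup.orderOf_mk] at h2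
    have h44 : c ^ 44 = 1 := orderOf_dvd_iff_pow_eq_one.1 h1
    refine ⟨c ^ 12, ?_, (c ^ 11)⁻¹, ?_, ?_⟩
    · by_cases h12 : c ^ 12 = 1
      · rw [h12]; exact one_mem _
      · have h3 : orderOf (c ^ 12) = 11 := by
          apply orderOf_eq_prime _ h12
          rw [← pow_mul, show 12 * 11 = 44 * 3 by norm_num, pow_mul, h44, one_pow]
        exact SylowPrime.mem_of_mem_normalizer_sylow h3 (H.pow_mem (hCH hc) 12)
    · apply K.inv_mem
      rw [hKmem]
      refine ⟨C.pow_mem hc 11, ?_⟩
      rw [← pow_mul, show 11 * 4 = 44 by norm_num, h44]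
    · rw [show 12 = 1 + 11 by norm_num, pow_add, pow_one, mul_inv_cancel_right]
  have hCidx : (C.subgroupOf H).index = 2 := by
    have h1 := (C.subgroupOf H).card_mul_index
    rw [Nat.card_congr (subgroupOfEquivOfLe hCH).toEquiv, hC, hN] at h1
    omega
  -- `z` normalizes only `P`
  have huniq : ∀ Q : Sylow 11 G, z ∈ normalizer ((Q : Subgroup G) : Set G) → Q = P := by
    intro Q hzQ
    by_contra hQP
    obtain ⟨g, hg⟩ := MulAction.exists_smul_eq G P Q
    set u := g * z * g⁻¹ with hu
    have hu2 : orderOf u = 2 := by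
      rw [← hz2]
      exact MulEquiv.orderOf_eq (MulAut.conj g) z
    have huQ : centralizer ({u} : Set G) = normalizer ((Q : Subgroup G) : Set G) := by
      rw [hu, centralizer_conj, ← hZdef, hZH, ← hg, Sylow.coe_subgroup_smul]
      exact (Simple168Klein.normalizer_map_conj (P : Subgroup G) g).symm
    clear_value u
    have huH : u ∈ H := by
      rw [← hZH, hZdef, mem_centralizer_singleton_iff]
      rw [← huQ, mem_centralizer_singleton_iff] at hzQ
      exact hzQ.symm
    have huu : u * u = 1 := by rw [← pow_two, ← hu2, pow_orderOf_eq_one]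
    have huinv : u⁻¹ = u := inv_eq_of_mul_eq_one_left huu
    have huC : u ∉ C := by
      intro h0
      have h1 : u ∈ K := by
        rw [hKmem]
        refine ⟨h0, ?_⟩
        rw [show 4 = 2 * 2 by norm_num, pow_mul, ← hu2, pow_orderOf_eq_one, hu2, one_pow]
      have h2 : u = z := huniqK u h1 hu2
      apply hQP
      apply hPQ
      rw [← huQ, h2]
      exact hPZ
    -- `u` inverts `P`
    have hPcomm : ∀ x ∈ (P : Subgroup G), ∀ y ∈ (P : Subgroup G), x * y = y * x := by
      have hcyc : IsCyclic (P : Subgroup G) := isCyclic_of_prime_card hPcard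
      intro x hx y hy
      exact congrArg Subtype.val (hcyc.isMulCommutative.is_comm.comm
        (⟨x, hx⟩ : (P : Subgroup G)) ⟨y, hy⟩)
    have hPinv : ∀ y ∈ (P : Subgroup G), u * y * u⁻¹ = y⁻¹ := by
      intro y hy
      have hy' : u * y * u⁻¹ ∈ (P : Subgroup G) := (mem_normalizer_iff.1 huH y).1 hy
      have hw : y * (u * y * u⁻¹) ∈ (P : Subgroup G) := mul_mem hy hy'
      by_cases h1 : y * (u * y * u⁻¹) = 1
      · exact eq_inv_of_mul_eq_one_right h1
      · exfalso
        apply huC
        rw [hCdef, mem_centralizer_iff]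
        intro v hv
        have h2 := SylowPrime.mem_zpowers_of_card_prime hp.out hPcard hw h1 hv
        obtain ⟨j, hj⟩ := mem_zpowers_iff.1 h2
        have h3 : Commute u (y * (u * y * u⁻¹)) := by
          show u * (y * (u * y * u⁻¹)) = y * (u * y * u⁻¹) * u
          have e1 : u * (y * (u * y * u⁻¹)) = (u * y * u⁻¹) * (u * u) * y * u⁻¹ := by group
          rw [e1, huu, mul_one, hPcomm _ hy' _ hy, huinv]
        rw [← hj]
        exact (h3.zpow_right j).symm.eq
    -- `u` inverts `K`
    have hkC : ∀ c ∈ C, c * k = k * c := by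
      intro c hc
      obtain ⟨y, hy, w, hw, rfl⟩ := hdec c hc
      have h1 : y * k = k * y := (mem_centralizer_iff.1 (hKC hkK)) y hy
      have h2 : w * k = k * w := by
        rcases hfour w hw with h3 | h3 | h3 | h3 <;> rw [h3]
        · simp
        · rw [← hk2]; group
        · simp
      rw [mul_assoc, h2, ← mul_assoc, h1, mul_assoc]
    have hkinv : u * k * u⁻¹ = k⁻¹ := by
      have h1 : u * k * u⁻¹ ∈ K := (mem_normalizer_iff.1 (hKN huH) k).1 hkK
      have h2 : orderOf (u * k * u⁻¹) = 4 := by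
        rw [← hk4]
        exact MulEquiv.orderOf_eq (MulAut.conj u) k
      rcases hfour _ h1 with h3 | h3 | h3 | h3
      · rw [h3] at h2; simp at h2
      · exfalso
        -- then `k` is central in `T`
        have h4 : ∀ t ∈ (T : Subgroup G), t * k = k * t := by
          intro t ht
          by_cases htC : t ∈ C
          · exact hkC t htC
          · have h5 : u * t ∈ C := by
              have h6 := (mul_mem_iff_of_index_two hCidx (a := ⟨u, huH⟩) (b := ⟨t, hTH ht⟩)).2
                (by
                  constructor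
                  · intro h7; exact absurd h7 huC
                  · intro h7; exact absurd h7 htC)
              exact h6
            have h6 := hkC _ h5
            have h7 : u * k = k * u := mul_inv_eq_iff_eq_mul.1 h3
            have h8 : u * (t * k) = u * (k * t) := by
              rw [← mul_assoc, h6, ← mul_assoc, ← h7]
              group
            exact mul_left_cancel h8
        have h5 : (⟨k, hKT hkK⟩ : (T : Subgroup G)) ∈ center (T : Subgroup G) := by
          rw [mem_center_iff]
          rintro ⟨t, ht⟩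
          exact Subtype.ext (h4 t ht)
        have h6 := Simple168Classes.orderOf_of_mem_center hTcard hTna h5 (by
          intro h0
          have : k = 1 := congrArg Subtype.val h0
          rw [this] at hk4
          simp at hk4)
        rw [Subgroup.orderOf_mk, hk4] at h6
        omega
      · rw [h3] at h2; omega
      · exact h3
    have hKinv : ∀ w ∈ K, u * w * u⁻¹ = w⁻¹ := by
      intro w hw
      rw [← hkpow, mem_zpowers_iff] at hw
      obtain ⟨j, rfl⟩ := hw
      rw [← conj_zpow, hkinv, inv_zpow]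
    have hCinv : ∀ c ∈ C, u * c * u⁻¹ = c⁻¹ := by
      intro c hc
      obtain ⟨y, hy, w, hw, rfl⟩ := hdec c hc
      have h1 : y * w = w * y := (mem_centralizer_iff.1 (hKC hw)) y hy
      calc u * (y * w) * u⁻¹ = (u * y * u⁻¹) * (u * w * u⁻¹) := by group
        _ = y⁻¹ * w⁻¹ := by rw [hPinv y hy, hKinv w hw]
        _ = (y * w)⁻¹ := by rw [h1, mul_inv_rev]
    -- all elements of `H \ C` are involutions
    have hHC : ∀ x ∈ H, x ∉ C → orderOf x = 2 := by
      intro x hx hxC
      have h5 : u * x ∈ C := by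
        have h6 := (mul_mem_iff_of_index_two hCidx (a := ⟨u, huH⟩) (b := ⟨x, hx⟩)).2
          (by
            constructor
            · intro h7; exact absurd h7 huC
            · intro h7; exact absurd h7 hxC)
        exact h6
      have h6 := hCinv _ h5
      have h7 : x * x = 1 := by
        rw [mul_inv_rev, huinv] at h6
        have e1 : u * (u * x) * u = x * u := by
          rw [← mul_assoc, huu, one_mul]
        rw [e1] at h6
        have e2 := mul_right_cancel h6
        rw [eq_inv_iff_mul_eq_one] at e2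
        exact e2
      apply orderOf_eq_prime
      · rw [pow_two, h7]
      · rintro rfl
        exact hxC (one_mem _)
    -- counting
    have hIcard : {x : G | orderOf x = 2}.ncard = 45 := by
      have h1 : {x : G | orderOf x = 2} = {x : G | IsConj z x} := by
        ext x
        constructor
        · intro hx
          exact SylowEight.isConj_of_card_sylow_eight hG h8 h16 z x hz2 hx
        · intro hx
          obtain ⟨c, hc⟩ := isConj_iff.1 hx
          show orderOf x = 2
          rw [← hc, ← hz2]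
          exact MulEquiv.orderOf_eq (MulAut.conj c) z
      have h2 := Simple168.card_isConj_mul_card_centralizer z
      rw [← hZdef, hZH, hN, h] at h2
      rw [h1]
      show Nat.card {x : G // IsConj z x} = 45
      omega
    have hzHC : z ∉ ((H : Set G) \ (C : Set G)) := fun h0 => h0.2 (hKC hzK)
    have hScard : (insert z ((H : Set G) \ (C : Set G))).ncard = 45 := by
      rw [Set.ncard_insert_of_notMem hzHC, Set.ncard_sdiff hCH]
      have e1 : (H : Set G).ncard = 88 := hN
      have e2 : (C : Set G).ncard = 44 := hC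
      rw [e1, e2]
    have hSI : insert z ((H : Set G) \ (C : Set G)) ⊆ {x : G | orderOf x = 2} := by
      rintro x (hx | ⟨hx1, hx2⟩)
      · rw [hx]
        exact hz2
      · exact hHC x hx1 hx2
    have hSeq : insert z ((H : Set G) \ (C : Set G)) = {x : G | orderOf x = 2} :=
      Set.eq_of_subset_of_ncard_le hSI (by rw [hIcard, hScard])
    have hcl : normalClosure ({z} : Set G) ≤ H := by
      rw [normalClosure, closure_le]
      intro x hx
      rw [Group.mem_conjugatesOfSet_iff] at hx
      obtain ⟨a, ha, hax⟩ := hx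
      have ha' : a = z := ha
      rw [ha'] at hax
      obtain ⟨c, hc⟩ := isConj_iff.1 hax
      have hx2 : x ∈ {x : G | orderOf x = 2} := by
        show orderOf x = 2
        rw [← hc, ← hz2]
        exact MulEquiv.orderOf_eq (MulAut.conj c) z
      rw [← hSeq] at hx2
      rcases hx2 with h1 | ⟨h1, -⟩
      · rw [h1]
        exact hCH (hKC hzK)
      · exact h1
    rcases Subgroup.Normal.eq_bot_or_eq_top (H := normalClosure ({z} : Set G)) inferInstance
      with h1 | h1
    · have h2 : z ∈ normalClosure ({z} : Set G) := subset_normalClosure rfl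
      rw [h1] at h2
      exact hz1 (mem_bot.1 h2)
    · rw [h1, top_le_iff] at hcl
      rw [hcl, Nat.card_congr Subgroup.topEquiv.toEquiv, h] at hN
      omega
  -- the sign
  have : Fintype (Sylow 11 G) := Fintype.ofFinite _
  have hs1 : Equiv.Perm.sign (MulAction.toPermHom G (Sylow 11 G) k) = -1 := by
    apply sign_eq_neg_one _ _ P _ _ 11 (by decide)
    · rw [← Nat.card_eq_fintype_card, hn]
    · rw [← map_pow, show 4 = orderOf k by rw [hk4], pow_orderOf_eq_one, map_one]
    · show k • P = P
      rw [Sylow.smul_eq_iff_mem_normalizer]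
      exact hCH (hKC hkK)
    · intro Q hQ
      rw [← map_pow, hk2] at hQ
      have hQ' : z • Q = Q := hQ
      rw [Sylow.smul_eq_iff_mem_normalizer] at hQ'
      exact huniq Q hQ'
  have hs2 := DegreePPlusOne.sign_toPerm_eq_one (by rw [h]; norm_num) (X := Sylow 11 G) k
  rw [hs1] at hs2
  exact absurd hs2 (by decide)

theorem not_simple_3960 {G : Type*} [Group G] [Finite G] [IsSimpleGroup G]
    (h : Nat.card G = 3960) : False := by
  have hG : ¬ IsMulCommutative G := Embed.not_comm_of_card_not_prime (by rw [h]; norm_num)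
  have hp : Fact (Nat.Prime 11) := ⟨by norm_num⟩
  obtain ⟨P⟩ : Nonempty (Sylow 11 G) := inferInstance
  have h11 : 11 ∣ Nat.card G := by rw [h]; norm_num
  have h121 : ¬ 11 ^ 2 ∣ Nat.card G := by rw [h]; norm_num
  have hP := PrimeLocal.card_of_not_sq_dvd h11 h121 P
  obtain ⟨e, K, hL⟩ := PrimeLocal.exists_local hG h11 h121 P
  obtain ⟨o, ho, ho'⟩ := hL.card_sylow hG (by norm_num) hP
  have hcard := hL.card_eq
  rw [h, ho] at hcard
  have hcard' : (1 + 11 * o) * (e * Nat.card K) = 360 := by
    have h1 : 11 * ((1 + 11 * o) * (e * Nat.card K)) = 11 * 360 := by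
      rw [← show 3960 = 11 * 360 by norm_num, hcard]
      ring
    exact Nat.eq_of_mul_eq_mul_left (by norm_num) h1
  have he1 := hL.one_lt
  have he2 := hL.dvd_pred
  have he3 : e ≤ 10 := Nat.le_of_dvd (by norm_num) he2
  have hm1 : 0 < e * Nat.card K := Nat.mul_pos (by omega) Nat.card_pos
  have hole : o ≤ 32 := by
    by_contra hcon
    push Not at hcon
    have h1 : (1 + 11 * 33) * 1 ≤ (1 + 11 * o) * (e * Nat.card K) :=
      Nat.mul_le_mul (by omega) hm1
    omega
  have hcases : (o = 0 ∨ o = 1) ∨ (o = 4 ∧ e * Nat.card K = 8) := by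
    generalize e * Nat.card K = m at *
    clear ho ho' hcard
    interval_cases o <;> omega
  rcases hcases with (h0 | h1) | ⟨h4, h8⟩
  · rw [h0] at ho'
    rcases ho' with h1 | h1
    · rw [Nat.factorial_zero] at h1
      have := Nat.dvd_one.1 h1
      omega
    · omega
  · rw [h1] at ho hcard'
    have h2 := hL.dvd_of_card_sylow_succ hG (by norm_num) hP (by rw [ho])
    have h3 : e * Nat.card K = 30 := by omega
    rw [h3] at h2
    revert h2
    norm_num
  · have he : e = 2 ∧ Nat.card K = 4 := by
      have h1 : e = 2 := by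
        interval_cases e
        · rfl
        all_goals omega
      rw [h1] at h8
      exact ⟨h1, by omega⟩
    obtain ⟨he, hK⟩ := he
    apply aux h hG P K (by rw [ho, h4]) hp
    · rw [show ((P : Subgroup G) : Set G) = (P : Set G) from rfl, hL.card_normalizer, he, hK]
    · rw [show ((P : Subgroup G) : Set G) = (P : Set G) from rfl, hL.card_centralizer, hK]
    · exact hK
    · intro x
      rw [hL.mem_iff x, hK]
      exact Iff.rfl

end main

end Cfsg.Agent.SmallSimple.Order3960
end

-- part: SmallSimple/Order4536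
section
/-!
There is no simple group of order 4536.
-/

set_option autoImplicit false

namespace Cfsg.Agent.SmallSimple.Order4536

open Subgroup MulAction
open Cfsg.Agent.SmallSimple.SylowPrime Cfsg.Agent.SmallSimple.SylowPrimeCount
open Cfsg.Agent.SmallSimple.SylowPrimeInvol Cfsg.Agent.SmallSimple.PrimeOrderData

variable {G : Type*} [Group G] [Finite G] [IsSimpleGroup G]

theorem not_comm (h : Nat.card G = 4536) : ¬ IsMulCommutative G :=
  Embed.not_comm_of_card_not_prime (by rw [h]; norm_num)

theorem card_sylow_3 (h : Nat.card G = 4536) : Nat.card (Sylow 3 G) = 28 := by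
  have f3 : Fact (Nat.Prime 3) := ⟨by norm_num⟩
  obtain ⟨P⟩ : Nonempty (Sylow 3 G) := inferInstance
  have h1 : Nat.card (Sylow 3 G) ∣ 56 :=
    card_sylow_dvd_of_card_eq P (k := 4) (m := 56) (by rw [h]; norm_num) (by norm_num)
  have h2 : Nat.card (Sylow 3 G) % 3 = 1 := card_sylow_modEq_one 3 G
  have h3 := Embed.two_mul_card_dvd_factorial_card_sylow (not_comm h) (p := 3)
    (by rw [h]; norm_num)
  rw [h] at h3
  have key : ∀ n ∈ Nat.divisors 56, n % 3 = 1 → 2 * 4536 ∣ n.factorial → n = 28 := by
    decide +kernel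
  exact key _ (Nat.mem_divisors.2 ⟨h1, by norm_num⟩) h2 h3

theorem card_P (h : Nat.card G = 4536) (P : Sylow 3 G) : Nat.card P = 81 := by
  have f3 : Fact (Nat.Prime 3) := ⟨by norm_num⟩
  have := card_sylow_of_card_eq P (k := 4) (m := 56) (by rw [h]; norm_num) (by norm_num)
  rw [this]
  norm_num

theorem card_N (h : Nat.card G = 4536) (P : Sylow 3 G) :
    Nat.card (normalizer (P : Set G)) = 162 := by
  have f3 : Fact (Nat.Prime 3) := ⟨by norm_num⟩
  have := card_normalizer_mul P
  rw [card_sylow_3 h, h] at this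
  omega

/-- An element of order 7 normalizes no Sylow 3-subgroup. -/
theorem seven_free (h : Nat.card G = 4536) {z : G} (hz : orderOf z = 7) (Q : Sylow 3 G) :
    z • Q ≠ Q := by
  intro hQ
  have h1 := Sylow.smul_eq_iff_mem_normalizer.1 hQ
  have h2 := Subgroup.orderOf_dvd_natCard _ h1
  rw [hz, card_N h] at h2
  norm_num at h2

theorem fix_bounds (h : Nat.card G = 4536) {z y : G} (hz : orderOf z = 7)
    (hzy : y * z = z * y) (hy : y ≠ 1) :
    7 ∣ Nat.card (fixedBy (Sylow 3 G) y) ∧ Nat.card (fixedBy (Sylow 3 G) y) < 28 := by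
  have f7 : Fact (Nat.Prime 7) := ⟨by norm_num⟩
  have f3 : Fact (Nat.Prime 3) := ⟨by norm_num⟩
  refine ⟨dvd_card_fixedBy hz hzy (seven_free h hz), ?_⟩
  have h1 := card_fixedBy_lt (G := G) (p := 3) (by rw [card_sylow_3 h]; norm_num) hy
  rwa [card_sylow_3 h] at h1

/-- No involution commutes with an element of order 7. -/
theorem two_not (h : Nat.card G = 4536) {z y : G} (hz : orderOf z = 7)
    (hzy : y * z = z * y) (hy : orderOf y = 2) : False := by
  have f2 : Fact (Nat.Prime 2) := ⟨by norm_num⟩
  have hG := not_comm h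
  have hy1 : y ≠ 1 := by
    rintro rfl
    rw [orderOf_one] at hy
    omega
  have hy2 : y ^ 2 = 1 := by rw [← hy]; exact pow_orderOf_eq_one y
  obtain ⟨h1, h2⟩ := fix_bounds h hz hzy hy1
  obtain ⟨k, hk⟩ := Parity.card_modEq_four (G := G) (X := Sylow 3 G) (by rw [h]; norm_num) y hy2
  rw [card_sylow_3 h] at hk
  have h3 : Nat.card (fixedBy (Sylow 3 G) y) = Nat.card {x : Sylow 3 G // y • x = x} := rfl
  rw [← h3] at hk
  have h4 : Nat.card (fixedBy (Sylow 3 G) y) = 0 := by
    obtain ⟨j, hj⟩ := h1
    omega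
  obtain ⟨R⟩ : Nonempty (Sylow 3 G) := inferInstance
  obtain ⟨t, ht⟩ := exists_prime_orderOf_dvd_card' (G := normalizer (R : Set G)) 2
    (by rw [card_N h]; norm_num)
  have ht' : orderOf (t : G) = 2 := by rw [Subgroup.orderOf_coe, ht]
  have hc := SylowEight.isConj_of_card_sylow_eight hG (by rw [h]; norm_num) (by rw [h]; norm_num)
    (t : G) y ht' hy
  obtain ⟨g, hg⟩ := isConj_iff.1 hc
  have h5 : (t : G) • R = R := Sylow.smul_eq_iff_mem_normalizer.2 t.2
  have h6 : y • (g • R) = g • R := by
    rw [← hg, ← mul_smul, inv_mul_cancel_right, mul_smul, h5]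
  have h7 : Nonempty (fixedBy (Sylow 3 G) y) := ⟨⟨g • R, h6⟩⟩
  have h8 : 0 < Nat.card (fixedBy (Sylow 3 G) y) := Nat.card_pos
  omega

theorem card_sylow_7 (h : Nat.card G = 4536) :
    Nat.card (Sylow 7 G) = 36 ∨ Nat.card (Sylow 7 G) = 162 := by
  have : Fact (Nat.Prime 7) := ⟨by norm_num⟩
  obtain ⟨h1, h2, h3, h4⟩ := card_sylow_prop (G := G) (p := 7) (m := 648) (by rw [h])
    (by norm_num) (by norm_num)
  rw [h] at h4
  have key : ∀ n ∈ Nat.divisors 648, n % 7 = 1 → n ≠ 1 → n ≠ 8 → n = 36 ∨ n = 162 := by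
    decide +kernel
  refine key _ (Nat.mem_divisors.2 ⟨h1, by norm_num⟩) h2 h3 ?_
  intro h8
  rw [h8] at h4
  revert h4
  decide +kernel

theorem card_fix_three (h : Nat.card G = 4536) {X : Type*} [MulAction G X] [Finite X] {y : G}
    (hy : orderOf y = 3) : Nat.card X ≡ Nat.card (fixedBy X y) [MOD 3] := by
  have f3 : Fact (Nat.Prime 3) := ⟨by norm_num⟩
  have hp : IsPGroup 3 (zpowers y) := by
    apply IsPGroup.of_card (n := 1)
    rw [Nat.card_zpowers, hy, pow_one]
  have h1 := hp.card_modEq_card_fixedPoints X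
  have h2 : fixedPoints (zpowers y) X = fixedBy X y := by
    ext x
    constructor
    · intro hx
      exact hx ⟨y, mem_zpowers y⟩
    · rintro hx ⟨g, hg⟩
      have : zpowers y ≤ stabilizer G x := by
        rw [zpowers_le]
        exact hx
      exact this hg
  rw [h2] at h1
  exact h1

theorem fix_three (h : Nat.card G = 4536) {z y : G} (hz : orderOf z = 7)
    (hzy : y * z = z * y) (hy : orderOf y = 3) : Nat.card (fixedBy (Sylow 3 G) y) = 7 := by
  have hy1 : y ≠ 1 := by
    rintro rfl
    rw [orderOf_one] at hy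
    omega
  obtain ⟨h1, h2⟩ := fix_bounds h hz hzy hy1
  have h3 : Nat.card (Sylow 3 G) % 3 = Nat.card (fixedBy (Sylow 3 G) y) % 3 :=
    card_fix_three h hy
  rw [card_sylow_3 h] at h3
  omega

theorem centralizer_not_sixty_three (h : Nat.card G = 4536) {z : G} (hz : orderOf z = 7)
    (hC : Nat.card (centralizer ({z} : Set G)) = 63) : False := by
  have f3 : Fact (Nat.Prime 3) := ⟨by norm_num⟩
  have f7 : Fact (Nat.Prime 7) := ⟨by norm_num⟩
  obtain ⟨K', hK'⟩ := Sylow.exists_subgroup_card_pow_prime (G := centralizer ({z} : Set G)) 3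
    (n := 2) (by rw [hC]; norm_num)
  let K : Subgroup G := K'.map (Subgroup.subtype _)
  have hK : Nat.card K = 9 := by
    have : Nat.card K = Nat.card K' :=
      (Nat.card_congr (K'.equivMapOfInjective _ (Subgroup.subtype_injective _)).toEquiv).symm
    rw [this, hK']; norm_num
  have hKc : ∀ x ∈ K, x * z = z * x := by
    rintro _ ⟨x, -, rfl⟩
    exact mem_centralizer_singleton_iff.1 x.2
  have hfaith : ∀ g : G, (∀ ω : Sylow 3 G, g • ω = ω) → g = 1 := by
    intro g hg
    by_contra hne
    obtain ⟨Q, hQ⟩ := exists_smul_ne (G := G) (p := 3) (by rw [card_sylow_3 h]; norm_num) hne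
    exact hQ (hg Q)
  have hZ : Nat.card (zpowers z) = 7 := by rw [Nat.card_zpowers, hz]
  have hno : ∀ ω : Sylow 3 G, ¬ (∀ y ∈ zpowers z, y • ω = ω) := fun ω hω =>
    seven_free h hz ω (hω z (mem_zpowers z))
  obtain ⟨o, ho1, ho2⟩ := OrbitSign.card_dvd_of_commute (Ω := Sylow 3 G) (not_comm h) hfaith
    (zpowers z) K (by rw [hZ]; decide) (by
      intro x hx y hy
      obtain ⟨k, rfl⟩ := mem_zpowers_iff.1 hy
      exact (Commute.zpow_right (hKc x hx) k)) (by rw [hK, hZ]; norm_num)
    (fun ω _ hω _ => absurd hω (hno ω))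
    (by
      intro ω _ y hy hyω
      by_contra hne
      have hy7 : orderOf y = 7 := by
        have h1 : orderOf y ∣ 7 := by
          rw [← hZ]
          exact Subgroup.orderOf_dvd_natCard _ hy
        rcases (Nat.dvd_prime (by norm_num)).1 h1 with h2 | h2
        · exact absurd (orderOf_eq_one_iff.1 h2) hne
        · exact h2
      exact seven_free h hy7 ω hyω)
  have h0 : Nat.card {ω : Sylow 3 G // ∀ y ∈ zpowers z, y • ω = ω} = 0 := by
    have : IsEmpty {ω : Sylow 3 G // ∀ y ∈ zpowers z, y • ω = ω} := ⟨fun ω => hno ω.1 ω.2⟩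
    exact Nat.card_of_isEmpty
  rw [h0, hZ, card_sylow_3 h] at ho1
  have ho : o = 4 := by omega
  subst ho
  rw [hK] at ho2
  revert ho2
  decide

/-- The centralizer and normalizer of an element of order 7. -/
theorem data_seven (h : Nat.card G = 4536) {z : G} (hz : orderOf z = 7) :
    Nat.card (centralizer ({z} : Set G)) = 21 ∧
      Nat.card (normalizer ((zpowers z : Subgroup G) : Set G)) = 126 := by
  have f7 : Fact (Nat.Prime 7) := ⟨by norm_num⟩
  have f2 : Fact (Nat.Prime 2) := ⟨by norm_num⟩
  obtain ⟨e, c, he1, he2, hc, hn, hs⟩ := exists_data (G := G) (p := 7) (m := 648) (by rw [h])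
    (by norm_num) (by norm_num) z hz
  have hc2 : ¬ 2 ∣ c := by
    intro hd
    obtain ⟨y, hy⟩ := exists_prime_orderOf_dvd_card' (G := centralizer ({z} : Set G)) 2
      (by rw [hc]; exact hd.mul_left 7)
    exact two_not h hz (mem_centralizer_singleton_iff.1 y.2) (by rw [Subgroup.orderOf_coe, hy])
  have he3 : e ≤ 6 := Nat.le_of_dvd (by norm_num) he1
  have hc63 : c ≠ 9 := by
    intro h9
    apply centralizer_not_sixty_three h hz
    rw [hc, h9]
  have hcp : 0 < c := by
    rcases Nat.eq_zero_or_pos c with h0 | h0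
    · exact absurd (by rw [h0]; exact dvd_zero 2) hc2
    · exact h0
  rcases card_sylow_7 h with h1 | h1
  · rw [h1] at hs
    have hce : c * e = 18 := by omega
    have h3 : c = 3 ∧ e = 6 := by
      interval_cases e
      · simp at he1
      · omega
      · omega
      · have : c = 6 := by omega
        omega
      · omega
      · omega
      · exact ⟨by omega, rfl⟩
    rw [hc, hn, h3.1, h3.2]
    norm_num
  · rw [h1] at hs
    have hce : c * e = 4 := by omega
    exfalso
    interval_cases e
    · omega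
    · omega
    · omega
    · omega
    · have : c = 1 := by omega
      norm_num at he1
    · omega
    · omega

theorem mem_smul_iff {g x : G} {P : Sylow 3 G} :
    x ∈ ((g • P : Sylow 3 G) : Subgroup G) ↔ g⁻¹ * x * g ∈ (P : Subgroup G) := by
  rw [Sylow.coe_subgroup_smul]
  constructor
  · rintro ⟨z, hz, hz'⟩
    have h4 : g * z * g⁻¹ = x := hz'
    have h5 : g⁻¹ * x * g = z := by rw [← h4]; group
    rw [h5]; exact hz
  · intro hx
    refine ⟨g⁻¹ * x * g, hx, ?_⟩
    change g * (g⁻¹ * x * g) * g⁻¹ = x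
    group

/-- The elements of order 3 centralizing `z` lie in the group generated by any one of them. -/
theorem mem_zpowers_y (h : Nat.card G = 4536) {z y : G} (hz : orderOf z = 7)
    (hzy : y * z = z * y) (hy : orderOf y = 3) {w : G} (hw : orderOf w = 3)
    (hwz : w * z = z * w) : w ∈ zpowers y := by
  have hcomm : Commute y z := hzy
  have h21 : orderOf (y * z) = 21 := by
    rw [hcomm.orderOf_mul_eq_mul_orderOf_of_coprime (by rw [hy, hz]; norm_num), hy, hz]
  have h1 : zpowers (y * z) = centralizer ({z} : Set G) := by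
    apply Subgroup.eq_of_le_of_card_ge
    · rw [zpowers_le, mem_centralizer_singleton_iff]
      exact (Commute.mul_left hcomm (Commute.refl z)).eq
    · rw [(data_seven h hz).1, Nat.card_zpowers, h21]
  have h2 : w ∈ zpowers (y * z) := by
    rw [h1, mem_centralizer_singleton_iff]
    exact hwz
  obtain ⟨k, hk⟩ := mem_zpowers_iff.1 h2
  have hw3 : w ^ 3 = 1 := by rw [← hw]; exact pow_orderOf_eq_one w
  have h3 : (y * z) ^ (k * 3) = 1 := by
    rw [zpow_mul, hk]
    exact_mod_cast hw3
  rw [← orderOf_dvd_iff_zpow_eq_one, h21] at h3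
  have h4 : (7 : ℤ) ∣ k := by omega
  have h5 : z ^ k = 1 := by
    rw [← orderOf_dvd_iff_zpow_eq_one, hz]
    exact_mod_cast h4
  rw [hcomm.mul_zpow, h5, mul_one] at hk
  exact mem_zpowers_iff.2 ⟨k, hk⟩

theorem normalizer_le (h : Nat.card G = 4536) {z y : G} (hz : orderOf z = 7)
    (hzy : y * z = z * y) (hy : orderOf y = 3) :
    normalizer ((zpowers z : Subgroup G) : Set G) ≤
      normalizer ((zpowers y : Subgroup G) : Set G) := by
  intro n hn
  apply mem_normalizer_fintype
  intro w hw
  have hn' : n⁻¹ * z * n ∈ zpowers z := by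
    have := (mem_normalizer_iff''.1 hn z).1 (mem_zpowers z)
    exact this
  obtain ⟨k, hk⟩ := mem_zpowers_iff.1 hn'
  obtain ⟨j, rfl⟩ := mem_zpowers_iff.1 hw
  have h1 : n * y * n⁻¹ ∈ zpowers y := by
    apply mem_zpowers_y h hz hzy hy
    · rw [← hy]
      exact (MulAut.conj n).orderOf_eq y
    · have h2 : y * (n⁻¹ * z * n) = (n⁻¹ * z * n) * y := by
        rw [← hk]
        exact Commute.zpow_right (show Commute y z from hzy) k
      calc n * y * n⁻¹ * z = n * (y * (n⁻¹ * z * n)) * n⁻¹ := by group
        _ = n * ((n⁻¹ * z * n) * y) * n⁻¹ := by rw [h2]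
        _ = z * (n * y * n⁻¹) := by group
  have h3 : n * y ^ j * n⁻¹ = (n * y * n⁻¹) ^ j := by rw [conj_zpow]
  rw [h3]
  exact (zpowers y).zpow_mem h1 j

omit [Finite G] in
theorem normalizer_ne_top (h : Nat.card G = 4536) {H : Subgroup G} (h1 : H ≠ ⊥) (h2 : H ≠ ⊤) :
    normalizer (H : Set G) ≠ ⊤ := by
  intro hT
  have hN : H.Normal := Subgroup.normalizer_eq_top_iff.1 hT
  rcases hN.eq_bot_or_eq_top with h3 | h3
  · exact h1 h3
  · exact h2 h3

theorem normalizer_eq (h : Nat.card G = 4536) {z y : G} (hz : orderOf z = 7)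
    (hzy : y * z = z * y) (hy : orderOf y = 3) :
    normalizer ((zpowers z : Subgroup G) : Set G) =
      normalizer ((zpowers y : Subgroup G) : Set G) := by
  have f7 : Fact (Nat.Prime 7) := ⟨by norm_num⟩
  have hle := normalizer_le h hz hzy hy
  obtain ⟨P, hP⟩ := exists_sylow_eq (G := G) (p := 7) (m := 648) (by rw [h]) (by norm_num) z hz
  have hPN : (P : Subgroup G) ≤ normalizer ((zpowers y : Subgroup G) : Set G) := by
    rw [hP]
    exact le_normalizer.trans hle
  have h1 := RelSylow.relIndex_modEq_one P _ hPN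
  rw [hP] at h1
  have h2 : (normalizer ((zpowers z : Subgroup G) : Set G)).relIndex
      (normalizer ((zpowers y : Subgroup G) : Set G)) * 126 =
        Nat.card (normalizer ((zpowers y : Subgroup G) : Set G)) := by
    rw [← (data_seven h hz).2]
    have := RelSylow.relIndex_mul_card_inf (normalizer ((zpowers z : Subgroup G) : Set G))
      (normalizer ((zpowers y : Subgroup G) : Set G))
    rwa [inf_eq_right.2 hle] at this
  set j := (normalizer ((zpowers z : Subgroup G) : Set G)).relIndex
      (normalizer ((zpowers y : Subgroup G) : Set G)) with hj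
  have h3 : j ∣ 36 := by
    have h4 := Subgroup.card_subgroup_dvd_card (normalizer ((zpowers y : Subgroup G) : Set G))
    rw [← h2, h] at h4
    have h5 : (4536 : ℕ) = 36 * 126 := by norm_num
    rw [h5] at h4
    exact Nat.dvd_of_mul_dvd_mul_right (by norm_num) h4
  have key : ∀ n ∈ Nat.divisors 36, n % 7 = 1 → n = 1 ∨ n = 36 := by decide +kernel
  rcases key j (Nat.mem_divisors.2 ⟨h3, by norm_num⟩) h1 with h4 | h4
  · apply le_antisymm hle
    exact Subgroup.relIndex_eq_one.1 h4
  · exfalso
    rw [h4] at h2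
    have h5 : normalizer ((zpowers y : Subgroup G) : Set G) = ⊤ := by
      apply Subgroup.eq_top_of_card_eq
      rw [← h2, h]
    refine normalizer_ne_top h (H := zpowers y) ?_ ?_ h5
    · rw [Ne, zpowers_eq_bot]
      rintro rfl
      rw [orderOf_one] at hy
      omega
    · intro h6
      have h7 : Nat.card (zpowers y) = 4536 := by rw [h6, ← h]; exact Subgroup.card_top
      rw [Nat.card_zpowers, hy] at h7
      omega

theorem card_NK (h : Nat.card G = 4536) {z y : G} (hz : orderOf z = 7)
    (hzy : y * z = z * y) (hy : orderOf y = 3) :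
    Nat.card (normalizer ((zpowers y : Subgroup G) : Set G)) = 126 := by
  rw [← normalizer_eq h hz hzy hy]
  exact (data_seven h hz).2

theorem three_pow_dvd {A : Subgroup G} (hA : IsPGroup 3 A) {n k : ℕ} (hd : Nat.card A ∣ 3 ^ k * n)
    (hn : ¬ 3 ∣ n) : Nat.card A ∣ 3 ^ k := by
  have f3 : Fact (Nat.Prime 3) := ⟨by norm_num⟩
  obtain ⟨m, hm⟩ := (IsPGroup.iff_card).1 hA
  rw [hm] at hd ⊢
  refine Nat.Coprime.dvd_of_dvd_mul_right ?_ hd
  apply Nat.Coprime.pow_left
  exact (Nat.Prime.coprime_iff_not_dvd f3.out).2 hn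

/-- The main configuration. -/
theorem inf_cases (h : Nat.card G = 4536) {R R' : Sylow 3 G} (hR : R ≠ R') {y : G}
    (hy : orderOf y = 3) (h1 : y ∈ (R : Subgroup G)) (h2 : y ∈ (R' : Subgroup G)) :
    Nat.card ((R : Subgroup G) ⊓ (R' : Subgroup G) : Subgroup G) = 3 ∨
    Nat.card ((R : Subgroup G) ⊓ (R' : Subgroup G) : Subgroup G) = 9 ∨
    Nat.card ((R : Subgroup G) ⊓ (R' : Subgroup G) : Subgroup G) = 27 := by
  have h3 : Nat.card ((R : Subgroup G) ⊓ (R' : Subgroup G) : Subgroup G) ∣ 81 := by
    rw [← card_P h R]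
    exact Subgroup.card_dvd_of_le inf_le_left
  have h4 : 3 ∣ Nat.card ((R : Subgroup G) ⊓ (R' : Subgroup G) : Subgroup G) := by
    have h5 := Subgroup.orderOf_dvd_natCard _ (mem_inf.2 ⟨h1, h2⟩)
    rwa [hy] at h5
  have h5 : Nat.card ((R : Subgroup G) ⊓ (R' : Subgroup G) : Subgroup G) ≠ 81 := by
    intro h6
    have h7 : (R : Subgroup G) ⊓ (R' : Subgroup G) = R := by
      apply Subgroup.eq_of_le_of_card_ge inf_le_left
      rw [h6]
      exact (card_P h R).le
    have h8 : (R : Subgroup G) ≤ R' := inf_eq_left.1 h7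
    exact hR (Sylow.ext (R.3 R'.2 h8).symm)
  have key : ∀ n ∈ Nat.divisors 81, 3 ∣ n → n ≠ 81 → n = 3 ∨ n = 9 ∨ n = 27 := by
    decide +kernel
  exact key _ (Nat.mem_divisors.2 ⟨h3, by norm_num⟩) h4 h5

theorem case27 (h : Nat.card G = 4536) {R R' : Sylow 3 G} (hR : R ≠ R') {z y : G}
    (hz : orderOf z = 7) (hzy : y * z = z * y)
    (hy : orderOf y = 3) (h1 : y ∈ (R : Subgroup G)) (h2 : y ∈ (R' : Subgroup G))
    (hD : Nat.card ((R : Subgroup G) ⊓ (R' : Subgroup G) : Subgroup G) = 27) : False := by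
  have f3 : Fact (Nat.Prime 3) := ⟨by norm_num⟩
  have f7 : Fact (Nat.Prime 7) := ⟨by norm_num⟩
  set D := (R : Subgroup G) ⊓ (R' : Subgroup G) with hDdef
  have hgen : ∀ Q : Sylow 3 G, D ≤ (Q : Subgroup G) → (Q : Subgroup G) ≤ normalizer (D : Set G) := by
    intro Q hQ
    have hlt : D < (Q : Subgroup G) := by
      refine lt_of_le_of_ne hQ ?_
      intro he
      have : Nat.card D = 81 := by rw [he]; exact card_P h Q
      omega
    have h3 := SylowMaxInter.lt_inf_normalizer Q.isPGroup' hlt
    have h4 : Nat.card D < Nat.card ((Q : Subgroup G) ⊓ normalizer (D : Set G) : Subgroup G) := by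
      refine lt_of_le_of_ne (Subgroup.card_le_of_le h3.le) ?_
      intro heq
      exact h3.ne (Subgroup.eq_of_le_of_card_ge h3.le heq.ge)
    have h5 : Nat.card ((Q : Subgroup G) ⊓ normalizer (D : Set G) : Subgroup G) ∣ 81 := by
      rw [← card_P h Q]
      exact Subgroup.card_dvd_of_le inf_le_left
    rw [hD] at h4
    have key : ∀ n ∈ Nat.divisors 81, 27 < n → n = 81 := by decide +kernel
    have h6 := key _ (Nat.mem_divisors.2 ⟨h5, by norm_num⟩) h4
    have h7 : (Q : Subgroup G) ⊓ normalizer (D : Set G) = Q := by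
      apply Subgroup.eq_of_le_of_card_ge inf_le_left
      rw [h6]
      exact (card_P h Q).le
    exact inf_eq_left.1 h7
  have hRM := hgen R inf_le_left
  have hRM' := hgen R' inf_le_right
  set M := normalizer (D : Set G) with hM
  have hMtop : M ≠ ⊤ := by
    apply normalizer_ne_top h
    · intro h3
      rw [h3, Subgroup.card_bot] at hD
      omega
    · intro h3
      rw [h3, Subgroup.card_top, h] at hD
      omega
  have hidx := Embed.two_mul_card_dvd_factorial_index (not_comm h) M hMtop
  rw [h] at hidx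
  have hcm := Subgroup.card_mul_index M
  rw [h] at hcm
  have h81 : 81 ∣ Nat.card M := by
    rw [← card_P h R]
    exact Subgroup.card_dvd_of_le hRM
  obtain ⟨k, hk⟩ := h81
  have hk56 : k * M.index = 56 := by
    rw [hk, mul_assoc] at hcm
    omega
  -- the number of Sylow 3-subgroups of M
  have hmod := RelSylow.relIndex_modEq_one R M hRM
  have hrel := RelSylow.relIndex_mul_card_inf (normalizer ((R : Subgroup G) : Set G)) M
  set n := (normalizer ((R : Subgroup G) : Set G)).relIndex M with hn
  have hn1 : n ≠ 1 := by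
    intro h3
    have h4 : M ≤ normalizer ((R : Subgroup G) : Set G) := Subgroup.relIndex_eq_one.1 h3
    have h5 : (R' : Subgroup G) ⊓ normalizer (R : Set G) = R' := by
      apply inf_eq_left.2
      exact hRM'.trans h4
    rw [R'.isPGroup'.inf_normalizer_sylow R] at h5
    have h6 : (R' : Subgroup G) ≤ R := inf_eq_left.1 h5
    exact hR (Sylow.ext (R'.3 R.2 h6))
  have hnk : n ∣ k := by
    have h3 : 81 ∣ Nat.card (M ⊓ normalizer ((R : Subgroup G) : Set G) : Subgroup G) := by
      rw [← card_P h R]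
      exact Subgroup.card_dvd_of_le (le_inf hRM le_normalizer)
    obtain ⟨l, hl⟩ := h3
    rw [hl, hk] at hrel
    refine ⟨l, ?_⟩
    have : 81 * (n * l) = 81 * k := by rw [← hrel]; ring
    omega
  have key : ∀ k ∈ Nat.divisors 56, ∀ n ∈ Nat.divisors k, n % 3 = 1 → n ≠ 1 →
      2 * 4536 ∣ (56 / k).factorial → k = 4 := by
    decide +kernel
  have hkd : k ∣ 56 := ⟨M.index, hk56.symm⟩
  have hk0 : k ≠ 0 := by
    rintro rfl
    omega
  have hk4 : k = 4 := by
    refine key k (Nat.mem_divisors.2 ⟨hkd, by norm_num⟩) n (Nat.mem_divisors.2 ⟨hnk, hk0⟩)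
      hmod hn1 ?_
    rw [← hk56, Nat.mul_div_cancel_left _ (Nat.pos_of_ne_zero hk0)]
    exact hidx
  subst hk4
  have hM14 : M.index = 14 := by omega
  have hX : Nat.card (G ⧸ M) = 14 := hM14
  have hzfree : ∀ x : G ⧸ M, z • x ≠ x := by
    intro x
    induction x using QuotientGroup.induction_on with
    | H g =>
      intro hx
      have h3 : g⁻¹ * z * g ∈ M := by
        have h4 : ((z * g : G) : G ⧸ M) = (g : G ⧸ M) := hx
        rw [QuotientGroup.eq] at h4
        have h5 : g⁻¹ * z * g = ((z * g)⁻¹ * g)⁻¹ := by group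
        rw [h5]
        exact M.inv_mem h4
      have h6 := Subgroup.orderOf_dvd_natCard _ h3
      have h7 : orderOf (g⁻¹ * z * g) = 7 := by
        rw [← hz]
        have := (MulAut.conj g⁻¹).orderOf_eq z
        simpa using this
      rw [h7, hk] at h6
      norm_num at h6
  have h7f : 7 ∣ Nat.card (fixedBy (G ⧸ M) y) := dvd_card_fixedBy hz hzy hzfree
  have h3f : Nat.card (G ⧸ M) % 3 = Nat.card (fixedBy (G ⧸ M) y) % 3 := card_fix_three h hy
  have hle : Nat.card (fixedBy (G ⧸ M) y) ≤ 14 := by
    rw [← hX]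
    exact Nat.card_le_card_of_injective (Subtype.val) Subtype.val_injective
  rw [hX] at h3f
  have hf14 : Nat.card (fixedBy (G ⧸ M) y) = 14 := by omega
  have hall : fixedBy (G ⧸ M) y = Set.univ := by
    apply Set.eq_of_subset_of_ncard_le (Set.subset_univ _)
    rw [Set.ncard_univ, hX, ← Nat.card_coe_set_eq, hf14]
  have hcore : y ∈ M.normalCore := by
    intro g
    have h3 : ((g⁻¹ : G) : G ⧸ M) ∈ fixedBy (G ⧸ M) y := by rw [hall]; trivial
    have h4 : ((y * g⁻¹ : G) : G ⧸ M) = ((g⁻¹ : G) : G ⧸ M) := h3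
    rw [QuotientGroup.eq] at h4
    have h5 : g * y * g⁻¹ = ((y * g⁻¹)⁻¹ * g⁻¹)⁻¹ := by group
    rw [h5]
    exact M.inv_mem h4
  have hbot : M.normalCore = ⊥ := by
    rcases (inferInstance : M.normalCore.Normal).eq_bot_or_eq_top with h3 | h3
    · exact h3
    · exfalso
      exact hMtop (top_le_iff.1 (h3 ▸ M.normalCore_le))
  rw [hbot, mem_bot] at hcore
  rw [hcore, orderOf_one] at hy
  omega

theorem case9 (h : Nat.card G = 4536) {R : Sylow 3 G} {z y : G}
    (hz : orderOf z = 7) (hzy : y * z = z * y)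
    (hy : orderOf y = 3) (h1 : y ∈ (R : Subgroup G)) (h2 : y ∈ ((z • R : Sylow 3 G) : Subgroup G))
    (hD : Nat.card ((R : Subgroup G) ⊓ ((z • R : Sylow 3 G) : Subgroup G) : Subgroup G) = 9) :
    False := by
  have f3 : Fact (Nat.Prime 3) := ⟨by norm_num⟩
  set D := (R : Subgroup G) ⊓ ((z • R : Sylow 3 G) : Subgroup G) with hDdef
  have hcomm : IsMulCommutative D :=
    IsPGroup.isMulCommutative_of_card_eq_prime_sq (p := 3) (by rw [hD]; norm_num)
  have hyD : y ∈ D := mem_inf.2 ⟨h1, h2⟩
  have hDN : D ≤ normalizer ((zpowers y : Subgroup G) : Set G) := by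
    intro d hd
    apply mem_normalizer_fintype
    intro w hw
    obtain ⟨j, rfl⟩ := mem_zpowers_iff.1 hw
    have h3 : d * y = y * d := by
      have := hcomm.is_comm.comm (⟨d, hd⟩ : D) ⟨y, hyD⟩
      exact congrArg Subtype.val this
    have h4 : d * y ^ j * d⁻¹ = y ^ j := by
      rw [(Commute.zpow_right (show Commute d y from h3) j).eq]
      group
    rw [h4]
    exact hw
  have heq : ∀ Q : Sylow 3 G, D ≤ (Q : Subgroup G) →
      (Q : Subgroup G) ⊓ normalizer ((zpowers y : Subgroup G) : Set G) = D := by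
    intro Q hQ
    symm
    apply Subgroup.eq_of_le_of_card_ge (le_inf hQ hDN)
    rw [hD]
    have h3 : Nat.card ((Q : Subgroup G) ⊓ normalizer ((zpowers y : Subgroup G) : Set G) :
        Subgroup G) ∣ 3 ^ 2 * 14 := by
      have : (3 ^ 2 * 14 : ℕ) = Nat.card (normalizer ((zpowers y : Subgroup G) : Set G)) := by
        rw [card_NK h hz hzy hy]; norm_num
      rw [this]
      exact Subgroup.card_dvd_of_le inf_le_right
    have h4 := three_pow_dvd (Q.isPGroup'.to_le (inf_le_left :
      (Q : Subgroup G) ⊓ normalizer ((zpowers y : Subgroup G) : Set G) ≤ Q)) h3 (by norm_num)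
    exact Nat.le_of_dvd (by norm_num) h4
  have hzN : z ∈ normalizer ((zpowers y : Subgroup G) : Set G) := by
    rw [← normalizer_eq h hz hzy hy]
    exact le_normalizer (mem_zpowers z)
  have hR := heq R inf_le_left
  have hR' := heq (z • R) inf_le_right
  have hzD : ∀ d ∈ D, z * d * z⁻¹ ∈ D := by
    intro d hd
    rw [← hR']
    refine mem_inf.2 ⟨?_, ?_⟩
    · rw [mem_smul_iff]
      have : z⁻¹ * (z * d * z⁻¹) * z = d := by group
      rw [this]
      exact (mem_inf.1 hd).1
    · exact mul_mem (mul_mem hzN (hDN hd)) (inv_mem hzN)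
  have hcent : D ≤ centralizer ({z} : Set G) := by
    intro d hd
    rw [mem_centralizer_singleton_iff]
    have h3 : z * d * z⁻¹ * d⁻¹ ∈ D := D.mul_mem (hzD d hd) (D.inv_mem hd)
    have h4 : z * d * z⁻¹ * d⁻¹ ∈ zpowers z := by
      have h5 : d ∈ normalizer ((zpowers z : Subgroup G) : Set G) := by
        rw [normalizer_eq h hz hzy hy]
        exact hDN hd
      have h6 : d * z⁻¹ * d⁻¹ ∈ zpowers z :=
        (mem_normalizer_iff.1 h5 z⁻¹).1 ((zpowers z).inv_mem (mem_zpowers z))
      have h7 : z * d * z⁻¹ * d⁻¹ = z * (d * z⁻¹ * d⁻¹) := by group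
      rw [h7]
      exact (zpowers z).mul_mem (mem_zpowers z) h6
    have h5 : z * d * z⁻¹ * d⁻¹ = 1 := by
      have h6 := Subgroup.orderOf_dvd_natCard _ h3
      have h7 := Subgroup.orderOf_dvd_natCard _ h4
      rw [hD] at h6
      rw [Nat.card_zpowers, hz] at h7
      have h8 := Nat.dvd_gcd h6 h7
      norm_num at h8
      exact h8
    have h6 : z * d * z⁻¹ = d := by
      rw [mul_inv_eq_one] at h5
      exact h5
    calc d * z = (z * d * z⁻¹) * z := by rw [h6]
      _ = z * d := by group
  have h3 := Subgroup.card_dvd_of_le hcent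
  rw [hD, (data_seven h hz).1] at h3
  norm_num at h3

theorem case3 (h : Nat.card G = 4536) {R R' : Sylow 3 G} (hR : R ≠ R') {z y : G}
    (hz : orderOf z = 7) (hzy : y * z = z * y)
    (hy : orderOf y = 3) (h1 : y ∈ (R : Subgroup G)) (h2 : y ∈ (R' : Subgroup G))
    (hD : Nat.card ((R : Subgroup G) ⊓ (R' : Subgroup G) : Subgroup G) = 3) : False := by
  classical
  have f3 : Fact (Nat.Prime 3) := ⟨by norm_num⟩
  have hDK : (R : Subgroup G) ⊓ (R' : Subgroup G) = zpowers y := by
    symm
    apply Subgroup.eq_of_le_of_card_ge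
    · rw [zpowers_le]
      exact mem_inf.2 ⟨h1, h2⟩
    · rw [hD, Nat.card_zpowers, hy]
  -- the orbit of `R'` under `R`
  have horb : Nat.card (orbit (R : Subgroup G) R') = 27 := by
    rw [SylowInter.card_orbit_sylow]
    have h3 := Subgroup.card_mul_index ((R' : Subgroup G).subgroupOf (R : Subgroup G))
    have h4 : Nat.card ((R' : Subgroup G).subgroupOf (R : Subgroup G)) =
        Nat.card ((R : Subgroup G) ⊓ (R' : Subgroup G) : Subgroup G) := by
      rw [← Subgroup.inf_subgroupOf_left]
      exact Nat.card_congr (Subgroup.subgroupOfEquivOfLe inf_le_left).toEquiv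
    have h5 := card_P h R
    have h5' : Nat.card (R : Subgroup G) = 81 := h5
    rw [h4, hD, h5'] at h3
    omega
  have hRfix : ∀ r : (R : Subgroup G), r • R = R := by
    intro r
    have h3 : r • R = (r : G) • R := rfl
    rw [h3, Sylow.smul_eq_iff_mem_normalizer]
    exact le_normalizer r.2
  have hRnot : R ∉ orbit (R : Subgroup G) R' := by
    rintro ⟨r, hr⟩
    have hr' : r • R' = R := hr
    apply hR
    have h3 : r⁻¹ • (r • R') = R' := inv_smul_smul r R'
    rw [hr', hRfix] at h3
    exact h3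
  have hcover : ∀ Q : Sylow 3 G, Q ≠ R → Q ∈ orbit (R : Subgroup G) R' := by
    have h3 : insert R (orbit (R : Subgroup G) R') = Set.univ := by
      apply Set.eq_of_subset_of_ncard_le (Set.subset_univ _)
      rw [Set.ncard_univ, card_sylow_3 h, Set.ncard_insert_of_notMem hRnot,
        ← Nat.card_coe_set_eq, horb]
    intro Q hQ
    have h4 : Q ∈ insert R (orbit (R : Subgroup G) R') := by rw [h3]; trivial
    rcases h4 with h5 | h5
    · exact absurd h5 hQ
    · exact h5
  set A := (R : Subgroup G) ⊓ normalizer ((zpowers y : Subgroup G) : Set G) with hA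
  have hyQ : ∀ Q : Sylow 3 G, y • Q = Q ↔ y ∈ (Q : Subgroup G) := by
    intro Q
    rw [Sylow.smul_eq_iff_mem_normalizer]
    constructor
    · intro h3
      have hp : IsPGroup 3 (zpowers y) := by
        apply IsPGroup.of_card (n := 1)
        rw [Nat.card_zpowers, hy, pow_one]
      have h4 : y ∈ zpowers y ⊓ normalizer (Q : Set G) := mem_inf.2 ⟨mem_zpowers y, h3⟩
      rw [hp.inf_normalizer_sylow Q] at h4
      exact (mem_inf.1 h4).2
    · intro h3
      exact le_normalizer h3
  have hset : fixedBy (Sylow 3 G) y = insert R (orbit A R') := by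
    ext Q
    rw [Set.mem_insert_iff, mem_fixedBy, hyQ]
    constructor
    · intro hyQ'
      by_cases hQ : Q = R
      · exact Or.inl hQ
      · right
        obtain ⟨r, hr⟩ := hcover Q hQ
        have hr' : (r : G) • R' = Q := hr
        -- r normalizes K
        have hrK : (r : G)⁻¹ * y * r ∈ zpowers y := by
          rw [← hDK]
          refine mem_inf.2 ⟨?_, ?_⟩
          · exact mul_mem (mul_mem (inv_mem r.2) h1) r.2
          · rw [← hr'] at hyQ'
            exact mem_smul_iff.1 hyQ'
        have hrN : (r : G)⁻¹ ∈ normalizer ((zpowers y : Subgroup G) : Set G) := by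
          apply mem_normalizer_fintype
          intro w hw
          obtain ⟨j, rfl⟩ := mem_zpowers_iff.1 hw
          have h3 : (r : G)⁻¹ * y ^ j * ((r : G)⁻¹)⁻¹ = ((r : G)⁻¹ * y * ((r : G)⁻¹)⁻¹) ^ j := by
            rw [conj_zpow]
          rw [h3, inv_inv]
          exact (zpowers y).zpow_mem hrK j
        refine ⟨⟨r, mem_inf.2 ⟨r.2, ?_⟩⟩, hr'⟩
        have := inv_mem hrN
        rwa [inv_inv] at this
    · rintro (rfl | ⟨a, ha⟩)
      · exact h1
      · have ha' : (a : G) • R' = Q := ha
        rw [← ha', mem_smul_iff]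
        have h3 : (a : G)⁻¹ * y * a ∈ zpowers y :=
          (mem_normalizer_iff''.1 (mem_inf.1 a.2).2 y).1 (mem_zpowers y)
        have h4 : zpowers y ≤ R' := by rw [← hDK]; exact inf_le_right
        exact h4 h3
  have hnot : R ∉ orbit A R' := by
    rintro ⟨a, ha⟩
    apply hRnot
    exact ⟨⟨a, (mem_inf.1 a.2).1⟩, ha⟩
  have hcard : Nat.card (orbit A R') = 6 := by
    have h3 := fix_three h hz hzy hy
    rw [Nat.card_coe_set_eq, hset, Set.ncard_insert_of_notMem hnot] at h3
    rw [Nat.card_coe_set_eq]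
    omega
  have hdvd : 6 ∣ Nat.card A := by
    rw [← hcard]
    have h3 := Nat.card_congr (MulAction.orbitProdStabilizerEquivGroup A R')
    rw [Nat.card_prod] at h3
    exact ⟨_, h3.symm⟩
  have h81 : Nat.card A ∣ 81 := by
    rw [← card_P h R]
    exact Subgroup.card_dvd_of_le inf_le_left
  have h3 := hdvd.trans h81
  norm_num at h3

theorem not_simple_4536 {G : Type*} [Group G] [Finite G] [IsSimpleGroup G]
    (h : Nat.card G = 4536) : False := by
  have f3 : Fact (Nat.Prime 3) := ⟨by norm_num⟩
  have f7 : Fact (Nat.Prime 7) := ⟨by norm_num⟩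
  obtain ⟨z, hz⟩ := exists_prime_orderOf_dvd_card' (G := G) 7 (by rw [h]; norm_num)
  obtain ⟨y', hy'⟩ := exists_prime_orderOf_dvd_card' (G := centralizer ({z} : Set G)) 3
    (by rw [(data_seven h hz).1]; norm_num)
  obtain ⟨y, hy, hzy⟩ : ∃ y : G, orderOf y = 3 ∧ y * z = z * y :=
    ⟨y', by rw [Subgroup.orderOf_coe, hy'], mem_centralizer_singleton_iff.1 y'.2⟩
  have hp : IsPGroup 3 (zpowers y) := by
    apply IsPGroup.of_card (n := 1)
    rw [Nat.card_zpowers, hy, pow_one]
  obtain ⟨R, hR⟩ := hp.exists_le_sylow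
  have h1 : y ∈ (R : Subgroup G) := hR (mem_zpowers y)
  have hne : R ≠ z • R := fun h => seven_free ‹_› hz R h.symm
  have h2 : y ∈ ((z • R : Sylow 3 G) : Subgroup G) := by
    rw [mem_smul_iff]
    have : z⁻¹ * y * z = y := by
      rw [mul_assoc, hzy, inv_mul_cancel_left]
    rw [this]
    exact h1
  rcases inf_cases h hne hy h1 h2 with h3 | h3 | h3
  · exact case3 h hne hz hzy hy h1 h2 h3
  · exact case9 h hz hzy hy h1 h2 h3
  · exact case27 h hne hz hzy hy h1 h2 h3

end Cfsg.Agent.SmallSimple.Order4536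
end

-- part: SmallSimple/SylowNine
section
set_option autoImplicit false

/-! Simple groups with Sylow 3-subgroups of order 9: some element of the normalizer inverts. -/

namespace Cfsg.Agent.SmallSimple.SylowNine

open Subgroup

/-- In a group of order 3, everything is `1`, `x` or `x⁻¹`. -/
theorem eq_of_card_three {S : Type*} [Group S] [Finite S] (L : Subgroup S) (hL : Nat.card L = 3)
    {x y : S} (hx : x ∈ L) (hx1 : x ≠ 1) (hy : y ∈ L) : y = 1 ∨ y = x ∨ y = x⁻¹ := by
  have hx3 : orderOf x = 3 := by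
    have h1 := orderOf_dvd_natCard (⟨x, hx⟩ : L)
    rw [hL, Subgroup.orderOf_mk] at h1
    rcases (Nat.dvd_prime Nat.prime_three).1 h1 with h2 | h2
    · exact absurd (orderOf_eq_one_iff.1 h2) hx1
    · exact h2
  have hz : zpowers x = L := by
    apply Subgroup.eq_of_le_of_card_ge ((zpowers_le).2 hx)
    rw [hL, Nat.card_zpowers, hx3]
  rw [← hz, mem_zpowers_iff] at hy
  obtain ⟨j, rfl⟩ := hy
  rw [← zpow_mod_orderOf, hx3]
  have h1 : 0 ≤ j % 3 := Int.emod_nonneg _ (by norm_num)
  have h2 : j % 3 < 3 := Int.emod_lt_of_pos _ (by norm_num)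
  have h3 : ((3 : ℕ) : ℤ) = 3 := rfl
  rw [h3]
  interval_cases hj : j % 3
  · left; simp
  · right; left; simp
  · right; right
    rw [eq_inv_iff_mul_eq_one]
    have h5 : x ^ (2 : ℤ) = x ^ 2 := zpow_ofNat x 2
    rw [h5, ← pow_succ, show 2 + 1 = orderOf x by rw [hx3], pow_orderOf_eq_one]

/-- A `2`-group of automorphisms of an abelian group of order 9 without common fixed points
contains the inversion. -/
theorem exists_inversion {S : Type*} [Group S] [Finite S] (hS : Nat.card S = 9)
    (hcomm : ∀ x y : S, x * y = y * x) (A : Subgroup (MulAut S)) (hA : IsPGroup 2 A)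
    (hfix : ∀ x : S, (∀ a ∈ A, a x = x) → x = 1) : ∃ a ∈ A, ∀ x : S, a x = x⁻¹ := by
  -- the group `A` is nontrivial
  have hAnt : Nontrivial A := by
    rw [Subgroup.nontrivial_iff_ne_bot]
    rintro rfl
    have h1 : Nontrivial S := by
      rw [← Finite.one_lt_card_iff_nontrivial, hS]
      norm_num
    obtain ⟨x, hx⟩ := exists_ne (1 : S)
    apply hx
    apply hfix
    intro a ha
    rw [mem_bot.1 ha]
    rfl
  have hcnt : Nontrivial (center A) := hA.center_nontrivial
  -- a central involution
  obtain ⟨z, hzA, hz2, hz1, hzc⟩ : ∃ z ∈ A, z * z = 1 ∧ z ≠ 1 ∧ ∀ a ∈ A, a * z = z * a := by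
    have h1 : 2 ∣ Nat.card (center A) := by
      obtain ⟨n, hn0, hn⟩ := (hA.to_subgroup (center A)).nontrivial_iff_card.1 hcnt
      rw [hn]
      exact dvd_pow_self 2 hn0.ne'
    obtain ⟨z, hz⟩ := exists_prime_orderOf_dvd_card' 2 h1
    refine ⟨z.1.1, z.1.2, ?_, ?_, ?_⟩
    · have h2 : z ^ 2 = 1 := by rw [← hz, pow_orderOf_eq_one]
      rw [pow_two] at h2
      exact congrArg (fun w : center A => ((w : A) : MulAut S)) h2
    · intro h2
      have h3 : z = 1 := Subtype.ext (Subtype.ext h2)
      rw [h3] at hz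
      simp at hz
    · intro a ha
      exact congrArg Subtype.val ((mem_center_iff.1 z.2) ⟨a, ha⟩)
  have hzz : ∀ x : S, z (z x) = x := by
    intro x
    have h1 : (z * z) x = x := by rw [hz2]; rfl
    exact h1
  have hsq : ∀ x : S, x * x = 1 → x = 1 := by
    intro x hx
    have h1 : orderOf x ∣ 2 := orderOf_dvd_of_pow_eq_one (by rw [pow_two, hx])
    have h2 : orderOf x ∣ 9 := hS ▸ orderOf_dvd_natCard x
    have h3 : orderOf x ∣ 1 := by
      have := Nat.dvd_gcd h1 h2
      simpa using this
    exact orderOf_eq_one_iff.1 (Nat.dvd_one.1 h3)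
  have hpow9 : ∀ x : S, x ^ 9 = 1 := by
    intro x
    rw [← hS]
    exact pow_card_eq_one'
  -- the two eigenspaces
  let Sp : Subgroup S :=
    { carrier := {x | z x = x}
      one_mem' := map_one z
      mul_mem' := by
        intro a b ha hb
        show z (a * b) = a * b
        rw [map_mul, show z a = a from ha, show z b = b from hb]
      inv_mem' := by
        intro a ha
        show z a⁻¹ = a⁻¹
        rw [map_inv, show z a = a from ha] }
  let Sm : Subgroup S :=
    { carrier := {x | z x = x⁻¹}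
      one_mem' := by
        show z 1 = 1⁻¹
        rw [map_one, inv_one]
      mul_mem' := by
        intro a b ha hb
        show z (a * b) = (a * b)⁻¹
        rw [map_mul, show z a = a⁻¹ from ha, show z b = b⁻¹ from hb, mul_inv_rev, hcomm]
      inv_mem' := by
        intro a ha
        show z a⁻¹ = a⁻¹⁻¹
        rw [map_inv, show z a = a⁻¹ from ha] }
  have hSp : ∀ x, x ∈ Sp ↔ z x = x := fun x => Iff.rfl
  have hSm : ∀ x, x ∈ Sm ↔ z x = x⁻¹ := fun x => Iff.rfl
  have hdec : ∀ x : S, ∃ p ∈ Sp, ∃ m ∈ Sm, x = p * m := by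
    intro x
    refine ⟨(x * z x) ^ 5, Sp.pow_mem ?_ 5, (x * (z x)⁻¹) ^ 5, Sm.pow_mem ?_ 5, ?_⟩
    · rw [hSp, map_mul, hzz, hcomm]
    · rw [hSm, map_mul, map_inv, hzz, mul_inv_rev, inv_inv]
    · have hc1 : Commute (x * z x) (x * (z x)⁻¹) := hcomm _ _
      rw [← hc1.mul_pow]
      have e1 : x * z x * (x * (z x)⁻¹) = x ^ 2 := by
        rw [hcomm x (z x), mul_assoc, ← mul_assoc x x, hcomm (x * x) (z x)⁻¹, ← mul_assoc,
          mul_inv_cancel, one_mul, pow_two]
      rw [e1, ← pow_mul, show 2 * 5 = 9 + 1 by norm_num, pow_add, hpow9, one_mul, pow_one]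
  have hcardcases : ∀ L : Subgroup S, L = ⊥ ∨ Nat.card L = 3 ∨ L = ⊤ := by
    intro L
    have h1 : Nat.card L ∣ 3 ^ 2 := by
      have := Subgroup.card_subgroup_dvd_card L
      rw [hS] at this
      exact this
    obtain ⟨j, hj, hj'⟩ := (Nat.dvd_prime_pow Nat.prime_three).1 h1
    interval_cases j
    · left
      exact Subgroup.card_eq_one.1 hj'
    · right; left
      exact hj'
    · right; right
      apply Subgroup.eq_top_of_card_eq
      rw [hj', hS]
      norm_num
  by_cases hSp0 : Sp = ⊥
  · -- `z` is the inversion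
    refine ⟨z, hzA, fun x => ?_⟩
    have h1 : x * z x ∈ Sp := by
      rw [hSp, map_mul, hzz, hcomm]
    rw [hSp0, mem_bot] at h1
    exact eq_inv_of_mul_eq_one_right h1
  have hSptop : Sp ≠ ⊤ := by
    intro h1
    apply hz1
    ext x
    have h2 : x ∈ Sp := by rw [h1]; exact mem_top x
    exact (hSp x).1 h2
  have hSp3 : Nat.card Sp = 3 := by
    rcases hcardcases Sp with h1 | h1 | h1
    · exact absurd h1 hSp0
    · exact h1
    · exact absurd h1 hSptop
  have hSmbot : Sm ≠ ⊥ := by
    intro h1
    apply hSptop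
    rw [eq_top_iff]
    intro x _
    obtain ⟨p, hp, m, hm, rfl⟩ := hdec x
    rw [h1, mem_bot] at hm
    rw [hm, mul_one]
    exact hp
  have hSmtop : Sm ≠ ⊤ := by
    intro h1
    apply hSp0
    rw [eq_bot_iff]
    intro x hx
    have h2 : x ∈ Sm := by rw [h1]; exact mem_top x
    rw [hSp] at hx
    rw [hSm, hx] at h2
    rw [mem_bot]
    exact hsq x (by nth_rewrite 1 [h2]; exact inv_mul_cancel x)
  have hSm3 : Nat.card Sm = 3 := by
    rcases hcardcases Sm with h1 | h1 | h1
    · exact absurd h1 hSmbot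
    · exact h1
    · exact absurd h1 hSmtop
  obtain ⟨⟨x, hx⟩, hx0⟩ := (Subgroup.ne_bot_iff_exists_ne_one (H := Sp)).1 hSp0
  have hx1 : x ≠ 1 := fun h => hx0 (Subtype.ext h)
  obtain ⟨⟨y, hy⟩, hy0⟩ := (Subgroup.ne_bot_iff_exists_ne_one (H := Sm)).1 hSmbot
  have hy1 : y ≠ 1 := fun h => hy0 (Subtype.ext h)
  -- an element moving `x`
  obtain ⟨a, haA, hax⟩ : ∃ a ∈ A, a x ≠ x := by
    by_contra hcon
    push Not at hcon
    exact hx1 (hfix x hcon)
  have haz : ∀ w : S, a (z w) = z (a w) := by
    intro w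
    have h1 : (a * z) w = (z * a) w := by rw [hzc a haA]
    exact h1
  have hax' : a x = x⁻¹ := by
    have h1 : a x ∈ Sp := by
      rw [hSp, ← haz, (hSp x).1 hx]
    rcases eq_of_card_three Sp hSp3 hx hx1 h1 with h2 | h2 | h2
    · exact absurd ((map_eq_one_iff a a.injective).1 h2) hx1
    · exact absurd h2 hax
    · exact h2
  have hay : a y = y ∨ a y = y⁻¹ := by
    have h1 : a y ∈ Sm := by
      rw [hSm, ← haz, (hSm y).1 hy, map_inv]
    rcases eq_of_card_three Sm hSm3 hy hy1 h1 with h2 | h2 | h2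
    · exact absurd ((map_eq_one_iff a a.injective).1 h2) hy1
    · left; exact h2
    · right; exact h2
  -- an automorphism inverting `x` and `y` inverts everything
  have hfinal : ∀ b : MulAut S, b x = x⁻¹ → b y = y⁻¹ → ∀ w, b w = w⁻¹ := by
    intro b hbx hby w
    obtain ⟨p, hp, m, hm, rfl⟩ := hdec w
    have h1 : b p = p⁻¹ := by
      rcases eq_of_card_three Sp hSp3 hx hx1 hp with h2 | h2 | h2 <;> rw [h2]
      · simp
      · exact hbx
      · rw [map_inv, hbx]
    have h2 : b m = m⁻¹ := by
      rcases eq_of_card_three Sm hSm3 hy hy1 hm with h2 | h2 | h2 <;> rw [h2]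
      · simp
      · exact hby
      · rw [map_inv, hby]
    rw [map_mul, h1, h2, mul_inv_rev, hcomm]
  rcases hay with hay | hay
  · refine ⟨a * z, A.mul_mem haA hzA, hfinal _ ?_ ?_⟩
    · show a (z x) = x⁻¹
      rw [(hSp x).1 hx, hax']
    · show a (z y) = y⁻¹
      rw [(hSm y).1 hy, map_inv, hay]
  · exact ⟨a, haA, hfinal a hax' hay⟩

/-- In a nonabelian simple group with Sylow `3`-subgroup `S` of order 9, some element normalizing
`S` inverts `S`. -/
theorem exists_inverting {G : Type*} [Group G] [Finite G] [IsSimpleGroup G]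
    (hG : ¬ IsMulCommutative G) (S : Sylow 3 G) (hS : Nat.card (S : Subgroup G) = 9) :
    ∃ n ∈ normalizer ((S : Subgroup G) : Set G), ∀ s ∈ (S : Subgroup G), n * s * n⁻¹ = s⁻¹ := by
  have hS2 : Nat.card (S : Subgroup G) = 3 ^ 2 := hS
  have hcommS : IsMulCommutative (S : Subgroup G) :=
    IsPGroup.isMulCommutative_of_card_eq_prime_sq hS2
  have hcomm : ∀ x ∈ (S : Subgroup G), ∀ y ∈ (S : Subgroup G), x * y = y * x :=
    fun x hx y hy => congrArg Subtype.val (hcommS.is_comm.comm (⟨x, hx⟩ : (S : Subgroup G)) ⟨y, hy⟩)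
  let A : Subgroup (MulAut (S : Subgroup G)) := (S : Subgroup G).normalizerMonoidHom.range
  have hAcard : Nat.card A =
      (centralizer ((S : Subgroup G) : Set G)).relIndex (normalizer ((S : Subgroup G) : Set G)) := by
    rw [← Subgroup.index_ker, normalizerMonoidHom_ker]
    rfl
  have hA : IsPGroup 2 A := by
    have h1 : Nat.card A ∣ 48 := by
      have h2 : Nat.card A ∣ Nat.card (MulAut (S : Subgroup G)) :=
        Subgroup.card_subgroup_dvd_card A
      have h3 := BurnsideNC.card_mulAut_dvd_of_card_eq_sq (p := 3) hS2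
      have h4 := h2.trans h3
      norm_num at h4
      exact h4
    have h2 : ¬ 3 ∣ Nat.card A := by
      rw [hAcard]
      have h3 := BurnsideNC.coprime_relIndex S hcommS
      exact (Nat.Prime.coprime_iff_not_dvd Nat.prime_three).1 h3
    have h3 : Nat.card A ∣ 2 ^ 4 := by
      have h4 : (Nat.card A).Coprime 3 := ((Nat.Prime.coprime_iff_not_dvd Nat.prime_three).2 h2).symm
      have h5 : Nat.card A ∣ 3 * 2 ^ 4 := by
        rw [show 3 * 2 ^ 4 = 48 by norm_num]
        exact h1
      exact h4.dvd_of_dvd_mul_left h5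
    obtain ⟨j, -, hj⟩ := (Nat.dvd_prime_pow Nat.prime_two).1 h3
    exact IsPGroup.of_card hj
  have hfix : ∀ x : (S : Subgroup G), (∀ a ∈ A, a x = x) → x = 1 := by
    intro x hx
    apply Subtype.ext
    apply SylowEight.eq_one_of_forall_normalizer hG S hcomm x.1 x.2
    intro n hn
    have h1 := hx _ ⟨⟨n, hn⟩, rfl⟩
    have h2 : n * (x : G) * n⁻¹ = x := congrArg Subtype.val h1
    exact mul_inv_eq_iff_eq_mul.1 h2
  obtain ⟨a, ⟨n, rfl⟩, ha⟩ := exists_inversion hS
    (fun x y => Subtype.ext (hcomm x.1 x.2 y.1 y.2)) A hA hfix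
  exact ⟨n, n.2, fun s hs => congrArg Subtype.val (ha ⟨s, hs⟩)⟩

end Cfsg.Agent.SmallSimple.SylowNine
end

-- part: SmallSimple/Order4680
section
set_option autoImplicit false

/-! There is no simple group of order 4680. -/

namespace Cfsg.Agent.SmallSimple.Order4680

open Subgroup

theorem not_simple_4680 {G : Type*} [Group G] [Finite G] [IsSimpleGroup G]
    (h : Nat.card G = 4680) : False := by
  have hG : ¬ IsMulCommutative G := Embed.not_comm_of_card_not_prime (by rw [h]; norm_num)
  have hp : Fact (Nat.Prime 13) := ⟨by norm_num⟩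
  obtain ⟨P⟩ : Nonempty (Sylow 13 G) := inferInstance
  have h13 : 13 ∣ Nat.card G := by rw [h]; norm_num
  have h169 : ¬ 13 ^ 2 ∣ Nat.card G := by rw [h]; norm_num
  have hP := PrimeLocal.card_of_not_sq_dvd h13 h169 P
  obtain ⟨e, K, hL⟩ := PrimeLocal.exists_local hG h13 h169 P
  obtain ⟨o, ho, ho'⟩ := hL.card_sylow hG (by norm_num) hP
  have hcard := hL.card_eq
  rw [h, ho] at hcard
  have hcard' : (1 + 13 * o) * (e * Nat.card K) = 360 := by
    have h1 : 13 * ((1 + 13 * o) * (e * Nat.card K)) = 13 * 360 := by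
      rw [← show 4680 = 13 * 360 by norm_num, hcard]
      ring
    exact Nat.eq_of_mul_eq_mul_left (by norm_num) h1
  have he1 := hL.one_lt
  have he2 := hL.dvd_pred
  have he3 : e ≤ 12 := Nat.le_of_dvd (by norm_num) he2
  have hm1 : 0 < e * Nat.card K := Nat.mul_pos (by omega) Nat.card_pos
  have hole : o ≤ 27 := by
    by_contra hcon
    push Not at hcon
    have h1 : (1 + 13 * 28) * 1 ≤ (1 + 13 * o) * (e * Nat.card K) :=
      Nat.mul_le_mul (by omega) hm1
    omega
  have hcases : o = 0 ∨ (o = 3 ∧ e * Nat.card K = 9) := by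
    generalize e * Nat.card K = m at *
    clear ho ho' hcard
    interval_cases o <;> omega
  rcases hcases with h0 | ⟨h3, h9⟩
  · rw [h0] at ho'
    rcases ho' with h1 | h1
    · rw [Nat.factorial_zero] at h1
      have := Nat.dvd_one.1 h1
      omega
    · omega
  have he : e = 3 ∧ Nat.card K = 3 := by
    have h1 : e = 3 := by
      interval_cases e <;> omega
    rw [h1] at h9
    exact ⟨h1, by omega⟩
  obtain ⟨he, hK⟩ := he
  have hn : Nat.card (Sylow 13 G) = 40 := by rw [ho, h3]
  have hN : Nat.card (normalizer ((P : Subgroup G) : Set G)) = 117 := by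
    have := hL.card_normalizer
    rw [he, hK] at this
    exact this
  have hPcard : Nat.card (P : Subgroup G) = 13 := hP
  have hNK : normalizer ((P : Subgroup G) : Set G) ≤ normalizer (K : Set G) := hL.normalizer_le
  have hPC : (P : Subgroup G) ≤ centralizer (K : Set G) := by
    intro y hy
    rw [mem_centralizer_iff]
    intro x hx
    exact hL.comm x hx y hy
  have hCN : centralizer (K : Set G) ≤ normalizer (K : Set G) := centralizer_le_normalizer _
  have hKbot : K ≠ ⊥ := by
    rintro rfl
    simp at hK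
  have hNKtop : normalizer (K : Set G) ≠ ⊤ := by
    intro h0
    rw [normalizer_eq_top_iff] at h0
    rcases h0.eq_bot_or_eq_top with h1 | h1
    · exact hKbot h1
    · rw [h1, Nat.card_congr Subgroup.topEquiv.toEquiv, h] at hK
      omega
  -- `N(K) = N(P)`
  have hNKcard : Nat.card (normalizer (K : Set G)) = 117 := by
    have h1 : Nat.card (Sylow 13 (normalizer (K : Set G))) =
        (normalizer ((P : Subgroup G) : Set G)).relIndex (normalizer (K : Set G)) :=
      SylFiveReduce.card_sylow_subgroup P _ (hPC.trans hCN)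
    have h2 : (normalizer ((P : Subgroup G) : Set G)).relIndex (normalizer (K : Set G)) *
        (normalizer (K : Set G)).index = 40 := by
      rw [relIndex_mul_index hNK, ← hn]
      exact P.card_eq_index_normalizer.symm
    have h3 : (normalizer ((P : Subgroup G) : Set G)).relIndex (normalizer (K : Set G))
        ≡ 1 [MOD 13] := by
      rw [← h1]
      exact card_sylow_modEq_one 13 _
    have h4 : (normalizer ((P : Subgroup G) : Set G)).relIndex (normalizer (K : Set G)) ∣ 40 :=
      ⟨_, h2.symm⟩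
    have h5 : (normalizer ((P : Subgroup G) : Set G)).relIndex (normalizer (K : Set G)) = 1 ∨
        (normalizer ((P : Subgroup G) : Set G)).relIndex (normalizer (K : Set G)) = 40 := by
      have h6 := Nat.le_of_dvd (by norm_num) h4
      revert h3 h4
      unfold Nat.ModEq
      generalize (normalizer ((P : Subgroup G) : Set G)).relIndex (normalizer (K : Set G)) = m at *
      interval_cases m <;> decide
    rcases h5 with h5 | h5
    · have h6 : normalizer (K : Set G) = normalizer ((P : Subgroup G) : Set G) :=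
        le_antisymm (relIndex_eq_one.1 h5) hNK
      rw [h6, hN]
    · exfalso
      rw [h5] at h2
      exact hNKtop (index_eq_one.1 (by omega))
  -- a Sylow 3-subgroup containing `K`
  have hK3 : IsPGroup 3 K := IsPGroup.of_card (n := 1) (by rw [hK, pow_one])
  obtain ⟨S, hKS⟩ := hK3.exists_le_sylow
  have hS : Nat.card (S : Subgroup G) = 9 :=
    Simple168.card_sylow_of_eq 3 2 520 (by rw [h]; norm_num) (by norm_num) S
  have hcommS : IsMulCommutative (S : Subgroup G) :=
    IsPGroup.isMulCommutative_of_card_eq_prime_sq (p := 3) hS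
  have hSC : (S : Subgroup G) ≤ centralizer (K : Set G) := by
    intro s hs
    rw [mem_centralizer_iff]
    intro x hx
    exact congrArg Subtype.val
      (hcommS.is_comm.comm (⟨x, hKS hx⟩ : (S : Subgroup G)) ⟨s, hs⟩)
  have hCK : normalizer (K : Set G) = centralizer (K : Set G) := by
    symm
    apply Subgroup.eq_of_le_of_card_ge hCN
    rw [hNKcard]
    have h1 := Subgroup.card_dvd_of_le hPC
    have h2 := Subgroup.card_dvd_of_le hSC
    rw [hPcard] at h1
    rw [hS] at h2
    have h3 : 13 * 9 ∣ Nat.card (centralizer (K : Set G)) :=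
      Nat.Coprime.mul_dvd_of_dvd_of_dvd (by norm_num) h1 h2
    exact Nat.le_of_dvd Nat.card_pos h3
  obtain ⟨n, -, hn'⟩ := SylowNine.exists_inverting hG S hS
  have hnK : n ∈ normalizer (K : Set G) := by
    rw [mem_normalizer_iff_map_conj_eq]
    have h1 : K.map (MulAut.conj n).toMonoidHom ≤ K := by
      rintro _ ⟨x, hx, rfl⟩
      show n * x * n⁻¹ ∈ K
      rw [hn' x (hKS hx)]
      exact K.inv_mem hx
    apply Subgroup.eq_of_le_of_card_ge h1
    exact le_of_eq (Nat.card_congr (K.equivMapOfInjective _ (MulAut.conj n).injective).toEquiv)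
  rw [hCK, mem_centralizer_iff] at hnK
  obtain ⟨⟨x, hx⟩, hx0⟩ := (Subgroup.ne_bot_iff_exists_ne_one (H := K)).1 hKbot
  have hx1 : x ≠ 1 := fun h => hx0 (Subtype.ext h)
  have h1 := hnK x hx
  have h2 := hn' x (hKS hx)
  rw [← h1, mul_inv_cancel_right] at h2
  have h4 : orderOf x ∣ 2 := orderOf_dvd_of_pow_eq_one (by
    rw [pow_two]
    nth_rewrite 1 [h2]
    exact inv_mul_cancel x)
  have h5 : orderOf x ∣ 3 := by
    have := orderOf_dvd_natCard (⟨x, hx⟩ : K)
    rwa [hK, Subgroup.orderOf_mk] at this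
  have h6 : orderOf x ∣ 1 := by
    have := Nat.dvd_gcd h4 h5
    simpa using this
  exact hx1 (orderOf_eq_one_iff.1 (Nat.dvd_one.1 h6))

end Cfsg.Agent.SmallSimple.Order4680
end
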