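import Cfsg.Agent.SmallSimple.ThetaCount
import Cfsg.Agent.SmallSimple.TheoremBCor
set_option linter.all false

/-!
# Theorem C: the irreducible characters over an irreducible character of the `p`-regular part of the
centralizer of a Sylow subgroup of prime order

`P` a Sylow `p`-subgroup of order `p`, `K` the `p`-regular part of `C(P)` (`IsComp p P K`, so
`C(P) = P × K`), `θ ∈ Irr K`.

* `part θ χ x = |K|⁻¹ ∑_{y ∈ K} χ (x y) conj θ(y)`, so that `χ (x y) = ∑_θ part θ χ x θ(y)` for
  `x ∈ P` (`ThetaSetup.sum_part`);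
* `Over P θ` : the `χ ∈ Irr G` with `part θ χ ≠ 0` on `P#`; depends only on the `N(P)`-class of `θ`
  (`ThetaOrtho.Over_tw`); disjoint for non-conjugate `θ` (`disjoint_Over`);
* `theoremC` : the structure of `Over P θ`.
-/

set_option autoImplicit false
set_option linter.unusedSectionVars false
open Cfsg
open scoped ComplexConjugate

namespace Cfsg.Agent.SmallSimple.TheoremC

open Subgroup
open Cfsg.Agent.Characters.Core Cfsg.Agent.Characters.Linear
open Cfsg.Agent.SmallSimple.PrimeDual Cfsg.Agent.SmallSimple.ThetaSetup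
open Cfsg.Agent.SmallSimple.ThetaOrtho Cfsg.Agent.SmallSimple.ThetaGroup
open Cfsg.Agent.SmallSimple.ThetaCount

universe u

variable {G : Type u} [Group G] [Finite G] {p : ℕ} [Fact p.Prime] {P : Sylow p G}
  {K : Subgroup G}

theorem card_Over (hK : IsComp p (P : Subgroup G) K) (hP : Nat.card P = p) {θ : K → ℂ}
    (hθ : IsIrrCharacter K θ) {e t : ℕ} (he : Nat.card (stabAct hK θ) = e) (het : e * t = p - 1) :
    Nat.card (Over P θ) = e + t := (sharp hK hP ⟨θ, hθ⟩).1 e t he het

theorem disjoint_Over (hK : IsComp p (P : Subgroup G) K) (hP : Nat.card P = p) {θ θ' : K → ℂ}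
    (hθ : IsIrrCharacter K θ) (hθ' : IsIrrCharacter K θ')
    (hne : ∀ n ∈ normalizer ((P : Subgroup G) : Set G), tw θ n ≠ θ') :
    Disjoint (Over P θ) (Over P θ') := (sharp hK hP ⟨θ, hθ⟩).2 ⟨θ', hθ'⟩ hne

/-- Orthogonality to `p`-regular elements. -/
theorem sum_mul_conj_part [Fintype (IrrCharacter G)] (hK : IsComp p (P : Subgroup G) K)
    (hP : Nat.card P = p) (θ : K → ℂ) {g : G} (hg : ¬ p ∣ orderOf g) {x : P} (hx : x ≠ 1) :
    ∑ χ : IrrCharacter G, (χ : G → ℂ) g * conj (part θ (χ : G → ℂ) x) = 0 := by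
  classical
  have := Fintype.ofFinite G
  have := Fintype.ofFinite K
  have h1 : ∀ χ : IrrCharacter G, (χ : G → ℂ) g * conj (part θ (χ : G → ℂ) x) =
      (Nat.card K : ℂ)⁻¹ * ∑ y : K, θ y * ((χ : G → ℂ) g * conj ((χ : G → ℂ) (x * y))) := by
    intro χ
    rw [part_eq, map_mul, map_inv₀, Complex.conj_natCast, map_sum, Finset.mul_sum, Finset.mul_sum,
      Finset.mul_sum]
    refine Finset.sum_congr rfl fun y _ => ?_
    rw [map_mul, Complex.conj_conj]
    ring
  rw [Finset.sum_congr rfl fun χ _ => h1 χ, ← Finset.mul_sum, Finset.sum_comm,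
    Finset.sum_eq_zero, mul_zero]
  intro y _
  rw [← Finset.mul_sum, sum_irr_eq_card, Finset.sum_eq_zero, mul_zero]
  intro c _
  rw [if_neg]
  intro h
  apply hg
  have h2 : orderOf (c * g * c⁻¹) = orderOf g := by
    have := orderOf_injective (MulAut.conj c).toMonoidHom (MulAut.conj c).injective g
    simpa using this
  have hx1 : (x : G) ≠ 1 := fun h => hx (Subtype.ext h)
  have hc : Commute (x : G) (y : G) := hK.comm x.2 y.2
  have ho := Blocks.CyclicOrtho.orderOf_eq P hP x.2 hx1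
  have hcop : (orderOf (x : G)).Coprime (orderOf (y : G)) := by
    rw [ho]
    exact ((Fact.out : p.Prime).coprime_iff_not_dvd).2 ((hK y).1 y.2).2
  rw [← h2, h, hc.orderOf_mul_eq_mul_orderOf_of_coprime hcop, ho]
  exact dvd_mul_right _ _

/-- **Theorem C.** -/
theorem theoremC (hK : IsComp p (P : Subgroup G) K) (hP : Nat.card P = p) {θ : K → ℂ}
    (hθ : IsIrrCharacter K θ) {e t : ℕ} (he : Nat.card (stabAct hK θ) = e) (ht : e * t = p - 1) :
    ∃ (NE X : Finset (IrrCharacter G)) (ε : IrrCharacter G → ℤ) (d : ℤ)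
      (S : IrrCharacter G → Finset (P →* ℂˣ)),
      (∀ χ : IrrCharacter G, χ ∈ Over P θ ↔ χ ∈ NE ∨ χ ∈ X) ∧ Disjoint NE X ∧
      NE.card = e ∧ X.card = t ∧
      (∀ χ ∈ NE, ε χ = 1 ∨ ε χ = -1) ∧ (d = 1 ∨ d = -1) ∧
      (∀ χ ∈ NE, ∀ x : P, x ≠ 1 → part θ (χ : G → ℂ) x = ε χ) ∧
      (∀ Θ ∈ X, (S Θ).card = e ∧ 1 ∉ S Θ ∧
        (∀ r ∈ stabAct hK θ, ∀ l ∈ S Θ, PrimeAct.tw r l ∈ S Θ) ∧
        ∀ x : P, x ≠ 1 → part θ (Θ : G → ℂ) x = d * ∑ l ∈ S Θ, ((l x : ℂˣ) : ℂ)) ∧
      (∀ Θ ∈ X, ∀ Θ' ∈ X, Θ ≠ Θ' → Disjoint (S Θ) (S Θ')) ∧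
      (∀ l : P →* ℂˣ, l ≠ 1 → ∃ Θ ∈ X, l ∈ S Θ) ∧
      (∀ Θ ∈ X, ∀ g : G, ¬ p ∣ orderOf g →
        ∑ χ ∈ NE, (ε χ : ℂ) * (χ : G → ℂ) g = d * (Θ : G → ℂ) g) := by
  classical
  have hp : p.Prime := Fact.out
  have hp1 := hp.one_lt
  have := finite_irr (G := G)
  have := Fintype.ofFinite (IrrCharacter G)
  have := finite_dual hp hP
  have := Fintype.ofFinite (P →* ℂˣ)
  let B := Over P θ
  have := Fintype.ofFinite B
  have hsumB : ∀ f : IrrCharacter G → ℂ, (∀ χ, χ ∉ B → f χ = 0) →
      ∑ χ : IrrCharacter G, f χ = ∑ i : B, f i := by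
    intro f hf
    have h1 := Finset.sum_set_coe B (f := f)
    rw [h1]
    symm
    refine Finset.sum_subset (Finset.subset_univ _) fun χ _ hχ => hf χ (by simpa using hχ)
  have hepos : 0 < e := by
    rcases Nat.eq_zero_or_pos e with h | h
    · rw [h, zero_mul] at ht; omega
    · exact h
  have hcardB : Fintype.card B = e + t := by
    rw [← Nat.card_eq_fintype_card]; exact card_Over hK hP hθ he ht
  have hx₀ : ∃ x : P, x ≠ 1 := by
    have : Nontrivial P := by
      rw [← Finite.one_lt_card_iff_nontrivial]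
      exact hp1.trans_eq hP.symm
    exact exists_ne 1
  obtain ⟨x₀, hx₀⟩ := hx₀
  obtain ⟨-, NE, ε, c, S, hNE, hNEv, hXv, hSdisj, hScov⟩ :=
    PrimeAct.exists_structure hp hP (stabAct hK θ) he ht
      (fun (i : B) (x : P) => part θ ((i : IrrCharacter G) : G → ℂ) x)
      (fun i => isCharacter_part hK (isIrr_isCharacter i.1.2) hθ)
      (fun i r hr x => part_stabAct hK (isIrr_isClassFunction i.1.2) hr x)
      (fun u v hu hv => by
        rw [← sum_part_self hK hP hθ hu hv, hsumB]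
        intro χ hχ
        rw [part_eq_zero hχ hu, zero_mul])
      (fun i => i.2) hcardB.ge
  -- the relation
  have hrel : ∀ i : B, i ∉ NE → ∀ g : G, ¬ p ∣ orderOf g →
      ∑ j ∈ NE, (ε j : ℂ) * (j.1 : G → ℂ) g = c i * (i.1 : G → ℂ) g := by
    intro i hi g hg
    let A : ℂ := ∑ j ∈ NE, (ε j : ℂ) * (j.1 : G → ℂ) g
    let b : (P →* ℂˣ) → ℂ := fun l => (if l = 1 then A else 0) +
      ∑ j ∈ Finset.univ \ NE, if l ∈ S j then (c j : ℂ) * (j.1 : G → ℂ) g else 0
    have hb : ∀ x : P, x ≠ 1 → ∑ l : P →* ℂˣ, b l * conj ((l x : ℂˣ) : ℂ) = 0 := by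
      intro x hx
      have h1 := sum_mul_conj_part hK hP θ hg hx
      rw [hsumB _ fun χ hχ => by rw [part_eq_zero hχ hx, map_zero, mul_zero]] at h1
      have h2 : ∑ l : P →* ℂˣ, b l * conj ((l x : ℂˣ) : ℂ) =
          A + ∑ j ∈ Finset.univ \ NE, (c j : ℂ) * (j.1 : G → ℂ) g *
            ∑ l ∈ S j, conj ((l x : ℂˣ) : ℂ) := by
        simp only [b, add_mul, Finset.sum_add_distrib, ite_mul, zero_mul, Finset.sum_mul]
        congr 1
        · rw [Finset.sum_ite_eq' Finset.univ (1 : P →* ℂˣ), if_pos (Finset.mem_univ _)]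
          simp
        · rw [Finset.sum_comm]
          refine Finset.sum_congr rfl fun j _ => ?_
          rw [Finset.mul_sum, ← Finset.sum_filter]
          refine Finset.sum_congr ?_ fun _ _ => rfl
          ext l; simp
      rw [h2, ← h1, ← Finset.sum_sdiff (Finset.subset_univ NE), add_comm]
      congr 1
      · refine Finset.sum_congr rfl fun j hj => ?_
        have hj' : j ∉ NE := by simpa using hj
        rw [(hXv j hj').2.2.2.2 x hx, map_mul, map_sum]
        have : conj ((c j : ℤ) : ℂ) = c j := by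
          rw [← Complex.ofReal_intCast, Complex.conj_ofReal]
        rw [this]
        ring
      · refine Finset.sum_congr rfl fun j hj => ?_
        rw [(hNEv j hj).2 x hx]
        have : conj ((ε j : ℤ) : ℂ) = ε j := by
          rw [← Complex.ofReal_intCast, Complex.conj_ofReal]
        rw [this]
        ring
    obtain ⟨l, hl⟩ : (S i).Nonempty := by
      rw [← Finset.card_pos, (hXv i hi).2.1]; exact hepos
    have hl1 : l ≠ 1 := by rintro rfl; exact (hXv i hi).2.2.1 hl
    have h3 := eq_of_sum_eq_zero b hb l 1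
    have h4 : b l = (c i : ℂ) * (i.1 : G → ℂ) g := by
      simp only [b, if_neg hl1, zero_add]
      rw [Finset.sum_eq_single i]
      · rw [if_pos hl]
      · intro j hj hji
        have hj' : j ∉ NE := by simpa using hj
        rw [if_neg]
        intro hlj
        exact Finset.disjoint_left.1 (hSdisj i hi j hj' hji.symm) hl hlj
      · intro h
        exact absurd (by simpa using hi) h
    have h5 : b 1 = A := by
      simp only [b, if_true]
      rw [Finset.sum_eq_zero, add_zero]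
      intro j hj
      have hj' : j ∉ NE := by simpa using hj
      rw [if_neg (hXv j hj').2.2.1]
    rw [h4, h5] at h3
    exact h3.symm
  -- the common sign
  have hXcard : (Finset.univ \ NE : Finset B).card = t := by
    rw [Finset.card_sdiff_of_subset (Finset.subset_univ _), Finset.card_univ, hcardB, hNE]
    omega
  have htpos : 0 < t := by
    rcases Nat.eq_zero_or_pos t with h | h
    · rw [h, mul_zero] at ht; omega
    · exact h
  obtain ⟨i₁, hi₁⟩ : (Finset.univ \ NE : Finset B).Nonempty := by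
    rw [← Finset.card_pos, hXcard]; exact htpos
  have hi₁' : i₁ ∉ NE := by simpa using hi₁
  have hp1' : ¬ p ∣ orderOf (1 : G) := by
    rw [orderOf_one]; exact fun h => hp1.ne' (Nat.dvd_one.1 h)
  have hd : ∀ i : B, i ∉ NE → c i = c i₁ := by
    intro i hi
    have h1 := (hrel i hi 1 hp1').symm.trans (hrel i₁ hi₁' 1 hp1')
    obtain ⟨a, ha, ha'⟩ := isIrr_apply_one i.1.2
    obtain ⟨a₁, ha₁, ha₁'⟩ := isIrr_apply_one i₁.1.2
    rw [ha', ha₁'] at h1
    have h2 : c i * (a : ℤ) = c i₁ * (a₁ : ℤ) := by exact_mod_cast h1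
    rcases (hXv i hi).1 with h3 | h3 <;> rcases (hXv i₁ hi₁').1 with h4 | h4 <;>
      rw [h3, h4] at h2 ⊢ <;> omega
  refine ⟨NE.map (Function.Embedding.subtype _), (Finset.univ \ NE).map (Function.Embedding.subtype _),
    fun χ => if h : χ ∈ B then ε ⟨χ, h⟩ else 0, c i₁,
    fun χ => if h : χ ∈ B then S ⟨χ, h⟩ else ∅, ?_, ?_, ?_, ?_, ?_, ?_, ?_, ?_, ?_, ?_, ?_⟩
  · intro χ
    constructor
    · intro h
      by_cases hχ : (⟨χ, h⟩ : B) ∈ NE
      · left
        rw [Finset.mem_map]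
        exact ⟨⟨χ, h⟩, hχ, rfl⟩
      · right
        rw [Finset.mem_map]
        exact ⟨⟨χ, h⟩, by simpa using hχ, rfl⟩
    · rintro (h | h)
      · rw [Finset.mem_map] at h
        obtain ⟨i, -, rfl⟩ := h
        exact i.2
      · rw [Finset.mem_map] at h
        obtain ⟨i, -, rfl⟩ := h
        exact i.2
  · rw [Finset.disjoint_map]
    exact Finset.disjoint_sdiff
  · rw [Finset.card_map, hNE]
  · rw [Finset.card_map, hXcard]
  · intro χ hχ
    rw [Finset.mem_map] at hχ
    obtain ⟨i, hi, rfl⟩ := hχ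
    have h1 : (Function.Embedding.subtype _ i : IrrCharacter G) ∈ B := i.2
    simp only [dif_pos h1]
    exact (hNEv i hi).1
  · exact (hXv i₁ hi₁').1
  · intro χ hχ x hx
    rw [Finset.mem_map] at hχ
    obtain ⟨i, hi, rfl⟩ := hχ
    have h1 : (Function.Embedding.subtype _ i : IrrCharacter G) ∈ B := i.2
    simp only [dif_pos h1]
    exact (hNEv i hi).2 x hx
  · intro χ hχ
    rw [Finset.mem_map] at hχ
    obtain ⟨i, hi, rfl⟩ := hχ
    have hi' : i ∉ NE := by simpa using hi
    have h1 : (Function.Embedding.subtype _ i : IrrCharacter G) ∈ B := i.2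
    simp only [dif_pos h1]
    refine ⟨(hXv i hi').2.1, (hXv i hi').2.2.1, (hXv i hi').2.2.2.1, ?_⟩
    intro x hx1
    rw [← hd i hi']
    exact (hXv i hi').2.2.2.2 x hx1
  · intro χ hχ χ' hχ' hne
    rw [Finset.mem_map] at hχ hχ'
    obtain ⟨i, hi, rfl⟩ := hχ
    obtain ⟨j, hj, rfl⟩ := hχ'
    have hi' : i ∉ NE := by simpa using hi
    have hj' : j ∉ NE := by simpa using hj
    have h1 : (Function.Embedding.subtype _ i : IrrCharacter G) ∈ B := i.2
    have h2 : (Function.Embedding.subtype _ j : IrrCharacter G) ∈ B := j.2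
    simp only [dif_pos h1, dif_pos h2]
    exact hSdisj i hi' j hj' (fun h => hne (by rw [h]))
  · intro l hl
    obtain ⟨i, hi, hil⟩ := hScov l hl
    refine ⟨i.1, ?_, ?_⟩
    · rw [Finset.mem_map]
      exact ⟨i, by simpa using hi, rfl⟩
    · have h1 : i.1 ∈ B := i.2
      simp only [dif_pos h1]
      exact hil
  · intro χ hχ g hg
    rw [Finset.mem_map] at hχ
    obtain ⟨i, hi, rfl⟩ := hχ
    have hi' : i ∉ NE := by simpa using hi
    rw [← hd i hi', Finset.sum_map]
    rw [← show (c i : ℂ) * (i.1 : G → ℂ) g = c i * ((Function.Embedding.subtype _ i : IrrCharacter G) : G → ℂ) g from rfl,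
      ← hrel i hi' g hg]
    refine Finset.sum_congr rfl fun j _ => ?_
    have h1 : (Function.Embedding.subtype _ j : IrrCharacter G) ∈ B := j.2
    simp only [dif_pos h1]
    rfl

/-! ### Orbits -/

open scoped Classical in
/-- The `N(P)`-orbit of `θ`. -/
noncomputable def orb (P : Sylow p G) (K : Subgroup G) (θ : K → ℂ) : Finset (IrrCharacter K) :=
  haveI : Finite (IrrCharacter K) := finite_irr
  haveI := Fintype.ofFinite (IrrCharacter K)
  Finset.univ.filter fun θ' : IrrCharacter K =>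
    ∃ n ∈ normalizer ((P : Subgroup G) : Set G), tw θ n = θ'

theorem mem_orb {θ : K → ℂ} {θ' : IrrCharacter K} :
    θ' ∈ orb P K θ ↔ ∃ n ∈ normalizer ((P : Subgroup G) : Set G), tw θ n = θ' := by
  unfold orb
  simp

/-- `e_θ * |orbit of θ| = |N(P) : C(P)|`. -/
theorem card_stabAct_mul_card_orb (hK : IsComp p (P : Subgroup G) K) (hP : Nat.card P = p)
    {θ : K → ℂ} (hθ : IsIrrCharacter K θ) :
    Nat.card (stabAct hK θ) * (orb P K θ).card =
      (centralizer ((P : Subgroup G) : Set G)).relIndex (normalizer ((P : Subgroup G) : Set G)) := by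
  classical
  have : Finite (IrrCharacter K) := finite_irr
  have := Fintype.ofFinite (IrrCharacter K)
  set N := normalizer ((P : Subgroup G) : Set G) with hN
  -- the action
  let _ : MulAction N (IrrCharacter K) :=
    { smul := fun n θ => ⟨tw (θ : K → ℂ) ((n⁻¹ : N) : G), isIrr_tw hK θ.2 (n⁻¹ : N).2⟩
      one_smul := fun θ => Subtype.ext (by
        show tw (θ : K → ℂ) (((1 : N)⁻¹ : N) : G) = θ
        rw [inv_one]
        exact tw_one _)
      mul_smul := fun n m θ => Subtype.ext (by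
        show tw (θ : K → ℂ) (((n * m)⁻¹ : N) : G) = tw (tw (θ : K → ℂ) ((m⁻¹ : N) : G)) ((n⁻¹ : N) : G)
        rw [mul_inv_rev, Subgroup.coe_mul, tw_mul hK _ (m⁻¹ : N).2 (n⁻¹ : N).2]) }
  have hsm : ∀ (n : N) (θ : IrrCharacter K), ((n • θ : IrrCharacter K) : K → ℂ) =
      tw (θ : K → ℂ) ((n⁻¹ : N) : G) := fun _ _ => rfl
  let θ₀ : IrrCharacter K := ⟨θ, hθ⟩
  have horb : Nat.card (MulAction.orbit N θ₀) = (orb P K θ).card := by
    rw [Nat.card_eq_card_finite_toFinset (Set.toFinite _)]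
    congr 1
    ext θ'
    rw [Set.Finite.mem_toFinset, mem_orb]
    constructor
    · rintro ⟨n, rfl⟩
      exact ⟨((n⁻¹ : N) : G), (n⁻¹ : N).2, rfl⟩
    · rintro ⟨n, hn, h⟩
      refine ⟨(⟨n, hn⟩ : N)⁻¹, Subtype.ext ?_⟩
      show tw θ ((((⟨n, hn⟩ : N)⁻¹)⁻¹ : N) : G) = θ'
      rw [inv_inv]
      exact h
  -- the stabilizer
  let φ : N →* MulAut P :=
    { toFun := fun n => cP n.2
      map_one' := by
        ext x
        rw [coe_cP]; simp
      map_mul' := fun a b => by
        ext x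
        rw [MulAut.mul_apply, coe_cP, coe_cP, coe_cP]
        simp only [coe_mul]
        group }
  have hφ : ∀ (n : N) (x : P), ((φ n x : P) : G) = n * x * (n : G)⁻¹ := fun _ _ => rfl
  have hker : ∀ n : N, φ n = 1 ↔ (n : G) ∈ centralizer ((P : Subgroup G) : Set G) := by
    intro n
    rw [mem_centralizer_iff]
    constructor
    · intro h x hx
      have h1 := congrArg Subtype.val (DFunLike.congr_fun h ⟨x, hx⟩)
      rw [hφ] at h1
      have h2 : (n : G) * x * (n : G)⁻¹ = x := h1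
      calc x * n = ((n : G) * x * (n : G)⁻¹) * n := by rw [h2]
        _ = _ := by group
    · intro h
      ext x
      rw [hφ]
      have h2 := h x x.2
      show (n : G) * x * (n : G)⁻¹ = x
      rw [← h2]
      group
  let ψ : MulAction.stabilizer N θ₀ →* MulAut P := φ.comp (MulAction.stabilizer N θ₀).subtype
  have hst : ∀ n : N, n ∈ MulAction.stabilizer N θ₀ ↔ tw θ (n : G) = θ := by
    intro n
    rw [MulAction.mem_stabilizer_iff, Subtype.ext_iff, hsm]
    show tw θ ((n⁻¹ : N) : G) = θ ↔ _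
    constructor
    · intro h
      have h1 := tw_mul hK θ (n⁻¹ : N).2 n.2
      rw [h] at h1
      rw [← h1]
      have h2 : ((n⁻¹ : N) : G) * (n : G) = 1 := by simp
      rw [h2, tw_one]
    · intro h
      have h1 := tw_mul hK θ n.2 (n⁻¹ : N).2
      rw [h] at h1
      rw [← h1]
      have h2 : (n : G) * ((n⁻¹ : N) : G) = 1 := by simp
      rw [h2, tw_one]
  have hrange : ψ.range = stabAct hK θ := by
    ext r
    constructor
    · rintro ⟨n, rfl⟩
      exact ⟨((n : N) : G), (n : N).2, fun x => hφ _ x, (hst _).1 n.2⟩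
    · rintro ⟨n, hn, hr, hrt⟩
      refine ⟨⟨⟨n, hn⟩, (hst _).2 hrt⟩, ?_⟩
      ext x
      rw [hr]
      rfl
  have hkerc : Nat.card ψ.ker = Nat.card (centralizer ((P : Subgroup G) : Set G)) := by
    refine Nat.card_congr ⟨fun z => ⟨((z : MulAction.stabilizer N θ₀) : N), (hker _).1 z.2⟩,
      fun y => ⟨⟨⟨y, centralizer_le_normalizer _ y.2⟩, (hst _).2
        (tw_centralizer hK hP (isIrr_isClassFunction hθ) y.2)⟩, (hker _).2 y.2⟩,
      fun _ => rfl, fun _ => rfl⟩
  have h1 : Nat.card (MulAction.stabilizer N θ₀) =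
      Nat.card (stabAct hK θ) * Nat.card (centralizer ((P : Subgroup G) : Set G)) := by
    rw [← hrange, ← hkerc, ← Subgroup.index_ker, mul_comm]
    exact (ψ.ker.card_mul_index).symm
  have := Fintype.ofFinite N
  have := Fintype.ofFinite (MulAction.stabilizer N θ₀)
  have := Fintype.ofFinite (MulAction.orbit N θ₀)
  have h2 := MulAction.card_orbit_mul_card_stabilizer_eq_card_group N θ₀
  rw [← Nat.card_eq_fintype_card, ← Nat.card_eq_fintype_card, ← Nat.card_eq_fintype_card, horb, h1]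
    at h2
  have h3 : Nat.card N = Nat.card (centralizer ((P : Subgroup G) : Set G)) *
      (centralizer ((P : Subgroup G) : Set G)).relIndex N := by
    rw [Subgroup.relIndex, ← Nat.card_congr (Subgroup.subgroupOfEquivOfLe
      (centralizer_le_normalizer ((P : Subgroup G) : Set G))).toEquiv]
    exact (Subgroup.card_mul_index _).symm
  have hC : 0 < Nat.card (centralizer ((P : Subgroup G) : Set G)) := Nat.card_pos
  apply Nat.eq_of_mul_eq_mul_left hC
  rw [← h3, ← h2]
  ring

end Cfsg.Agent.SmallSimple.TheoremC
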